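import Mathlib

/-!
The arithmetic of the triangle free case.
-/

set_option autoImplicit false

namespace Cfsg.Agent.Perm.RankThreeFrob

theorem arith_gcd {M e E g : ℕ} (hM : 1 ≤ M) (he : 1 ≤ e) (hE : E ^ 2 + 2 * e = e ^ 2 + 4 * M * e + 1)
    (hg1 : g ∣ 4 * M * e + 1) (hg2 : g ∣ E) (hg3 : 2 * (4 * M * e + 1) < g ^ 2) : False := by
  have hEpos : 0 < E := by
    rcases Nat.eq_zero_or_pos E with rfl | h
    · nlinarith
    · exact h
  have hcop : Nat.Coprime g e := by
    refine Nat.Coprime.coprime_dvd_left hg1 ?_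
    rw [Nat.coprime_comm, show 4 * M * e + 1 = 1 + 4 * M * e by ring, Nat.coprime_add_mul_right_right]
    exact Nat.coprime_one_right e
  rcases Nat.lt_or_ge e 3 with h3 | h3
  · interval_cases e
    · have h1 : (g : ℤ) ∣ (E : ℤ) ^ 2 := dvd_pow (by exact_mod_cast hg2) two_ne_zero
      have h2 : (g : ℤ) ∣ (4 * M * 1 + 1 : ℤ) := by exact_mod_cast hg1
      have h4 : (g : ℤ) ∣ 1 := by
        have := Int.dvd_sub h2 h1
        have e : (4 * M * 1 + 1 : ℤ) - (E : ℤ) ^ 2 = 1 := by
          have : ((E ^ 2 + 2 * 1 : ℕ) : ℤ) = ((1 ^ 2 + 4 * M * 1 + 1 : ℕ) : ℤ) := by exact_mod_cast hE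
          push_cast at this; linarith
        rwa [e] at this
      have := Int.eq_one_of_dvd_one (by positivity) h4
      have : g = 1 := by exact_mod_cast this
      subst this
      omega
    · have := Nat.le_of_dvd hEpos hg2
      nlinarith
  · obtain ⟨x, rfl⟩ : ∃ x, e = x + 2 := ⟨e - 2, by omega⟩
    have hgx : g ∣ x := by
      have h1 : g ∣ (x + 2) * x := by
        have h2 : g ∣ E ^ 2 := dvd_pow hg2 two_ne_zero
        have h3 : E ^ 2 = (x + 2) * x + (4 * M * (x + 2) + 1) := by nlinarith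
        rw [h3] at h2
        exact (Nat.dvd_add_iff_left hg1).2 h2
      exact hcop.dvd_of_dvd_mul_left h1
    obtain ⟨j, rfl⟩ := hgx
    have hg8 : g ∣ 8 * M + 1 := by
      rw [show 4 * M * (g * j + 2) + 1 = (8 * M + 1) + g * (4 * M * j) by ring] at hg1
      exact (Nat.dvd_add_iff_left (Dvd.intro _ rfl)).2 hg1
    have hgle := Nat.le_of_dvd (by omega) hg8
    have hj : j = 1 := by
      rcases Nat.lt_or_ge j 2 with h | h
      · interval_cases j
        · omega
        · rfl
      · nlinarith [Nat.mul_le_mul_left (g * M) h]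
    subst hj
    have hg : g = 8 * M + 1 := by
      by_contra hne
      have : g ≤ 8 * M := by omega
      nlinarith
    subst hg
    obtain ⟨z, rfl⟩ := hg2
    have h1 : (8 * M + 1) * ((8 * M + 1) * z ^ 2) = (8 * M + 1) * (12 * M + 4) := by nlinarith
    have h2 : (8 * M + 1) * z ^ 2 = 12 * M + 4 := Nat.eq_of_mul_eq_mul_left (by omega) h1
    rcases Nat.lt_or_ge z 2 with h | h
    · interval_cases z <;> omega
    · nlinarith [Nat.mul_le_mul (le_refl (8 * M + 1)) (Nat.pow_le_pow_left h 2)]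

theorem arith_ij {i j e M Q p n : ℤ} (hi : 4 ≤ i) (heven : i % 2 = 0) (hj : 1 ≤ j) (he : 1 ≤ e)
    (hje : j ^ 2 = 2 * e * i + 1) (hMij : 2 * M - 1 = i + j) (hQ : 2 * e = Q * (M + 1)) (hn : 1 ≤ n)
    (hn2 : n < i) (hpj : p * j + n = 4 * i) (hp2 : n * (j + 2 * i) + p = 2 * i * (i - 2))
    (hE : n * (e + j) + 2 = (i - 2) * j) (hneven : n % 2 = 0) : e = 10 ∧ M = 9 := by
  have hQ1 : 1 ≤ Q := by nlinarith
  have hp1 : 1 ≤ p := by nlinarith
  have hj4 : j < 4 * i := by nlinarith
  have hQ2 : 2 * (j ^ 2 - 1) = Q * i * (i + j + 3) := by linear_combination 2 * hje + 2 * i * hQ + Q * i * hMij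
  have hQ6 : Q ≤ 6 := by
    by_contra hc
    have h7 : 7 ≤ Q := by omega
    have h1 : 7 * (i * (i + j + 3)) ≤ 2 * (j ^ 2 - 1) := by
      rw [hQ2, mul_assoc]
      exact mul_le_mul_of_nonneg_right h7 (by positivity)
    nlinarith
  have hjlow : i < j := by
    by_contra hc
    have h1 : 1 * (i * (i + j + 3)) ≤ 2 * (j ^ 2 - 1) := by
      rw [hQ2, mul_assoc]
      exact mul_le_mul_of_nonneg_right hQ1 (by positivity)
    nlinarith
  have hp3 : p ≤ 3 := by
    by_contra hc
    have h4 : 4 * j ≤ p * j := mul_le_mul_of_nonneg_right (by omega) (by omega)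
    omega
  have hquad : 6 * i ^ 2 + (4 - 2 * p) * i * j - p * j ^ 2 + 4 * i + p = 0 := by
    have hn' : n = 4 * i - p * j := by linarith
    rw [hn'] at hp2
    linear_combination hp2
  have hlin : (12 - p * Q) * i + (8 - 4 * p - p * Q) * j + (8 - 3 * (p * Q)) = 0 := by
    have : i * ((12 - p * Q) * i + (8 - 4 * p - p * Q) * j + (8 - 3 * (p * Q))) = 0 := by
      linear_combination 2 * hquad + p * hQ2
    rcases mul_eq_zero.1 this with h | h
    · omega
    · exact h
  have hi10 : i ≤ 10 := by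
    interval_cases p <;> interval_cases Q <;> first
      | omega
      | nlinarith
  have hj40 : j < 40 := by omega
  interval_cases p <;> interval_cases Q <;> interval_cases i <;> first
    | omega
    | (interval_cases j <;> omega)

theorem arith_zero {M e E n0 : ℕ} (hM : 1 ≤ M) (he : 1 ≤ e) (hE : E ^ 2 + 2 * e = e ^ 2 + 4 * M * e + 1)
    (hn : 2 * E * n0 + 1 = (2 * M + 1) * (E + e)) (hdvd : M + 1 ∣ 2 * M * e * (2 * M + 1)) :
    (M = 1 ∧ e = 1) ∨ (M = 9 ∧ e = 10) := by
  have hQ : M + 1 ∣ 2 * e := by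
    obtain ⟨r, hr⟩ := hdvd
    have : ((M : ℤ) + 1) ∣ (2 * e : ℤ) := by
      refine ⟨(r : ℤ) - 2 * e * (2 * M - 1), ?_⟩
      have hr' : (2 * M * e * (2 * M + 1) : ℤ) = ((M : ℤ) + 1) * r := by exact_mod_cast hr
      linear_combination hr'
    exact_mod_cast this
  obtain ⟨Q, hQ⟩ := hQ
  have hE' : (E : ℤ) ^ 2 + 2 * e = (e : ℤ) ^ 2 + 4 * M * e + 1 := by exact_mod_cast hE
  have hn' : 2 * (E : ℤ) * n0 + 1 = (2 * M + 1) * ((E : ℤ) + e) := by exact_mod_cast hn
  have hQ' : 2 * (e : ℤ) = Q * ((M : ℤ) + 1) := by rw [mul_comm (Q : ℤ)]; exact_mod_cast hQ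
  have heE : (e : ℤ) < E := by nlinarith
  obtain ⟨j, hjdef⟩ : ∃ j : ℤ, (E : ℤ) = e + j := ⟨(E : ℤ) - e, by ring⟩
  have hj : 1 ≤ j := by omega
  rw [hjdef] at hE' hn'
  rcases Nat.lt_or_ge M 2 with hM2 | hM2
  · have hM1 : M = 1 := by omega
    subst hM1
    have hj1 : j = 1 := by
      push_cast at hE'
      have : (j - 1) * (2 * e + j + 1) = 0 := by linear_combination hE'
      rcases mul_eq_zero.1 this with h | h <;> omega
    subst hj1
    push_cast at hn'
    have h4 : ((e : ℤ) + 1) * (6 - 2 * n0) = 4 := by linear_combination (-1 : ℤ) * hn'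
    have he4 : (e : ℤ) + 1 ≤ 4 := Int.le_of_dvd (by norm_num) ⟨_, h4.symm⟩
    have : e ≤ 3 := by omega
    interval_cases e
    · exact Or.inl ⟨rfl, rfl⟩
    · omega
    · omega
  · right
    obtain ⟨i, hidef⟩ : ∃ i : ℤ, 2 * (M : ℤ) - 1 = i + j := ⟨2 * (M : ℤ) - 1 - j, by ring⟩
    have hje : j ^ 2 = 2 * e * i + 1 := by linear_combination hE' + 2 * (e : ℤ) * hidef
    have hi0 : 1 ≤ i := by
      by_contra hc
      have h1 : 2 * (e : ℤ) * i ≤ 0 := mul_nonpos_of_nonneg_of_nonpos (by positivity) (by omega)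
      have h2 : j ^ 2 ≤ 1 := by omega
      have h3 : j = 1 := by nlinarith
      subst h3
      omega
    have hie : i % 2 = 0 := by
      have hjodd : j % 2 = 1 := by
        by_contra hc
        obtain ⟨r, hr⟩ : (2 : ℤ) ∣ j := by omega
        rw [hr] at hje
        have : 2 * (2 * r ^ 2 - e * i) = 1 := by linear_combination hje
        omega
      omega
    have hdv : ((e : ℤ) + j) * (2 * i + (2 * n0 - (2 * M + 1)) - (i + j + 2)) = (i - 2) * j - 2 := by
      linear_combination hn' - hje + (e : ℤ) * hidef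
    generalize hndef : 2 * i + (2 * (n0 : ℤ) - (2 * M + 1)) - (i + j + 2) = n at hdv
    rcases eq_or_lt_of_le (show 2 ≤ i by omega) with h2 | h2
    · subst h2
      have hj3 : 3 ≤ j := by nlinarith
      have hdd : ((e : ℤ) + j) ∣ 2 := ⟨-n, by linear_combination hdv⟩
      have := Int.le_of_dvd (by norm_num) hdd
      omega
    · have hi4 : 4 ≤ i := by omega
      have hn1 : 1 ≤ n := by
        by_contra hc
        have h1 : ((e : ℤ) + j) * n ≤ 0 := mul_nonpos_of_nonneg_of_nonpos (by omega) (by omega)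
        have h3 : 2 * j ≤ (i - 2) * j := mul_le_mul_of_nonneg_right (by omega) (by omega)
        have h4 : 2 ≤ j := by
          by_contra hc'
          have : j = 1 := by omega
          subst this
          nlinarith
        linarith
      have hni : n < i := by
        by_contra hc
        have h1 : ((e : ℤ) + j) * i ≤ ((e : ℤ) + j) * n := mul_le_mul_of_nonneg_left (by omega) (by omega)
        have h3 : 0 ≤ (e : ℤ) * i := mul_nonneg (by positivity) (by omega)
        linarith
      have hp := arith_ij (e := (e : ℤ)) (M := (M : ℤ)) (Q := (Q : ℤ)) (p := 2 * i * (i - 2) - n * (j + 2 * i))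
        (n := n) hi4 hie hj (by omega) hje hidef hQ' hn1 hni
        (by linear_combination (-2 * i) * hdv - n * hje) (by ring) (by linear_combination hdv) (by omega)
      exact ⟨by omega, by omega⟩

end Cfsg.Agent.Perm.RankThreeFrob
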