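import Cfsg.Agent.Lib.Perm.RankThreeFrob.Matrices

/-!
Integral consequences: the multiplicity, the value of the character at each element, and its bound by the
centralizer.
-/

set_option autoImplicit false
set_option linter.unusedSectionVars false

namespace Cfsg.Agent.Perm.RankThreeFrob

open MulAction Matrix

universe u v

variable {G : Type u} [Group G] {X : Type v} [MulAction G X] [Finite G] [Finite X] [FaithfulSMul G X]
  {A B D : X}

theorem int_of_integral {x : ℂ} (hx : IsIntegral ℤ x) {a b : ℤ} (ha : a ≠ 0) (h : (a : ℂ) * x = b) :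
    ∃ n : ℤ, x = n ∧ a * n = b := by
  have hq : x = ((b / a : ℚ) : ℂ) := by
    push_cast
    rw [eq_div_iff (by exact_mod_cast ha), mul_comm, h]
  rw [hq] at hx
  have : IsIntegral ℤ ((b / a : ℚ)) :=
    (isIntegral_algHom_iff ((algebraMap ℚ ℂ).toIntAlgHom) (Rat.cast_injective (α := ℂ))).1 hx
  obtain ⟨n, hn⟩ := IsIntegrallyClosed.isIntegral_iff.1 this
  refine ⟨n, by rw [hq, ← hn]; simp, ?_⟩
  have h' : ((a * n : ℤ) : ℂ) = (b : ℤ) := by
    rw [← h, hq, ← hn]; push_cast; simp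
  exact_mod_cast h'

variable (G A B D) in
/-- The numerator of the difference of the two characters. -/
noncomputable def diffN (g : G) : ℤ :=
  2 * (adN G A B g : ℤ) - ((lam G A B : ℤ) - mu G A B D) * ((fixN G X g : ℤ) - 1) - 2 * kk G A B

namespace Setup

variable (h : Setup G A B D)
include h

theorem disc_pos : 0 < disc G A B D := by
  have := h.mu_lt
  have : (0 : ℤ) < (kk G A B : ℤ) - mu G A B D := by omega
  have := sq_nonneg ((lam G A B : ℤ) - mu G A B D)
  rw [disc]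
  omega

theorem fixN_one : fixN G X (1 : G) = Nat.card X :=
  Nat.card_congr (Equiv.subtypeUnivEquiv fun y => one_smul G y)

theorem adN_one : adN G A B (1 : G) = 0 := by
  rw [adN, Nat.card_eq_zero]
  exact Or.inl ⟨fun y => h.not_adj_self y.1 (by simpa using y.2)⟩

theorem exists_mult {ρ : ℂ} (hρ : ρ ^ 2 = (disc G A B D : ℂ)) (hρ0 : ρ ≠ 0) :
    ∃ f : ℕ, 0 < f ∧ ρ * (2 * (f : ℂ) - ((Nat.card X : ℂ) - 1)) =
      -(2 * (kk G A B : ℂ) + ((Nat.card X : ℂ) - 1) * ((lam G A B : ℂ) - mu G A B D)) := by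
  classical
  haveI := Fintype.ofFinite X
  obtain ⟨f, hf⟩ := trace_natural (h.eigM_sq hρ hρ0)
  have h0 := h.eigM_trace_ne hρ hρ0
  refine ⟨f, Nat.pos_of_ne_zero fun e => h0 (by rw [hf, e]; simp), ?_⟩
  have h1 := h.trace_perm_eig (ρ := ρ) (1 : G)
  rw [permM_one, one_mul, hf, h.adN_one, h.fixN_one] at h1
  rw [h1]
  push_cast
  field_simp
  ring

theorem square_or : (∃ E : ℤ, 0 < E ∧ E ^ 2 = disc G A B D) ∨
    2 * (kk G A B : ℤ) + ((Nat.card X : ℤ) - 1) * ((lam G A B : ℤ) - mu G A B D) = 0 := by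
  by_cases hb : 2 * (kk G A B : ℤ) + ((Nat.card X : ℤ) - 1) * ((lam G A B : ℤ) - mu G A B D) = 0
  · exact Or.inr hb
  left
  obtain ⟨ρ, hρ⟩ := IsAlgClosed.exists_pow_nat_eq ((disc G A B D : ℤ) : ℂ) two_pos
  have hd := h.disc_pos
  have hρ0 : ρ ≠ 0 := fun e => by
    rw [e, zero_pow two_ne_zero] at hρ
    exact hd.ne (by exact_mod_cast hρ)
  obtain ⟨f, -, hf⟩ := h.exists_mult hρ hρ0
  set a : ℤ := 2 * (f : ℤ) - ((Nat.card X : ℤ) - 1) with ha
  set b : ℤ := 2 * (kk G A B : ℤ) + ((Nat.card X : ℤ) - 1) * ((lam G A B : ℤ) - mu G A B D) with hb'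
  have e1 : ρ * (a : ℂ) = -(b : ℂ) := by rw [ha, hb']; push_cast; exact hf
  have e2 : b ^ 2 = disc G A B D * a ^ 2 := by
    have : ((b ^ 2 : ℤ) : ℂ) = ((disc G A B D * a ^ 2 : ℤ) : ℂ) := by
      push_cast
      rw [← hρ, ← mul_pow, e1, neg_sq]
    exact_mod_cast this
  have ha0 : a ≠ 0 := fun e => hb (by
    rw [e] at e2
    exact (sq_eq_zero_iff.1 (by simpa using e2)))
  obtain ⟨E, hE⟩ := (Int.pow_dvd_pow_iff two_ne_zero).1 (Dvd.intro_left _ e2.symm)
  refine ⟨|E|, abs_pos.2 fun e => hb (by rw [hE, e, mul_zero]), ?_⟩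
  rw [sq_abs]
  rw [hE, mul_pow, mul_comm (disc G A B D)] at e2
  exact mul_left_cancel₀ (pow_ne_zero 2 ha0) e2

theorem mult {E : ℤ} (hE : E ^ 2 = disc G A B D) :
    ∃ f : ℕ, 0 < f ∧ E * (2 * (f : ℤ) - ((Nat.card X : ℤ) - 1)) =
      -(2 * (kk G A B : ℤ) + ((Nat.card X : ℤ) - 1) * ((lam G A B : ℤ) - mu G A B D)) := by
  have hE0 : E ≠ 0 := fun e => h.disc_pos.ne (by rw [← hE, e]; ring)
  obtain ⟨f, hf0, hf⟩ := h.exists_mult (ρ := (E : ℂ)) (by exact_mod_cast hE) (by exact_mod_cast hE0)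
  exact ⟨f, hf0, by exact_mod_cast hf⟩

theorem value_int {E : ℤ} (hE : E ^ 2 = disc G A B D) (g : G) : ∃ b : ℤ, 2 * E * b =
    2 * (adN G A B g : ℤ) - ((lam G A B : ℤ) - mu G A B D - E) * fixN G X g - 2 * kk G A B +
      ((lam G A B : ℤ) - mu G A B D - E) := by
  classical
  haveI := Fintype.ofFinite X
  have hE0 : E ≠ 0 := fun e => h.disc_pos.ne (by rw [← hE, e]; ring)
  have hρ : (E : ℂ) ^ 2 = (disc G A B D : ℂ) := by exact_mod_cast hE
  have hρ0 : (E : ℂ) ≠ 0 := by exact_mod_cast hE0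
  have hi := h.integral_trace_perm hρ hρ0 g
  obtain ⟨n, -, hn⟩ := int_of_integral hi (a := 2 * E) (by omega)
    (b := 2 * (adN G A B g : ℤ) - ((lam G A B : ℤ) - mu G A B D - E) * fixN G X g - 2 * kk G A B +
      ((lam G A B : ℤ) - mu G A B D - E)) (by
      rw [h.trace_perm_eig]
      push_cast
      field_simp
      ring)
  exact ⟨n, hn⟩

theorem diffN_conj (g x : G) : diffN G A B D (g * x * g⁻¹) = diffN G A B D x := by
  have e1 : fixN G X (g * x * g⁻¹) = fixN G X x := by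
    refine (Nat.card_congr ((MulAction.toPerm g).subtypeEquiv fun y => ?_)).symm
    show x • y = y ↔ (g * x * g⁻¹) • (g • y) = g • y
    rw [mul_smul, mul_smul, inv_smul_smul, (MulAction.injective g).eq_iff]
  have e2 : adN G A B (g * x * g⁻¹) = adN G A B x := by
    refine (Nat.card_congr ((MulAction.toPerm g).subtypeEquiv fun y => ?_)).symm
    show Adj G A B y (x • y) ↔ Adj G A B (g • y) ((g * x * g⁻¹) • (g • y))
    rw [mul_smul, mul_smul, inv_smul_smul, adj_smul_iff]
  rw [diffN, diffN, e1, e2]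

theorem norm_diff [Fintype G] :
    ∑ g : G, diffN G A B D g ^ 2 = 2 * (Fintype.card G : ℤ) * disc G A B D := by
  classical
  haveI := Fintype.ofFinite X
  obtain ⟨ρ, hρ⟩ := IsAlgClosed.exists_pow_nat_eq ((disc G A B D : ℤ) : ℂ) two_pos
  have hρ0 : ρ ≠ 0 := fun e => by
    rw [e, zero_pow two_ne_zero] at hρ
    exact h.disc_pos.ne (by exact_mod_cast hρ)
  obtain ⟨s1, s2⟩ := h.sum_trace_mul hρ hρ0
  obtain ⟨s3, -⟩ := h.sum_trace_mul (ρ := -ρ) (by rw [neg_sq]; exact hρ) (neg_ne_zero.2 hρ0)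
  have e : ∀ g : G, (diffN G A B D g : ℂ) = ρ * ((permM X g * eigM G A B D ρ).trace -
      (permM X g * eigM G A B D (-ρ)).trace) := fun g => by
    rw [h.trace_perm_eig, h.trace_perm_eig, diffN]
    push_cast
    field_simp
    ring
  have : ∑ g : G, (diffN G A B D g : ℂ) ^ 2 = 2 * (Fintype.card G : ℂ) * (disc G A B D : ℂ) := by
    have e' : ∀ g : G, (diffN G A B D g : ℂ) ^ 2 = (disc G A B D : ℂ) *
        ((permM X g * eigM G A B D ρ).trace * (permM X g * eigM G A B D ρ).trace +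
          (permM X g * eigM G A B D (-ρ)).trace * (permM X g * eigM G A B D (-ρ)).trace -
          2 * ((permM X g * eigM G A B D ρ).trace * (permM X g * eigM G A B D (-ρ)).trace)) := fun g => by
      rw [e g, ← hρ]; ring
    simp only [e', ← Finset.mul_sum, Finset.sum_add_distrib, Finset.sum_sub_distrib, s1, s2, s3]
    ring
  exact_mod_cast this

/-- The difference of the characters at an element is bounded by its centralizer. -/
theorem diff_bound (x : G) :
    diffN G A B D x ^ 2 ≤ 2 * (Nat.card ↥(Subgroup.centralizer ({x} : Set G)) : ℤ) * disc G A B D := by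
  classical
  haveI := Fintype.ofFinite G
  set C := Subgroup.centralizer ({x} : Set G) with hC
  have h1 : (Fintype.card G : ℤ) * diffN G A B D x ^ 2 = ∑ g : G, diffN G A B D (g * x * g⁻¹) ^ 2 := by
    simp [h.diffN_conj, Finset.card_univ]
  have h2 : ∀ y : G, ((Finset.univ.filter fun g : G => g * x * g⁻¹ = y).card : ℤ) ≤ Nat.card C := by
    intro y
    by_cases hy : ∃ g₀, g₀ * x * g₀⁻¹ = y
    · obtain ⟨g₀, rfl⟩ := hy
      have : (Finset.univ.filter fun g : G => g * x * g⁻¹ = g₀ * x * g₀⁻¹).card ≤ (Finset.univ.filter fun g : G => g ∈ C).card := by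
        refine Finset.card_le_card_of_injOn (fun g => g₀⁻¹ * g) (fun g hg => ?_) (fun a _ b _ e => mul_left_cancel e)
        simp only [Finset.coe_filter, Set.mem_ofPred_eq, Finset.mem_univ, true_and] at hg ⊢
        rw [hC, Subgroup.mem_centralizer_singleton_iff]
        calc g₀⁻¹ * g * x = g₀⁻¹ * (g * x * g⁻¹) * g := by group
          _ = x * (g₀⁻¹ * g) := by rw [hg]; group
      rw [← Fintype.card_subtype (fun g => g ∈ C), ← Nat.card_eq_fintype_card] at this
      exact_mod_cast this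
    · push Not at hy
      rw [Finset.filter_false_of_mem fun g _ => hy g]
      simp
  have h3 : ∑ g : G, diffN G A B D (g * x * g⁻¹) ^ 2 ≤ (Nat.card C : ℤ) * ∑ y : G, diffN G A B D y ^ 2 := by
    rw [← Finset.sum_fiberwise (Finset.univ : Finset G) (fun g => g * x * g⁻¹), Finset.mul_sum]
    refine Finset.sum_le_sum fun y _ => ?_
    rw [Finset.sum_congr rfl (fun g hg => by rw [(Finset.mem_filter.1 hg).2]), Finset.sum_const, nsmul_eq_mul]
    exact mul_le_mul_of_nonneg_right (h2 y) (sq_nonneg _)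
  rw [← h1, h.norm_diff] at h3
  have hG : (0 : ℤ) < Fintype.card G := by exact_mod_cast Fintype.card_pos
  nlinarith

/-- The dichotomy on the kernel of a point when its elements fix only that point. -/
theorem kernel_dichotomy (hodd : Odd (kk G A B))
    (hfix : ∀ x ∈ Kf G A B A, x ≠ 1 → ∀ y : X, x • y = y → y = A)
    (hab : ∀ x ∈ Kf G A B A, ∀ y ∈ Kf G A B A, x * y = y * x)
    {E : ℤ} (hE : E ^ 2 = disc G A B D) {f : ℕ}
    (hf : E * (2 * (f : ℤ) - ((Nat.card X : ℤ) - 1)) =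
      -(2 * (kk G A B : ℤ) + ((Nat.card X : ℤ) - 1) * ((lam G A B : ℤ) - mu G A B D))) :
    kk G A B ∣ f ∨ 2 * kk G A B < Nat.gcd (kk G A B) E.natAbs ^ 2 := by
  classical
  haveI := Fintype.ofFinite X
  haveI := Fintype.ofFinite ↥(Kf G A B A)
  have hE0 : E ≠ 0 := fun e => h.disc_pos.ne (by rw [← hE, e]; ring)
  have hρ : (E : ℂ) ^ 2 = (disc G A B D : ℂ) := by exact_mod_cast hE
  have hρ0 : (E : ℂ) ≠ 0 := by exact_mod_cast hE0
  have hfx : ∀ x ∈ Kf G A B A, x ≠ 1 → fixN G X x = 1 := fun x hx hx1 => by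
    rw [fixN, Nat.card_eq_one_iff_unique]
    exact ⟨⟨fun a b => Subtype.ext ((hfix x hx hx1 _ a.2).trans (hfix x hx hx1 _ b.2).symm)⟩, ⟨A, h.Kf_fix hx⟩⟩
  have hk : ∀ x ∈ Kf G A B A, kk G A B ∣ adN G A B x := by
    intro x hx
    rw [← h.card_Kf A]
    refine dvd_of_free _ {y : X | Adj G A B y (x • y)} (fun g hg y hy => ?_) fun g hg y hy e => ?_
    · have := hy.smul g
      show Adj G A B (g • y) (x • g • y)
      rwa [← mul_smul, hab g hg x hx, mul_smul] at this
    · by_contra hg1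
      have hyA := hfix g hg hg1 y e
      have hy' : Adj G A B y (x • y) := hy
      rw [hyA, h.Kf_fix hx] at hy'
      exact h.not_adj_self A hy'
  by_cases hall : ∀ x ∈ Kf G A B A, x ≠ 1 → adN G A B x = kk G A B
  · left
    obtain ⟨n, hn⟩ := h.sum_trace_subgroup hρ hρ0 (Kf G A B A)
    rw [Finset.sum_eq_single (1 : ↥(Kf G A B A)) (fun x _ hx => ?_) (by simp)] at hn
    · rw [OneMemClass.coe_one, h.trace_perm_eig, h.adN_one, h.fixN_one,
        ← Nat.card_eq_fintype_card, h.card_Kf] at hn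
      have hf' : (E : ℂ) * (2 * (f : ℂ) - ((Nat.card X : ℂ) - 1)) =
          -(2 * (kk G A B : ℂ) + ((Nat.card X : ℂ) - 1) * ((lam G A B : ℂ) - mu G A B D)) := by exact_mod_cast hf
      refine ⟨n, ?_⟩
      have hfn : (f : ℂ) = (kk G A B : ℂ) * n := by
        rw [← hn]
        field_simp
        push_cast
        linear_combination hf'
      exact_mod_cast hfn
    · have hx1 : (x : G) ≠ 1 := fun e => hx (Subtype.ext e)
      rw [h.trace_perm_eig, hfx x x.2 hx1, hall x x.2 hx1]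
      field_simp
      ring
  · right
    push Not at hall
    obtain ⟨x, hx, hx1, hne⟩ := hall
    obtain ⟨b, hb⟩ := h.value_int hE x
    rw [hfx x hx hx1] at hb
    push_cast at hb
    have hb' : E * b = (adN G A B x : ℤ) - kk G A B := by linarith
    have hb0 : b ≠ 0 := fun e => hne (by rw [e, mul_zero] at hb'; omega)
    have hC : Nat.card ↥(Subgroup.centralizer ({x} : Set G)) ≤ kk G A B := by
      rw [← h.card_Kf A]
      refine Subgroup.card_le_of_le fun g hg => ?_
      rw [Subgroup.mem_centralizer_singleton_iff] at hg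
      have : g • A = A := hfix x hx hx1 _ (by rw [← mul_smul, ← hg, mul_smul, h.Kf_fix hx])
      exact h.cent_le hx hx1 this hg
    have hbound := h.diff_bound x
    rw [diffN, hfx x hx hx1, Nat.cast_one, sub_self, mul_zero, sub_zero,
      show 2 * (adN G A B x : ℤ) - 2 * kk G A B = 2 * (E * b) by rw [hb']; ring, ← hE] at hbound
    have hE2 : 0 < E ^ 2 := lt_of_lt_of_eq h.disc_pos hE.symm
    have h2b : 2 * b ^ 2 ≤ (kk G A B : ℤ) := by
      have hCz : (Nat.card ↥(Subgroup.centralizer ({x} : Set G)) : ℤ) ≤ kk G A B := by exact_mod_cast hC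
      have : E ^ 2 * (4 * b ^ 2) ≤ E ^ 2 * (2 * kk G A B) := by nlinarith
      have := le_of_mul_le_mul_left this hE2
      linarith
    set g := Nat.gcd (kk G A B) E.natAbs with hg
    have hdvd : kk G A B ∣ g * b.natAbs := by
      have h1 : (kk G A B : ℤ) ∣ E * b := hb' ▸ Int.dvd_sub (by exact_mod_cast hk x hx) dvd_rfl
      have h2 : kk G A B ∣ E.natAbs * b.natAbs := by
        rw [← Int.natAbs_mul]; exact Int.natCast_dvd.1 h1
      rw [hg, ← Nat.gcd_mul_right]
      exact Nat.dvd_gcd (Dvd.intro _ rfl) h2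
    have hkb : kk G A B ≤ g * b.natAbs := Nat.le_of_dvd
      (Nat.mul_pos (Nat.gcd_pos_of_pos_left _ (by have := h.one_lt_kk; omega)) (Int.natAbs_pos.2 hb0)) hdvd
    have hlt : 2 * b.natAbs ^ 2 < kk G A B := by
      have : (2 * b.natAbs ^ 2 : ℕ) ≤ kk G A B := by
        have e : ((b.natAbs ^ 2 : ℕ) : ℤ) = b ^ 2 := by push_cast; rw [sq_abs]
        omega
      rcases this.lt_or_eq with e | e
      · exact e
      · obtain ⟨j, hj⟩ := hodd; omega
    nlinarith

end Setup

end Cfsg.Agent.Perm.RankThreeFrob
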