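import Mathlib

/-!
A set of involutions in a coset, closed under conjugation, which covers more than three quarters of the coset
of a group with at most one involution is the whole coset.
-/

set_option autoImplicit false

namespace Cfsg.Agent.Perm.RankThreeFrob

universe u

variable {G : Type u} [Group G] [Finite G]

theorem coset_full (C : Subgroup G) (S : Set G) (hinv : ∀ u ∈ S, u * u = 1)
    (hdiff : ∀ u ∈ S, ∀ w ∈ S, u * w ∈ C)
    (hconj : ∀ x ∈ C, ∀ u ∈ S, x * u * x⁻¹ ∈ S)
    (hone : ∀ a ∈ C, ∀ b ∈ C, a * a = 1 → b * b = 1 → a ≠ 1 → b ≠ 1 → a = b)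
    (hbig : 3 * Nat.card C < 4 * Nat.card S) : Nat.card C ≤ Nat.card S := by
  classical
  haveI := Fintype.ofFinite G
  obtain ⟨s, hs⟩ : S.Nonempty := by
    by_contra hne
    rw [Set.not_nonempty_iff_eq_empty] at hne
    rw [hne] at hbig
    simp at hbig
  let Cs := Finset.univ.filter fun x : G => x ∈ C
  let S' := Finset.univ.filter fun x : G => x ∈ C ∧ x * s ∈ S
  have hCs : Cs.card = Nat.card C := by
    rw [Nat.card_eq_fintype_card, Fintype.card_subtype]
  have hS' : S'.card = Nat.card S := by
    rw [Nat.card_eq_fintype_card, Fintype.card_subtype]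
    refine Finset.card_bij' (fun x _ => x * s) (fun w _ => w * s) ?_ ?_ ?_ ?_
    · intro x hx; simp only [S', Finset.mem_filter, Finset.mem_univ, true_and] at hx ⊢; exact hx.2
    · intro w hw
      simp only [S', Finset.mem_filter, Finset.mem_univ, true_and] at hw ⊢
      exact ⟨hdiff w hw s hs, by rw [mul_assoc, hinv s hs, mul_one]; exact hw⟩
    · intro x _; rw [mul_assoc, hinv s hs, mul_one]
    · intro w _; rw [mul_assoc, hinv s hs, mul_one]
  have hflip : ∀ x ∈ S', s * x * s = x⁻¹ := by
    intro x hx
    have h1 := hinv _ (Finset.mem_filter.1 hx).2.2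
    apply mul_left_cancel (a := x)
    rw [mul_inv_cancel]
    exact (show x * (s * x * s) = x * s * (x * s) by group).trans h1
  have hcomm : ∀ x ∈ S', ∀ y ∈ S', x * y ∈ S' → x * y = y * x := by
    intro x hx y hy hxy
    have h1 := hflip _ hxy
    have h2 : s * (x * y) * s = (s * x * s) * (s * y * s) := by
      have : (s * x * s) * (s * y * s) = s * x * (s * s) * y * s := by group
      rw [this, hinv s hs]; group
    rw [h2, hflip x hx, hflip y hy, ← mul_inv_rev] at h1
    exact (inv_injective h1).symm
  have hhalf : ∀ x ∈ S', ∀ y ∈ C, x * y = y * x := by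
    intro x hx
    have hxC : x ∈ C := (Finset.mem_filter.1 hx).2.1
    let Z := (Subgroup.centralizer ({x} : Set G)) ⊓ C
    let M := Finset.univ.filter fun y : G => y ∈ C ∧ x * y ∈ S'
    have hM : M.card = S'.card := by
      refine Finset.card_bij' (fun y _ => x * y) (fun y _ => x⁻¹ * y) ?_ ?_ ?_ ?_
      · intro y hy; exact (Finset.mem_filter.1 hy).2.2
      · intro y hy
        have := (Finset.mem_filter.1 hy).2.1
        simp only [M, Finset.mem_filter, Finset.mem_univ, true_and, mul_inv_cancel_left]
        exact ⟨mul_mem (inv_mem hxC) this, hy⟩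
      · intro y _; rw [inv_mul_cancel_left]
      · intro y _; rw [mul_inv_cancel_left]
    have hsub : (S' ∩ M).card ≤ Nat.card Z := by
      rw [Nat.card_eq_fintype_card, Fintype.card_subtype]
      refine Finset.card_le_card fun y hy => ?_
      obtain ⟨hy1, hy2⟩ := Finset.mem_inter.1 hy
      simp only [Finset.mem_filter, Finset.mem_univ, true_and, Z, Subgroup.mem_inf,
        Subgroup.mem_centralizer_singleton_iff]
      exact ⟨(hcomm x hx y hy1 (Finset.mem_filter.1 hy2).2.2).symm, (Finset.mem_filter.1 hy1).2.1⟩
    have hun : (S' ∪ M).card ≤ Cs.card := by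
      refine Finset.card_le_card fun y hy => ?_
      simp only [Cs, Finset.mem_filter, Finset.mem_univ, true_and]
      rcases Finset.mem_union.1 hy with e | e <;> exact (Finset.mem_filter.1 e).2.1
    have hui := Finset.card_union_add_card_inter S' M
    have hdvd : Nat.card Z ∣ Nat.card C := Subgroup.card_dvd_of_le inf_le_right
    obtain ⟨j, hj⟩ := hdvd
    have hj1 : j = 1 := by
      rcases Nat.lt_or_ge j 2 with e | e
      · have : 0 < Nat.card C := Nat.card_pos
        rcases Nat.eq_zero_or_pos j with e' | e'
        · rw [e', mul_zero] at hj; omega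
        · omega
      · have : 2 * Nat.card Z ≤ Nat.card C := by rw [hj]; nlinarith
        omega
    rw [hj1, mul_one] at hj
    have heq : Z = C := Subgroup.eq_of_le_of_card_ge inf_le_right hj.le
    intro y hy
    rw [← heq] at hy
    exact (Subgroup.mem_centralizer_singleton_iff.1 hy.1).symm
  have hab : ∀ a ∈ C, ∀ b ∈ C, a * b = b * a := by
    intro a ha
    let Z := (Subgroup.centralizer ({a} : Set G)) ⊓ C
    have hle : S'.card ≤ Nat.card Z := by
      rw [Nat.card_eq_fintype_card, Fintype.card_subtype]
      refine Finset.card_le_card fun y hy => ?_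
      simp only [Finset.mem_filter, Finset.mem_univ, true_and, Z, Subgroup.mem_inf,
        Subgroup.mem_centralizer_singleton_iff]
      exact ⟨hhalf y hy a ha, (Finset.mem_filter.1 hy).2.1⟩
    obtain ⟨j, hj⟩ : Nat.card Z ∣ Nat.card C := Subgroup.card_dvd_of_le inf_le_right
    have hj1 : j = 1 := by
      rcases Nat.lt_or_ge j 2 with e | e
      · have : 0 < Nat.card C := Nat.card_pos
        rcases Nat.eq_zero_or_pos j with e' | e'
        · rw [e', mul_zero] at hj; omega
        · omega
      · have : 2 * Nat.card Z ≤ Nat.card C := by rw [hj]; nlinarith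
        omega
    rw [hj1, mul_one] at hj
    have heq : Z = C := Subgroup.eq_of_le_of_card_ge inf_le_right hj.le
    intro b hb
    rw [← heq] at hb
    exact (Subgroup.mem_centralizer_singleton_iff.1 hb.1).symm
  let R := Cs.image fun y => y * y
  have hR : Cs.card ≤ 2 * R.card := by
    refine (Finset.card_le_mul_card_image Cs 2 fun b hb => ?_).trans le_rfl
    obtain ⟨a, ha, rfl⟩ := Finset.mem_image.1 hb
    simp only [Cs, Finset.mem_filter, Finset.mem_univ, true_and] at ha
    by_cases hz : ∃ t ∈ C, t * t = 1 ∧ t ≠ 1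
    · obtain ⟨t, ht, ht2, ht1⟩ := hz
      refine (Finset.card_le_card (t := {a, a * t}) fun y hy => ?_).trans Finset.card_le_two
      simp only [Cs, Finset.mem_filter, Finset.mem_univ, true_and] at hy
      simp only [Finset.mem_insert, Finset.mem_singleton]
      by_cases e : a⁻¹ * y = 1
      · exact Or.inl (inv_mul_eq_one.1 e).symm
      · right
        have h2 : (a⁻¹ * y) * (a⁻¹ * y) = 1 := by
          rw [mul_assoc, ← mul_assoc y, hab y hy.1 a⁻¹ (inv_mem ha), mul_assoc a⁻¹ y, hy.2, ← mul_assoc,
            ← mul_assoc, mul_assoc a⁻¹ a⁻¹ a, inv_mul_cancel, mul_one, inv_mul_cancel]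
        rw [← hone _ (mul_mem (inv_mem ha) hy.1) t ht h2 ht2 e ht1, mul_inv_cancel_left]
    · push Not at hz
      refine (Finset.card_le_card (t := {a}) fun y hy => ?_).trans (by simp)
      simp only [Cs, Finset.mem_filter, Finset.mem_univ, true_and] at hy
      rw [Finset.mem_singleton]
      have h2 : (a⁻¹ * y) * (a⁻¹ * y) = 1 := by
        rw [mul_assoc, ← mul_assoc y, hab y hy.1 a⁻¹ (inv_mem ha), mul_assoc a⁻¹ y, hy.2, ← mul_assoc,
          ← mul_assoc, mul_assoc a⁻¹ a⁻¹ a, inv_mul_cancel, mul_one, inv_mul_cancel]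
      exact (inv_mul_eq_one.1 (hz _ (mul_mem (inv_mem ha) hy.1) h2)).symm
  have hclosed : ∀ x ∈ S', ∀ y ∈ C, x * (y * y) ∈ S' := by
    intro x hx y hy
    obtain ⟨hxC, hxs⟩ := (Finset.mem_filter.1 hx).2
    simp only [S', Finset.mem_filter, Finset.mem_univ, true_and]
    refine ⟨mul_mem hxC (mul_mem hy hy), ?_⟩
    have hys : s * y * s = y⁻¹ := by
      let Z : Subgroup G :=
        { carrier := {z | z ∈ C ∧ s * z * s = z⁻¹}
          one_mem' := ⟨one_mem _, by rw [mul_one, hinv s hs, inv_one]⟩
          mul_mem' := by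
            rintro a b ⟨ha, ha'⟩ ⟨hb, hb'⟩
            refine ⟨mul_mem ha hb, ?_⟩
            have e : s * (a * b) * s = (s * a * s) * (s * b * s) := by
              have : (s * a * s) * (s * b * s) = s * a * (s * s) * b * s := by group
              rw [this, hinv s hs]; group
            rw [e, ha', hb', hab _ (inv_mem ha) _ (inv_mem hb), mul_inv_rev]
          inv_mem' := by
            rintro a ⟨ha, ha'⟩
            refine ⟨inv_mem ha, ?_⟩
            have e : s * a⁻¹ * s = (s * a * s)⁻¹ := by
              rw [mul_inv_rev, mul_inv_rev, inv_eq_of_mul_eq_one_right (hinv s hs), mul_assoc]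
            rw [e, ha'] }
      have hle : S'.card ≤ Nat.card Z := by
        rw [Nat.card_eq_fintype_card, Fintype.card_subtype]
        refine Finset.card_le_card fun z hz => ?_
        simp only [Finset.mem_filter, Finset.mem_univ, true_and]
        exact ⟨(Finset.mem_filter.1 hz).2.1, hflip z hz⟩
      have hZC : Z ≤ C := fun z hz => hz.1
      obtain ⟨j, hj⟩ : Nat.card Z ∣ Nat.card C := Subgroup.card_dvd_of_le hZC
      have hj1 : j = 1 := by
        rcases Nat.lt_or_ge j 2 with e | e
        · have : 0 < Nat.card C := Nat.card_pos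
          rcases Nat.eq_zero_or_pos j with e' | e'
          · rw [e', mul_zero] at hj; omega
          · omega
        · have : 2 * Nat.card Z ≤ Nat.card C := by rw [hj]; nlinarith
          omega
      rw [hj1, mul_one] at hj
      have heq : Z = C := Subgroup.eq_of_le_of_card_ge hZC hj.le
      rw [← heq] at hy
      exact hy.2
    have := hconj y hy _ hxs
    have e : y * (x * s) * y⁻¹ = x * (y * y) * s := by
      rw [← hys, ← mul_assoc y, hab y hy x hxC]
      have : x * y * s * (s * y * s) = x * y * (s * s) * y * s := by group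
      rw [this, hinv s hs]; group
    rwa [e] at this
  rw [← hS', ← hCs]
  by_contra hlt
  push Not at hlt
  obtain ⟨w, hw, hwS⟩ : ∃ w ∈ Cs, w ∉ S' := by
    by_contra hc
    push Not at hc
    exact absurd (Finset.card_le_card hc) (not_le.2 hlt)
  simp only [Cs, Finset.mem_filter, Finset.mem_univ, true_and] at hw
  have hdisj : Disjoint S' (R.image fun r => w * r) := by
    rw [Finset.disjoint_left]
    intro x hx hxR
    obtain ⟨r, hr, rfl⟩ := Finset.mem_image.1 hxR
    obtain ⟨y, hy, rfl⟩ := Finset.mem_image.1 hr
    simp only [Cs, Finset.mem_filter, Finset.mem_univ, true_and] at hy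
    have := hclosed _ hx y⁻¹ (inv_mem hy)
    rw [show w * (y * y) * (y⁻¹ * y⁻¹) = w by group] at this
    exact hwS this
  have hle : (S' ∪ R.image fun r => w * r).card ≤ Cs.card := by
    refine Finset.card_le_card fun x hx => ?_
    simp only [Cs, Finset.mem_filter, Finset.mem_univ, true_and]
    rcases Finset.mem_union.1 hx with e | e
    · exact (Finset.mem_filter.1 e).2.1
    · obtain ⟨r, hr, rfl⟩ := Finset.mem_image.1 e
      obtain ⟨y, hy, rfl⟩ := Finset.mem_image.1 hr
      simp only [Cs, Finset.mem_filter, Finset.mem_univ, true_and] at hy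
      exact mul_mem hw (mul_mem hy hy)
  rw [Finset.card_union_of_disjoint hdisj, Finset.card_image_of_injective _ (mul_right_injective w)] at hle
  omega

end Cfsg.Agent.Perm.RankThreeFrob
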