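import Cfsg.Agent.Lib.Perm.RankThreeFrob.Setting

/-!
Counting in the orbital graph: the parameters, and the double count of a normal set of involutions.
-/

set_option autoImplicit false
set_option linter.unusedSectionVars false
set_option linter.style.haveILetI false

namespace Cfsg.Agent.Perm.RankThreeFrob

open MulAction

universe u v

variable (G : Type u) [Group G] {X : Type v} [MulAction G X] (A B D : X)

/-- Common neighbours of an edge. -/
noncomputable def lam : ℕ := Nat.card {y : X // Adj G A B A y ∧ Adj G A B B y}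

/-- Common neighbours of a nonadjacent pair. -/
noncomputable def mu : ℕ := Nat.card {y : X // Adj G A B A y ∧ Adj G A B D y}

/-- The order of the stabilizer of a nonadjacent pair. -/
noncomputable def dd : ℕ := Nat.card ↥(stabilizer G A ⊓ stabilizer G D)

variable {G A B D}

/-- A group acting freely on an invariant set divides its size. -/
theorem dvd_of_free [Finite G] [Finite X] (U : Subgroup G) (S : Set X) (hS : ∀ g ∈ U, ∀ y ∈ S, g • y ∈ S)
    (hfree : ∀ g ∈ U, ∀ y ∈ S, g • y = y → g = 1) : Nat.card U ∣ Nat.card S := by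
  classical
  letI : MulAction U S :=
    { smul := fun g y => ⟨(g : G) • (y : X), hS g g.2 y y.2⟩
      one_smul := fun y => Subtype.ext (one_smul G (y : X))
      mul_smul := fun g g' y => Subtype.ext (mul_smul (g : G) (g' : G) (y : X)) }
  have hfree' : ∀ y : S, Function.Injective fun g : U => g • y := by
    intro y g g' e
    have e' : (g : G) • (y : X) = (g' : G) • (y : X) := congrArg Subtype.val e
    have := hfree _ (mul_mem (inv_mem g'.2) g.2) y y.2 (by rw [mul_smul, e', inv_smul_smul])
    exact Subtype.ext (inv_mul_eq_one.1 this).symm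
  haveI := Fintype.ofFinite (orbitRel.Quotient U S)
  rw [Nat.card_congr (MulAction.selfEquivSigmaOrbits U S), Nat.card_sigma]
  refine Finset.dvd_sum fun ω _ => ?_
  rw [show Nat.card ↥(orbit (↥U) (Quotient.out ω)) = Nat.card U from
    (Nat.card_congr (Equiv.ofInjective _ (hfree' _))).symm]

variable [Finite G] [Finite X] [FaithfulSMul G X]

namespace Setup

variable (h : Setup G A B D)
include h

theorem card_adj (P : X) : Nat.card {y : X // Adj G A B P y} = kk G A B := by
  obtain ⟨a, rfl⟩ := h.exists_smul A P
  exact (Nat.card_congr ((MulAction.toPerm a).subtypeEquiv fun y => (adj_smul_iff a).symm)).symm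

theorem card_common (g : G) (P Q : X) :
    Nat.card {y : X // Adj G A B (g • P) y ∧ Adj G A B (g • Q) y} =
      Nat.card {y : X // Adj G A B P y ∧ Adj G A B Q y} :=
  (Nat.card_congr ((MulAction.toPerm g).subtypeEquiv fun y =>
    (and_congr (adj_smul_iff g) (adj_smul_iff g)).symm)).symm

theorem common_adj {P Q : X} (ha : Adj G A B P Q) :
    Nat.card {y : X // Adj G A B P y ∧ Adj G A B Q y} = lam G A B := by
  obtain ⟨g, rfl, rfl⟩ := ha
  exact h.card_common g A B

theorem common_far {P Q : X} (ha : Far G A B P Q) :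
    Nat.card {y : X // Adj G A B P y ∧ Adj G A B Q y} = mu G A B D := by
  obtain ⟨g, rfl, rfl⟩ := h.far_trans h.farD ha
  exact h.card_common g A D

theorem not_far_self (P : X) : ¬ Far G A B P P := fun e => e.1 rfl

theorem not_adj_self (P : X) : ¬ Adj G A B P P := fun e => h.ne_of_adj e rfl

theorem card_X : Nat.card X = 1 + kk G A B + ll G A B := by
  classical
  haveI := Fintype.ofFinite X
  rw [kk, ll, Nat.card_eq_fintype_card, Nat.card_eq_fintype_card, Nat.card_eq_fintype_card,
    Fintype.card_subtype, Fintype.card_subtype]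
  have e : (Finset.univ : Finset X) = insert A ((Finset.univ.filter fun y => Adj G A B A y) ∪
      (Finset.univ.filter fun y => Far G A B A y)) := by
    refine (Finset.eq_univ_of_forall fun y => ?_).symm
    simp only [Finset.mem_insert, Finset.mem_union, Finset.mem_filter, Finset.mem_univ, true_and]
    rcases h.trichotomy A y with e | e | e
    · exact Or.inl e.symm
    · exact Or.inr (Or.inl e)
    · exact Or.inr (Or.inr e)
  have e' := congrArg Finset.card e
  rw [Finset.card_univ, Finset.card_insert_of_notMem (by simp [h.not_adj_self, h.not_far_self]),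
    Finset.card_union_of_disjoint (Finset.disjoint_filter.2 fun y _ a b => b.2 a)] at e'
  omega

theorem card_G : Nat.card G = Nat.card X * (kk G A B * cc G A B) := by
  haveI := h.pretrans
  rw [← h.card_stab, ← Nat.card_congr (orbitProdStabilizerEquivGroup G A), Nat.card_prod]
  rw [MulAction.orbit_eq_univ, Nat.card_congr (Equiv.Set.univ X)]

/-- The double count of the edges between the two nontrivial suborbits. -/
theorem edge_count :
    kk G A B * (kk G A B - 1 - lam G A B) = ll G A B * mu G A B D := by
  classical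
  haveI := Fintype.ofFinite X
  set I := Finset.univ.filter fun y => Adj G A B A y with hI
  set J := Finset.univ.filter fun y => Far G A B A y with hJ
  have hIk : I.card = kk G A B := by rw [kk, Nat.card_eq_fintype_card, Fintype.card_subtype]
  have hJl : J.card = ll G A B := by rw [ll, Nat.card_eq_fintype_card, Fintype.card_subtype]
  have h1 : ∀ y ∈ I, (J.filter fun z => Adj G A B y z).card = kk G A B - 1 - lam G A B := by
    intro y hy
    have ha : Adj G A B A y := (Finset.mem_filter.1 hy).2
    have hN : (Finset.univ.filter fun z => Adj G A B y z).card = kk G A B := by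
      rw [← h.card_adj y, Nat.card_eq_fintype_card, Fintype.card_subtype]
    have hC : (Finset.univ.filter fun z => Adj G A B A z ∧ Adj G A B y z).card = lam G A B := by
      rw [← h.common_adj ha, Nat.card_eq_fintype_card, Fintype.card_subtype]
    have e : (Finset.univ.filter fun z => Adj G A B y z) = insert A
        ((Finset.univ.filter fun z => Adj G A B A z ∧ Adj G A B y z) ∪ J.filter fun z => Adj G A B y z) := by
      ext z
      simp only [hJ, Finset.mem_filter, Finset.mem_univ, true_and, Finset.mem_insert, Finset.mem_union]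
      constructor
      · intro hz
        rcases h.trichotomy A z with e | e | e
        · exact Or.inl e.symm
        · exact Or.inr (Or.inl ⟨e, hz⟩)
        · exact Or.inr (Or.inr ⟨e, hz⟩)
      · rintro (rfl | ⟨-, hz⟩ | ⟨-, hz⟩)
        · exact h.adj_symm ha
        · exact hz
        · exact hz
    rw [e, Finset.card_insert_of_notMem (by simp [hJ, h.not_adj_self, h.not_far_self]),
      Finset.card_union_of_disjoint (Finset.disjoint_left.2 fun z a b => by
        simp only [hJ, Finset.mem_filter, Finset.mem_univ, true_and] at a b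
        exact b.1.2 a.1), hC] at hN
    omega
  have h2 : ∀ z ∈ J, (I.filter fun y => Adj G A B y z).card = mu G A B D := by
    intro z hz
    rw [← h.common_far (Finset.mem_filter.1 hz).2, Nat.card_eq_fintype_card, Fintype.card_subtype]
    congr 1
    ext y
    simp only [hI, Finset.mem_filter, Finset.mem_univ, true_and]
    exact and_congr_right fun _ => ⟨h.adj_symm, h.adj_symm⟩
  have := Finset.sum_card_bipartiteAbove_eq_sum_card_bipartiteBelow (fun y z => Adj G A B y z) (s := I) (t := J)
  simp only [Finset.bipartiteAbove, Finset.bipartiteBelow] at this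
  rw [Finset.sum_congr rfl h1, Finset.sum_congr rfl h2, Finset.sum_const, Finset.sum_const, hIk, hJl,
    smul_eq_mul, smul_eq_mul] at this
  exact this

/-- An invariant equivalence relation is trivial. -/
theorem relation_trivial {R : X → X → Prop} (hR : Equivalence R) (hinv : ∀ (g : G) x y, R x y → R (g • x) (g • y))
    {P Q S : X} (hne : P ≠ Q) (hPQ : R P Q) : R P S := by
  haveI := h.prim
  have hblock : IsBlock G {y | R P y} := by
    rw [isBlock_iff_smul_eq_of_nonempty]
    rintro g ⟨z, ⟨w, hw, rfl⟩, hz⟩
    have hz' : R P (g • w) := hz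
    have hgP : R P (g • P) := hR.trans hz' (hinv g w P (hR.symm hw))
    ext y
    constructor
    · rintro ⟨x, hx, rfl⟩
      exact hR.trans hgP (hinv g P x hx)
    · intro hy
      refine ⟨g⁻¹ • y, ?_, smul_inv_smul g y⟩
      have := hinv g⁻¹ (g • P) y (hR.trans (hR.symm hgP) hy)
      rwa [inv_smul_smul] at this
  rcases IsPreprimitive.isTrivialBlock_of_isBlock hblock with hs | hu
  · exact absurd (hs (hR.refl P) hPQ) hne
  · exact hu.ge (Set.mem_univ S)

theorem mu_pos : 0 < mu G A B D := by
  rw [Nat.pos_iff_ne_zero]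
  intro h0
  have hno : ∀ P Q y : X, Far G A B P Q → Adj G A B P y → Adj G A B Q y → False := by
    intro P Q y hf a b
    have := h.common_far hf
    rw [h0, Nat.card_eq_zero] at this
    rcases this with e | e
    · exact e.elim ⟨y, a, b⟩
    · exact e.not_finite inferInstance
  have heq : Equivalence fun x y : X => x = y ∨ Adj G A B x y := by
    refine ⟨fun x => Or.inl rfl, fun {x y} e => e.imp Eq.symm h.adj_symm, fun {x y z} e e' => ?_⟩
    rcases e with rfl | e
    · exact e'
    rcases e' with rfl | e'
    · exact Or.inr e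
    rcases h.trichotomy x z with t | t | t
    · exact Or.inl t
    · exact Or.inr t
    · exact (hno x z y t e (h.adj_symm e')).elim
  rcases h.relation_trivial heq (fun g x y e => e.imp (fun e => by rw [e]) fun e => e.smul g) h.ne.symm
      (Or.inr Adj.base) (S := D) with e | e
  · exact h.farD.1 e
  · exact h.farD.2 e

theorem mu_le : mu G A B D ≤ kk G A B :=
  Nat.card_le_card_of_injective (fun y => (⟨y.1, y.2.1⟩ : {y : X // Adj G A B A y}))
    fun a b e => Subtype.ext (congrArg (fun z : {y : X // Adj G A B A y} => z.1) e)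

theorem mu_lt : mu G A B D < kk G A B := by
  refine lt_of_le_of_ne h.mu_le fun hk => ?_
  have hsub : ∀ P Q : X, Far G A B P Q → ∀ y, Adj G A B P y → Adj G A B Q y := by
    intro P Q hf y hy
    have hb : Function.Injective (fun y : {y : X // Adj G A B P y ∧ Adj G A B Q y} =>
        (⟨y.1, y.2.1⟩ : {y : X // Adj G A B P y})) := fun a b e => Subtype.ext (congrArg (fun z : {y : X // Adj G A B P y} => z.1) e)
    obtain ⟨z, hz⟩ := (hb.bijective_of_nat_card_le (by rw [h.card_adj, h.common_far hf, hk])).2 ⟨y, hy⟩
    exact (show z.1 = y from Subtype.ext_iff.1 hz) ▸ z.2.2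
  have heq : Equivalence fun x y : X => ∀ z, Adj G A B x z ↔ Adj G A B y z :=
    ⟨fun x z => Iff.rfl, fun e z => (e z).symm, fun e e' z => (e z).trans (e' z)⟩
  have hAD : ∀ z, Adj G A B A z ↔ Adj G A B D z :=
    fun z => ⟨hsub A D h.farD z, hsub D A (h.far_symm h.farD) z⟩
  have := h.relation_trivial (S := B) heq (fun g x y e z => by
    have := e (g⁻¹ • z)
    rwa [← adj_smul_iff g, ← adj_smul_iff (P := y) g, smul_inv_smul] at this) h.farD.1 hAD
  exact h.not_adj_self A ((this A).2 (h.adj_symm Adj.base))

theorem cc_dvd_lam : cc G A B ∣ lam G A B := by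
  refine dvd_of_free _ {y : X | Adj G A B A y ∧ Adj G A B B y} ?_ ?_
  · rintro g ⟨g1, g2⟩ y ⟨y1, y2⟩
    have g1' : g • A = A := g1
    have g2' : g • B = B := g2
    exact ⟨by have := y1.smul g; rwa [g1'] at this, by have := y2.smul g; rwa [g2'] at this⟩
  · rintro g ⟨g1, g2⟩ y ⟨y1, y2⟩ hy
    exact h.fix_two g1 Adj.base y1 g2 hy (h.ne_of_adj y2)

/-- The parameters of the graph. -/
theorem params : ∃ e f : ℕ, 1 ≤ f ∧ lam G A B = cc G A B * e ∧ kk G A B = cc G A B * (e + f) + 1 ∧
    mu G A B D = dd G A D * f ∧ ll G A B * dd G A D = kk G A B * cc G A B ∧ 2 ≤ cc G A B ∧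
    0 < dd G A D ∧ 0 < ll G A B := by
  obtain ⟨-, -, hdiv, hc, -⟩ := h.card_Kf_base
  obtain ⟨e, he⟩ := h.cc_dvd_lam
  obtain ⟨F, hF⟩ := hdiv
  have hd : 0 < dd G A D := Nat.card_pos
  have hl : 0 < ll G A B := @Nat.card_pos _ ⟨⟨D, h.farD⟩⟩ _
  have hld : ll G A B * dd G A D = kk G A B * cc G A B := h.card_far_stab
  have hk := h.one_lt_kk
  have hec := h.edge_count
  have hm := h.mu_pos
  have hkF : kk G A B = cc G A B * F + 1 := by omega
  have hpos : 0 < kk G A B - 1 - lam G A B := by
    by_contra hc'
    rw [show kk G A B - 1 - lam G A B = 0 by omega, mul_zero] at hec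
    exact absurd hec.symm (Nat.mul_pos hl hm).ne'
  rw [hF, he, ← Nat.mul_sub] at hec hpos
  have hf : 0 < F - e := Nat.pos_of_mul_pos_left hpos
  refine ⟨e, F - e, hf, he, ?_, ?_, hld, hc, hd, hl⟩
  · rw [hkF, Nat.add_sub_cancel' (by omega)]
  · refine Nat.eq_of_mul_eq_mul_left (Nat.mul_pos hl hd) ?_
    calc ll G A B * dd G A D * mu G A B D = dd G A D * (ll G A B * mu G A B D) := by ring
      _ = dd G A D * (kk G A B * (cc G A B * (F - e))) := by rw [hec]
      _ = (kk G A B * cc G A B) * (dd G A D * (F - e)) := by ring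
      _ = ll G A B * dd G A D * (dd G A D * (F - e)) := by rw [hld]

/-- An element of a set closed under conjugation is counted at every point as at `A`. -/
theorem card_move_eq {T : Set G} (hT : ∀ g : G, ∀ u ∈ T, g * u * g⁻¹ ∈ T) {P Q P' Q' : X} (g : G)
    (hP : g • P = P') (hQ : g • Q = Q') :
    Nat.card {u : G // u ∈ T ∧ u • P = Q} = Nat.card {u : G // u ∈ T ∧ u • P' = Q'} := by
  refine Nat.card_congr ((MulAut.conj g).toEquiv.subtypeEquiv fun u => ?_)
  show (u ∈ T ∧ u • P = Q) ↔ (g * u * g⁻¹ ∈ T ∧ (g * u * g⁻¹) • P' = Q')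
  have e : (g * u * g⁻¹) • P' = g • (u • P) := by rw [← hP, mul_smul, mul_smul, inv_smul_smul]
  rw [e, ← hQ, (MulAction.injective g).eq_iff]
  refine and_congr_left fun _ => ⟨hT g u, fun hu => ?_⟩
  simpa [mul_assoc] using hT g⁻¹ _ hu

/-- Partition of a conjugation closed set by the image of `A`. -/
theorem set_count {T : Set G} (hT : ∀ g : G, ∀ u ∈ T, g * u * g⁻¹ ∈ T) :
    Nat.card T = Nat.card {u : G // u ∈ T ∧ u • A = A} +
      kk G A B * Nat.card {u : G // u ∈ T ∧ u • A = B} + ll G A B * Nat.card {u : G // u ∈ T ∧ u • A = D} := by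
  classical
  haveI := Fintype.ofFinite X
  haveI := Fintype.ofFinite G
  set S := Finset.univ.filter fun u : G => u ∈ T with hS
  have hc : ∀ y : X, (S.filter fun u => u • A = y).card = Nat.card {u : G // u ∈ T ∧ u • A = y} := fun y => by
    rw [Nat.card_eq_fintype_card, Fintype.card_subtype, hS, Finset.filter_filter]
  have h0 : Nat.card T = ∑ y : X, (S.filter fun u => u • A = y).card := by
    refine Eq.trans ?_ (Finset.card_eq_sum_card_fiberwise (f := fun u : G => u • A) (t := Finset.univ)
      (fun u _ => Finset.mem_univ _))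
    rw [hS, ← Fintype.card_subtype, ← Nat.card_eq_fintype_card]
  have e : (Finset.univ : Finset X) = insert A ((Finset.univ.filter fun y => Adj G A B A y) ∪
      (Finset.univ.filter fun y => Far G A B A y)) := by
    refine (Finset.eq_univ_of_forall fun y => ?_).symm
    simp only [Finset.mem_insert, Finset.mem_union, Finset.mem_filter, Finset.mem_univ, true_and]
    rcases h.trichotomy A y with e | e | e
    · exact Or.inl e.symm
    · exact Or.inr (Or.inl e)
    · exact Or.inr (Or.inr e)
  rw [h0, e, Finset.sum_insert (by simp [h.not_adj_self, h.not_far_self]),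
    Finset.sum_union (Finset.disjoint_filter.2 fun y _ a b => b.2 a)]
  rw [Finset.sum_const_nat (m := Nat.card {u : G // u ∈ T ∧ u • A = B}) fun y hy => ?_,
    Finset.sum_const_nat (m := Nat.card {u : G // u ∈ T ∧ u • A = D}) fun y hy => ?_, hc]
  · rw [kk, ll, Nat.card_eq_fintype_card (α := {y : X // Adj G A B A y}),
      Nat.card_eq_fintype_card (α := {y : X // Far G A B A y}), Fintype.card_subtype, Fintype.card_subtype]
    ring
  · obtain ⟨g, g1, g2⟩ := h.far_trans (Finset.mem_filter.1 hy).2 h.farD
    rw [hc]; exact h.card_move_eq hT g g1 g2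
  · obtain ⟨g, g1, g2⟩ := (Finset.mem_filter.1 hy).2.trans' (Adj.base (G := G) (A := A) (B := B))
    rw [hc]; exact h.card_move_eq hT g g1 g2

/-- The pairs of a set closed under conjugation with its fixed points. -/
theorem fix_count {T : Set G} (hT : ∀ g : G, ∀ u ∈ T, g * u * g⁻¹ ∈ T) {f : ℕ}
    (hf : ∀ u ∈ T, Nat.card {y : X // u • y = y} = f) :
    Nat.card T * f = Nat.card X * Nat.card {u : G // u ∈ T ∧ u • A = A} := by
  classical
  haveI := Fintype.ofFinite X
  haveI := Fintype.ofFinite G
  set S := Finset.univ.filter fun u : G => u ∈ T with hS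
  have h0 : Nat.card T = S.card := by
    rw [hS, ← Fintype.card_subtype, ← Nat.card_eq_fintype_card]
  have := Finset.sum_card_bipartiteAbove_eq_sum_card_bipartiteBelow (fun (u : G) (y : X) => u • y = y)
    (s := S) (t := Finset.univ)
  simp only [Finset.bipartiteAbove, Finset.bipartiteBelow] at this
  rw [Finset.sum_const_nat (m := f) fun u hu => ?_,
    Finset.sum_const_nat (m := Nat.card {u : G // u ∈ T ∧ u • A = A}) fun y _ => ?_] at this
  · rw [h0, this, Finset.card_univ, Nat.card_eq_fintype_card (α := X)]
  · obtain ⟨g, hg⟩ := h.exists_smul y A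
    rw [← h.card_move_eq hT g hg hg, Nat.card_eq_fintype_card, Fintype.card_subtype, hS,
      Finset.filter_filter]
  · rw [← hf u (Finset.mem_filter.1 hu).2, Nat.card_eq_fintype_card, Fintype.card_subtype]

/-- The pairs of a conjugacy class with the edges it swaps. -/
theorem adj_count {T : Set G} (hT : ∀ g : G, ∀ u ∈ T, g * u * g⁻¹ ∈ T) {a : ℕ}
    (ha : ∀ u ∈ T, Nat.card {y : X // Adj G A B y (u • y)} = a) :
    Nat.card T * a = Nat.card X * (kk G A B * Nat.card {u : G // u ∈ T ∧ u • A = B}) := by
  classical
  haveI := Fintype.ofFinite X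
  haveI := Fintype.ofFinite G
  set S := Finset.univ.filter fun u : G => u ∈ T with hS
  have h0 : Nat.card T = S.card := by
    rw [hS, ← Fintype.card_subtype, ← Nat.card_eq_fintype_card]
  have := Finset.sum_card_bipartiteAbove_eq_sum_card_bipartiteBelow (fun (u : G) (y : X) => Adj G A B y (u • y))
    (s := S) (t := Finset.univ)
  simp only [Finset.bipartiteAbove, Finset.bipartiteBelow] at this
  rw [Finset.sum_const_nat (m := a) fun u hu => ?_,
    Finset.sum_const_nat (m := kk G A B * Nat.card {u : G // u ∈ T ∧ u • A = B}) fun y _ => ?_] at this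
  · rw [h0, this, Finset.card_univ, Nat.card_eq_fintype_card (α := X)]
  · rw [Finset.card_eq_sum_card_fiberwise (f := fun u => u • y) (t := Finset.univ.filter fun z => Adj G A B y z)
      (fun u hu => by
        simp only [Finset.coe_filter, Set.mem_ofPred_eq, Finset.mem_univ, true_and] at hu ⊢
        exact hu.2),
      Finset.sum_const_nat (m := Nat.card {u : G // u ∈ T ∧ u • A = B}) fun z hz => ?_]
    · rw [← h.card_adj y, Nat.card_eq_fintype_card (α := {z : X // Adj G A B y z}), Fintype.card_subtype]
    · have hz' := (Finset.mem_filter.1 hz).2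
      obtain ⟨g, g1, g2⟩ := hz'.trans' (Adj.base (G := G) (A := A) (B := B))
      rw [← h.card_move_eq hT g g1 g2, Nat.card_eq_fintype_card, Fintype.card_subtype, hS]
      congr 1
      ext u
      simp only [Finset.mem_filter, Finset.mem_univ, true_and]
      exact ⟨fun e => ⟨e.1.1, e.2⟩, fun e => ⟨⟨e.1, e.2 ▸ hz'⟩, e.2⟩⟩
  · rw [← ha u (Finset.mem_filter.1 hu).2, Nat.card_eq_fintype_card, Fintype.card_subtype]

end Setup

end Cfsg.Agent.Perm.RankThreeFrob
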