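import Cfsg.Agent.Lib.Perm.RankThreeFrob.Counts

/-!
Transitivity from fixed points of prime power subgroups, and normal subgroups of a point stabilizer inside
the kernel.
-/

set_option autoImplicit false
set_option linter.unusedSectionVars false

namespace Cfsg.Agent.Perm.RankThreeFrob

open MulAction

universe u v

variable {G : Type u} [Group G] {X : Type v} [MulAction G X]

/-- A group is transitive on an invariant set when each point is the only fixed point there of one of its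
`p`-subgroups. -/
theorem transitive_of_unique_fix [Finite G] [Finite X] {p : ℕ} [Fact p.Prime] (W : Subgroup G) (Y : Set X)
    (hW : ∀ g ∈ W, ∀ y ∈ Y, g • y ∈ Y)
    (hQ : ∀ P ∈ Y, ∃ Q : Subgroup G, Q ≤ W ∧ IsPGroup p Q ∧ (∀ g ∈ Q, g • P = P) ∧
      ∀ y ∈ Y, (∀ g ∈ Q, g • y = y) → y = P)
    {P P' : X} (hP : P ∈ Y) (hP' : P' ∈ Y) : ∃ g ∈ W, g • P = P' := by
  classical
  let O : Set X := orbit ↥W P
  have hOY : ∀ y ∈ O, y ∈ Y := by
    rintro _ ⟨g, rfl⟩
    exact hW g g.2 P hP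
  have hmod : ∀ R ∈ Y, (R ∈ O → Nat.card O ≡ 1 [MOD p]) ∧ (R ∉ O → Nat.card O ≡ 0 [MOD p]) := by
    intro R hR
    obtain ⟨Q, hQW, hQp, hQfix, huniq⟩ := hQ R hR
    have hQO : ∀ g : Q, ∀ y ∈ O, (g : G) • y ∈ O := by
      rintro g _ ⟨w, rfl⟩
      exact ⟨⟨(g : G) * w, mul_mem (hQW g.2) w.2⟩, mul_smul (g : G) (w : G) P⟩
    letI : MulAction Q O :=
      { smul := fun g y => ⟨(g : G) • (y : X), hQO g y y.2⟩
        one_smul := fun y => Subtype.ext (one_smul G (y : X))
        mul_smul := fun g g' y => Subtype.ext (mul_smul (g : G) (g' : G) (y : X)) }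
    have hc := hQp.card_modEq_card_fixedPoints O
    have hfix : ∀ y : O, y ∈ fixedPoints Q O ↔ (y : X) = R := by
      intro y
      constructor
      · intro hy
        exact huniq y (hOY y y.2) fun g hg => congrArg Subtype.val (hy ⟨g, hg⟩)
      · intro e g
        refine Subtype.ext ?_
        show (g : G) • (y : X) = y
        rw [e, hQfix g g.2]
    constructor
    · intro hRO
      rwa [show Nat.card (fixedPoints Q O) = 1 by
        rw [Nat.card_eq_one_iff_unique]
        exact ⟨⟨fun a b => Subtype.ext (Subtype.ext (((hfix _).1 a.2).trans ((hfix _).1 b.2).symm))⟩,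
          ⟨⟨⟨R, hRO⟩, (hfix _).2 rfl⟩⟩⟩] at hc
    · intro hRO
      rwa [show Nat.card (fixedPoints Q O) = 0 by
        rw [Nat.card_eq_zero]
        exact Or.inl ⟨fun a => hRO ((hfix _).1 a.2 ▸ a.1.2)⟩] at hc
  by_contra hno
  have hP'O : P' ∉ O := fun ⟨g, hg⟩ => hno ⟨g, g.2, hg⟩
  have h1 := ((hmod P hP).1 (mem_orbit_self P)).symm.trans ((hmod P' hP').2 hP'O)
  have hp : 1 < p := (Fact.out : p.Prime).one_lt
  rw [Nat.ModEq, Nat.mod_eq_of_lt hp, Nat.zero_mod] at h1
  exact one_ne_zero h1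

variable [Finite G] [Finite X] [FaithfulSMul G X] {A B D : X}

namespace Setup

variable (h : Setup G A B D)
include h

theorem ne_DA : D ≠ A := h.farD.1.symm

/-- The points fixed by a kernel element of `P` other than `P` are not neighbours of `P`. -/
theorem far_of_fix {P y x} (hx : x ∈ Kf G A B P) (hx1 : x ≠ 1) (hy : x • y = y) (hne : y ≠ P) :
    Far G A B P y :=
  ⟨hne.symm, fun a => hx1 (h.Kf_move hx a hy)⟩

/-- A nontrivial kernel element does not fix every point nonadjacent to `A`. -/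
theorem not_fix_all_far {x : G} (hx : x ∈ Kf G A B A) (hx1 : x ≠ 1) :
    ∃ y, Far G A B A y ∧ x • y ≠ y := by
  by_contra hc
  push Not at hc
  have hall : ∀ y, Adj G A B D y → Adj G A B A y := by
    intro y hy
    rcases h.trichotomy A y with e | e | e
    · exact absurd (h.adj_symm (e ▸ hy)) h.farD.2
    · exact e
    · exact absurd (h.Kf_move (h.Kf_change hx (hc D h.farD)) hy (hc y e)) hx1
  have : kk G A B ≤ mu G A B D := by
    rw [← h.card_adj D]
    exact Nat.card_le_card_of_injective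
      (fun y => (⟨y.1, hall y.1 y.2, y.2⟩ : {y : X // Adj G A B A y ∧ Adj G A B D y}))
      fun a b e => Subtype.ext (congrArg (fun z : {y : X // Adj G A B A y ∧ Adj G A B D y} => z.1) e)
  exact absurd this (not_le.2 h.mu_lt)

/-- A nontrivial normal subgroup of the stabilizer inside the kernel fixes only `A`. -/
theorem normal_fix_only {N : Subgroup G} (hN : N ≤ Kf G A B A) (hne : N ≠ ⊥)
    (hconj : ∀ g : G, g • A = A → ∀ x ∈ N, g * x * g⁻¹ ∈ N) {y : X} (hy : ∀ x ∈ N, x • y = y) : y = A := by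
  by_contra hyA
  obtain ⟨x, hx, hx1⟩ := (Subgroup.ne_bot_iff_exists_ne_one.1 hne : ∃ x : N, x ≠ 1) |>.elim fun x hx =>
    (⟨x, x.2, fun e => hx (Subtype.ext e)⟩ : ∃ x ∈ N, x ≠ 1)
  have hfy := h.far_of_fix (hN hx) hx1 (hy x hx) hyA
  obtain ⟨z, hz, hxz⟩ := h.not_fix_all_far (hN hx) hx1
  obtain ⟨g, hg, hgy⟩ := h.far_orbit hfy hz
  have hgA : g • A = A := hg
  refine hxz ?_
  have hg' : g⁻¹ • A = A := by rw [inv_smul_eq_iff, hgA]
  have := hy _ (hconj g⁻¹ hg' x hx)
  rw [inv_inv, mul_smul, mul_smul, inv_smul_eq_iff, hgy] at this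
  exact this

/-- A nontrivial normal subgroup is transitive. -/
theorem normal_transitive (N : Subgroup G) [N.Normal] (hne : N ≠ ⊥) (P Q : X) : ∃ g ∈ N, g • P = Q := by
  haveI := h.prim
  have heq : Equivalence fun x y : X => ∃ g ∈ N, g • x = y :=
    ⟨fun x => ⟨1, one_mem _, one_smul G x⟩,
      fun {x y} ⟨g, hg, e⟩ => ⟨g⁻¹, inv_mem hg, by rw [← e, inv_smul_smul]⟩,
      fun {x y z} ⟨g, hg, e⟩ ⟨g', hg', e'⟩ => ⟨g' * g, mul_mem hg' hg, by rw [mul_smul, e, e']⟩⟩
  obtain ⟨x, hx, hx1⟩ := (Subgroup.ne_bot_iff_exists_ne_one.1 hne : ∃ x : N, x ≠ 1) |>.elim fun x hx =>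
    (⟨x, x.2, fun e => hx (Subtype.ext e)⟩ : ∃ x ∈ N, x ≠ 1)
  obtain ⟨y, hy⟩ : ∃ y : X, x • y ≠ y := by
    by_contra hc
    push Not at hc
    exact hx1 (FaithfulSMul.eq_of_smul_eq_smul fun y : X => by rw [hc y, one_smul])
  have hinv : ∀ (g : G) (a b : X), (∃ n ∈ N, n • a = b) → ∃ n ∈ N, n • (g • a) = g • b := by
    rintro g a b ⟨n, hn, rfl⟩
    exact ⟨g * n * g⁻¹, ‹N.Normal›.conj_mem n hn g, by rw [mul_smul, mul_smul, inv_smul_smul]⟩
  exact heq.trans (heq.symm (h.relation_trivial heq hinv hy.symm ⟨x, hx, rfl⟩ (S := P)))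
    (h.relation_trivial heq hinv hy.symm ⟨x, hx, rfl⟩ (S := Q))

end Setup

end Cfsg.Agent.Perm.RankThreeFrob
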