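import Cfsg.Agent.Lib.Perm.RankThreeFrob.Character
import Cfsg.Agent.Lib.Perm.RankThreeFrob.Orbits
import Cfsg.Agent.S0068

/-!
The stabilizer of an edge has even order: the involution, its fixed points and the counts they give.
-/

set_option autoImplicit false
set_option linter.unusedSectionVars false

namespace Cfsg.Agent.Perm.RankThreeFrob

open MulAction

universe u v

variable {G : Type u} [Group G] {X : Type v} [MulAction G X] [Finite G] [Finite X] [FaithfulSMul G X]
  {A B D : X} {t : G}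

variable (G X) in
/-- The involutions with a fixed point. -/
def invT : Set G := {u : G | u * u = 1 ∧ u ≠ 1 ∧ ∃ y : X, u • y = y}

theorem invT_conj (g u : G) (hu : u ∈ invT G X) : g * u * g⁻¹ ∈ invT G X := by
  obtain ⟨h1, h2, y, hy⟩ := hu
  refine ⟨by rw [show g * u * g⁻¹ * (g * u * g⁻¹) = g * (u * u) * g⁻¹ by group, h1]; group,
    fun e => h2 (by rw [show u = g⁻¹ * (g * u * g⁻¹) * g by group, e]; group),
    g • y, by rw [mul_smul, mul_smul, inv_smul_smul, hy]⟩

/-- The central involution of the edge stabilizer. -/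
structure EvenPack (A B : X) (t : G) : Prop where
  fixA : t • A = A
  fixB : t • B = B
  sq : t * t = 1
  ne_one : t ≠ 1
  uniq : ∀ u : G, u • A = A → u • B = B → u * u = 1 → u ≠ 1 → u = t
  inverts : ∀ x ∈ Kf G A B A, t * x * t = x⁻¹

namespace Setup

variable (h : Setup G A B D)
include h

theorem odd_kk (hc : Even (cc G A B)) : Odd (kk G A B) := by
  rw [← Nat.not_even_iff_odd, even_iff_two_dvd]
  exact fun e => by
    have := Nat.eq_one_of_dvd_coprimes h.cop e hc.two_dvd
    omega

theorem split_stab {g : G} (hg : g • A = A) :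
    ∃ x ∈ Kf G A B A, ∃ c : G, c • A = A ∧ c • B = B ∧ g = x * c := by
  have hgB : Adj G A B A (g • B) := by
    have := (Adj.base (G := G) (A := A) (B := B)).smul g
    rwa [hg] at this
  obtain ⟨x, hx, hxB⟩ := h.exists_K_to Adj.base hgB
  refine ⟨x, hx, x⁻¹ * g, ?_, ?_, (mul_inv_cancel_left x g).symm⟩
  · rw [mul_smul, hg, inv_smul_eq_iff, h.Kf_fix hx]
  · rw [mul_smul, inv_smul_eq_iff, hxB]

theorem exists_evenPack (hc : Even (cc G A B)) :
    (∃ t : G, EvenPack A B t) ∧ ∀ P : X, ∀ x ∈ Kf G A B P, ∀ y ∈ Kf G A B P, x * y = y * x := by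
  classical
  set K : Subgroup ↥(stabilizer G A) := (Kf G A B A).subgroupOf (stabilizer G A) with hK
  set C : Subgroup ↥(stabilizer G A) := stabilizer ↥(stabilizer G A) B with hC
  haveI : K.Normal := ⟨fun x hx g => h.Kf_normal g.2 hx⟩
  have hcC : Nat.card C = cc G A B := h.card_stab_stab B
  have hcK : Nat.card K = kk G A B := by
    rw [← h.card_Kf A]
    exact Nat.card_congr (Subgroup.subgroupOfEquivOfLe (h.Kf_le (P := A))).toEquiv
  have hcomp : Subgroup.IsComplement' K C := by
    refine Subgroup.isComplement'_of_card_mul_and_disjoint ?_ ?_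
    · rw [hcK, hcC, h.card_stab]
    · rw [disjoint_iff, Subgroup.eq_bot_iff_forall]
      rintro g ⟨g1, g2⟩
      exact Subtype.ext (h.Kf_move g1 Adj.base g2)
  have hKne : K ≠ ⊥ := fun e => by
    rw [e, Subgroup.card_bot] at hcK
    exact absurd hcK.symm (ne_of_gt h.one_lt_kk)
  have hfpf : ∀ g ∈ C, g ≠ 1 → K ⊓ Subgroup.centralizer {g} = ⊥ := by
    intro g hg hg1
    rw [Subgroup.eq_bot_iff_forall]
    rintro x ⟨hx, hxg⟩
    by_contra hx1
    have hcomm : (g : G) * x = x * g := congrArg Subtype.val (Subgroup.mem_centralizer_singleton_iff.1 hxg).symm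
    exact hg1 (Subtype.ext (h.Kf_move (h.cent_le hx (fun e => hx1 (Subtype.ext e)) g.2 hcomm) Adj.base hg))
  obtain ⟨⟨s, hsC, hs2, huniq, hinv⟩, hab⟩ :=
    Cfsg.Agent.S0068.result K C hcomp hKne hfpf (by rw [hcC]; exact hc.two_dvd)
  have hss : s * s = 1 := by rw [← pow_two, ← hs2, pow_orderOf_eq_one]
  have hs1 : (s : G) ≠ 1 := fun e => by
    rw [show s = 1 from Subtype.ext e, orderOf_one] at hs2
    omega
  have hKcomm : ∀ x ∈ Kf G A B A, ∀ y ∈ Kf G A B A, x * y = y * x := by
    intro x hx y hy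
    exact congrArg (fun z : K => ((z : ↥(stabilizer G A)) : G))
      (hab.is_comm.comm ⟨⟨x, h.Kf_le hx⟩, hx⟩ ⟨⟨y, h.Kf_le hy⟩, hy⟩)
  refine ⟨⟨(s : G), s.2, hsC, congrArg Subtype.val hss, hs1, fun u hA hB hu hu1 => ?_, fun x hx => ?_⟩, ?_⟩
  · exact congrArg Subtype.val (huniq ⟨u, hA⟩ hB
      (orderOf_eq_prime (Subtype.ext (by show u ^ 2 = 1; rw [pow_two, hu])) fun e => hu1 (congrArg Subtype.val e)))
  · have := congrArg Subtype.val (hinv ⟨x, h.Kf_le hx⟩ hx)
    rw [inv_eq_of_mul_eq_one_right hss] at this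
    exact this
  · intro P x hx y hy
    obtain ⟨g, rfl⟩ := h.exists_smul A P
    have hx' := h.Kf_conj (g := g⁻¹) hx
    have hy' := h.Kf_conj (g := g⁻¹) hy
    rw [inv_smul_smul, inv_inv] at hx' hy'
    have := hKcomm _ hx' _ hy'
    calc x * y = g * ((g⁻¹ * x * g) * (g⁻¹ * y * g)) * g⁻¹ := by group
      _ = g * ((g⁻¹ * y * g) * (g⁻¹ * x * g)) * g⁻¹ := by rw [this]
      _ = y * x := by group

end Setup

namespace EvenPack

variable (h : Setup G A B D) (p : EvenPack A B t)
include h p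

theorem mem_invT : t ∈ invT G X := ⟨p.sq, p.ne_one, A, p.fixA⟩

theorem even_cc : Even (cc G A B) := by
  rw [even_iff_two_dvd, cc, ← (orderOf_eq_prime (by rw [pow_two, p.sq]) p.ne_one : orderOf t = 2)]
  exact Subgroup.orderOf_dvd_natCard _ ⟨p.fixA, p.fixB⟩

theorem odd_k : Odd (kk G A B) := h.odd_kk (p.even_cc h)

theorem eq_one_of_sq {x : G} {P : X} (hx : x ∈ Kf G A B P) (h2 : x * x = 1) : x = 1 := by
  have hk := p.odd_k h
  obtain ⟨j, hj⟩ := hk
  have := h.pow_kk hx
  rwa [hj, pow_succ, pow_mul, pow_two, h2, one_pow, one_mul] at this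

/-- An involution fixing `A` is a conjugate of `t` under the kernel. -/
theorem invol_stab {u : G} (hu : u * u = 1) (hu1 : u ≠ 1) (hA : u • A = A) :
    ∃ x ∈ Kf G A B A, u = x * t * x⁻¹ := by
  obtain ⟨Q, hQ, huQ⟩ := h.exists_nbr_of_notMem hA fun e => hu1 (p.eq_one_of_sq h e hu)
  obtain ⟨x, hx, hxB⟩ := h.exists_K_to Adj.base hQ
  refine ⟨x, hx, ?_⟩
  have hxA : x⁻¹ • A = A := by rw [inv_smul_eq_iff, h.Kf_fix hx]
  have e : x⁻¹ * u * x = t := p.uniq _ (by rw [mul_smul, mul_smul, h.Kf_fix hx, hA, hxA])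
    (by rw [mul_smul, mul_smul, hxB, huQ, ← hxB, inv_smul_smul])
    (by rw [show x⁻¹ * u * x * (x⁻¹ * u * x) = x⁻¹ * (u * u) * x by group, hu]; group)
    (fun e => hu1 (by rw [show u = x * (x⁻¹ * u * x) * x⁻¹ by group, e]; group))
  rw [← e]; group

theorem invol_conj {u : G} (hu : u ∈ invT G X) : ∃ g : G, u = g * t * g⁻¹ := by
  obtain ⟨h1, h2, y, hy⟩ := hu
  obtain ⟨g, rfl⟩ := h.exists_smul A y
  obtain ⟨x, -, hx⟩ := p.invol_stab h (u := g⁻¹ * u * g)
    (by rw [show g⁻¹ * u * g * (g⁻¹ * u * g) = g⁻¹ * (u * u) * g by group, h1]; group)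
    (fun e => h2 (by rw [show u = g * (g⁻¹ * u * g) * g⁻¹ by group, e]; group))
    (by rw [mul_smul, mul_smul, hy, inv_smul_smul])
  exact ⟨g * x, by rw [show u = g * (g⁻¹ * u * g) * g⁻¹ by group, hx]; group⟩

theorem conj_tx {x : G} (hx : x ∈ Kf G A B A) : x * t * x⁻¹ = x * x * t := by
  have h1 := p.inverts x hx
  calc x * t * x⁻¹ = x * (t * (t * x * t)) := by rw [h1, mul_assoc]
    _ = x * ((t * t) * x * t) := by group
    _ = x * x * t := by rw [p.sq]; group

theorem conj_inj {x y : G} (hx : x ∈ Kf G A B A) (hy : y ∈ Kf G A B A)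
    (e : x * t * x⁻¹ = y * t * y⁻¹) : x = y := by
  rw [p.conj_tx h hx, p.conj_tx h hy, mul_left_inj] at e
  have hk := p.odd_k h
  obtain ⟨j, hj⟩ := hk
  have h1 := h.pow_kk hx
  have h2 := h.pow_kk hy
  have ex : x = (x * x) ^ (j + 1) := by
    rw [← pow_two, ← pow_mul, show 2 * (j + 1) = (2 * j + 1) + 1 by ring, pow_succ, ← hj, h1, one_mul]
  have ey : y = (y * y) ^ (j + 1) := by
    rw [← pow_two, ← pow_mul, show 2 * (j + 1) = (2 * j + 1) + 1 by ring, pow_succ, ← hj, h2, one_mul]
  rw [ex, ey, e]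

theorem card_invT_fix : Nat.card {u : G // u ∈ invT G X ∧ u • A = A} = kk G A B := by
  rw [← h.card_Kf A]
  refine (Nat.card_congr (Equiv.ofBijective (fun x : ↥(Kf G A B A) =>
    (⟨(x : G) * t * (x : G)⁻¹, invT_conj _ _ (p.mem_invT h), by
      rw [mul_smul, mul_smul, inv_smul_eq_iff.2 (h.Kf_fix x.2).symm, p.fixA, h.Kf_fix x.2]⟩ :
      {u : G // u ∈ invT G X ∧ u • A = A})) ⟨?_, ?_⟩)).symm
  · intro x y e
    exact Subtype.ext (p.conj_inj h x.2 y.2 (congrArg Subtype.val e))
  · rintro ⟨u, ⟨h1, h2, -⟩, hA⟩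
    obtain ⟨x, hx, e⟩ := p.invol_stab h h1 h2 hA
    exact ⟨⟨x, hx⟩, Subtype.ext e.symm⟩

/-- The centralizer of `t` is transitive on its fixed points. -/
theorem cent_trans {P : X} (hP : t • P = P) : ∃ g : G, g * t = t * g ∧ g • A = P := by
  obtain ⟨g, rfl⟩ := h.exists_smul A P
  obtain ⟨x, hx, e⟩ := p.invol_stab h (u := g⁻¹ * t * g)
    (by rw [show g⁻¹ * t * g * (g⁻¹ * t * g) = g⁻¹ * (t * t) * g by group, p.sq]; group)
    (fun e => p.ne_one (by rw [show t = g * (g⁻¹ * t * g) * g⁻¹ by group, e]; group))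
    (by rw [mul_smul, mul_smul, hP, inv_smul_smul])
  refine ⟨g * x, ?_, by rw [mul_smul, h.Kf_fix hx]⟩
  have : t = g * x * t * (g * x)⁻¹ := by
    calc t = g * (g⁻¹ * t * g) * g⁻¹ := by group
      _ = g * x * t * (g * x)⁻¹ := by rw [e]; group
  calc g * x * t = g * x * t * (g * x)⁻¹ * (g * x) := by group
    _ = t * (g * x) := by rw [← this]

theorem fix_nbr {y : X} (hy : Adj G A B A y) (hty : t • y = y) : y = B := by
  by_contra hne
  exact p.ne_one (h.fix_two p.fixA Adj.base hy p.fixB hty (Ne.symm hne))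

theorem fixN_const {u : G} (hu : u ∈ invT G X) : fixN G X u = fixN G X t := by
  obtain ⟨g, rfl⟩ := p.invol_conj h hu
  refine (Nat.card_congr ((MulAction.toPerm g).subtypeEquiv fun y => ?_)).symm
  show t • y = y ↔ (g * t * g⁻¹) • (g • y) = g • y
  rw [mul_smul, mul_smul, inv_smul_smul, (MulAction.injective g).eq_iff]

theorem adN_const {u : G} (hu : u ∈ invT G X) : adN G A B u = adN G A B t := by
  obtain ⟨g, rfl⟩ := p.invol_conj h hu
  refine (Nat.card_congr ((MulAction.toPerm g).subtypeEquiv fun y => ?_)).symm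
  show Adj G A B y (t • y) ↔ Adj G A B (g • y) ((g * t * g⁻¹) • (g • y))
  rw [mul_smul, mul_smul, inv_smul_smul, adj_smul_iff]

theorem even_fix : Even (fixN G X t) := by
  classical
  haveI := Fintype.ofFinite X
  have hex : ∀ y : X, t • y = y → ∃ z, t • z = z ∧ Adj G A B y z := by
    intro y hy
    obtain ⟨g, hg, rfl⟩ := p.cent_trans h hy
    exact ⟨g • B, by rw [← mul_smul, ← hg, mul_smul, p.fixB], Adj.base.smul g⟩
  have huni : ∀ y z z' : X, t • y = y → t • z = z → t • z' = z' → Adj G A B y z → Adj G A B y z' → z = z' :=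
    fun y z z' hy hz hz' a a' => by
      by_contra hne
      exact p.ne_one (h.fix_two hy a a' hz hz' hne)
  choose σ hσ1 hσ2 using hex
  have : ∑ _y ∈ (Finset.univ.filter fun y : X => t • y = y), (1 : ZMod 2) = 0 := by
    refine Finset.sum_involution (fun y hy => σ y (Finset.mem_filter.1 hy).2) (fun _ _ => by decide)
      (fun y hy _ e => h.not_adj_self y ?_) (fun y hy => by simp [hσ1]) fun y hy => ?_
    · have := hσ2 y (Finset.mem_filter.1 hy).2
      rwa [e] at this
    · have hy' := (Finset.mem_filter.1 hy).2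
      exact (huni _ _ y (hσ1 y hy') (hσ1 _ (hσ1 y hy')) hy' (hσ2 _ (hσ1 y hy'))
        (h.adj_symm (hσ2 y hy')))
  rw [Finset.sum_const, nsmul_eq_mul, mul_one, ZMod.natCast_eq_zero_iff_even] at this
  rwa [fixN, Nat.card_eq_fintype_card, Fintype.card_subtype]

theorem fix_split : fixN G X t = 2 + Nat.card {y : X // Far G A B A y ∧ t • y = y} := by
  classical
  haveI := Fintype.ofFinite X
  rw [fixN, Nat.card_eq_fintype_card, Nat.card_eq_fintype_card, Fintype.card_subtype, Fintype.card_subtype]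
  have e : (Finset.univ.filter fun y : X => t • y = y) =
      {A, B} ∪ Finset.univ.filter fun y : X => Far G A B A y ∧ t • y = y := by
    ext y
    simp only [Finset.mem_filter, Finset.mem_univ, true_and, Finset.mem_union, Finset.mem_insert,
      Finset.mem_singleton]
    constructor
    · intro hy
      rcases h.trichotomy A y with e | e | e
      · exact Or.inl (Or.inl e.symm)
      · exact Or.inl (Or.inr (p.fix_nbr h e hy))
      · exact Or.inr ⟨e, hy⟩
    · rintro ((rfl | rfl) | ⟨-, hy⟩)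
      · exact p.fixA
      · exact p.fixB
      · exact hy
  rw [e, Finset.card_union_of_disjoint, Finset.card_pair h.ne.symm]
  rw [Finset.disjoint_left]
  intro y hy hy'
  simp only [Finset.mem_insert, Finset.mem_singleton] at hy
  simp only [Finset.mem_filter, Finset.mem_univ, true_and] at hy'
  rcases hy with rfl | rfl
  · exact h.not_far_self _ hy'.1
  · exact hy'.1.2 Adj.base

/-- Involutions fixing `A`, against the far points they fix. -/
theorem far_incidence : kk G A B * Nat.card {y : X // Far G A B A y ∧ t • y = y} =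
    ll G A B * Nat.card {u : G // u ∈ invT G X ∧ u • A = A ∧ u • D = D} := by
  classical
  haveI := Fintype.ofFinite X
  haveI := Fintype.ofFinite G
  set S := Finset.univ.filter fun u : G => u ∈ invT G X ∧ u • A = A with hS
  set J := Finset.univ.filter fun y : X => Far G A B A y with hJ
  have hSc : S.card = kk G A B := by
    rw [← p.card_invT_fix h, Nat.card_eq_fintype_card, Fintype.card_subtype]
  have hJc : J.card = ll G A B := by rw [ll, Nat.card_eq_fintype_card, Fintype.card_subtype]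
  have h1 : ∀ u ∈ S, (J.filter fun y => u • y = y).card =
      Nat.card {y : X // Far G A B A y ∧ t • y = y} := by
    intro u hu
    obtain ⟨⟨u1, u2, -⟩, uA⟩ := (Finset.mem_filter.1 hu).2
    obtain ⟨x, hx, rfl⟩ := p.invol_stab h u1 u2 uA
    rw [hJ, Finset.filter_filter, ← Fintype.card_subtype, ← Nat.card_eq_fintype_card]
    refine (Nat.card_congr ((MulAction.toPerm x).subtypeEquiv fun y => ?_)).symm
    show (Far G A B A y ∧ t • y = y) ↔ Far G A B A (x • y) ∧ (x * t * x⁻¹) • (x • y) = x • y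
    rw [mul_smul, mul_smul, inv_smul_smul, (MulAction.injective x).eq_iff]
    have : Far G A B A (x • y) ↔ Far G A B A y := by
      have := far_smul_iff (G := G) (A := A) (B := B) (P := A) (Q := y) x
      rwa [h.Kf_fix hx] at this
    rw [this]
  have h2 : ∀ y ∈ J, (S.filter fun u => u • y = y).card =
      Nat.card {u : G // u ∈ invT G X ∧ u • A = A ∧ u • D = D} := by
    intro y hy
    obtain ⟨g, gA, gy⟩ := h.far_trans (Finset.mem_filter.1 hy).2 h.farD
    rw [hS, Finset.filter_filter, ← Fintype.card_subtype, ← Nat.card_eq_fintype_card]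
    refine Nat.card_congr ((MulAut.conj g).toEquiv.subtypeEquiv fun u => ?_)
    show (u ∈ invT G X ∧ u • A = A) ∧ u • y = y ↔
      g * u * g⁻¹ ∈ invT G X ∧ (g * u * g⁻¹) • A = A ∧ (g * u * g⁻¹) • D = D
    have hA : (g * u * g⁻¹) • A = g • (u • A) := by
      conv_lhs => rw [← gA]
      rw [mul_smul, mul_smul, inv_smul_smul]
    have hD : (g * u * g⁻¹) • D = g • (u • y) := by
      conv_lhs => rw [← gy]
      rw [mul_smul, mul_smul, inv_smul_smul]
    rw [hA, hD]
    constructor
    · rintro ⟨⟨a, b⟩, c⟩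
      exact ⟨invT_conj g u a, by rw [b, gA], by rw [c, gy]⟩
    · rintro ⟨a, b, c⟩
      refine ⟨⟨?_, MulAction.injective g (b.trans gA.symm)⟩, MulAction.injective g (c.trans gy.symm)⟩
      have := invT_conj g⁻¹ _ a
      rwa [show g⁻¹ * (g * u * g⁻¹) * g⁻¹⁻¹ = u by group] at this
  have := Finset.sum_card_bipartiteAbove_eq_sum_card_bipartiteBelow (fun (u : G) (y : X) => u • y = y) (s := S) (t := J)
  simp only [Finset.bipartiteAbove, Finset.bipartiteBelow] at this
  rw [Finset.sum_congr rfl h1, Finset.sum_congr rfl h2, Finset.sum_const, Finset.sum_const, hSc, hJc,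
    smul_eq_mul, smul_eq_mul] at this
  exact this

/-- The basic equations. -/
theorem counts : ∃ n q q' : ℕ, fixN G X t = 2 + n ∧ Even n ∧
    n = Nat.card {y : X // Far G A B A y ∧ t • y = y} ∧
    q = Nat.card {u : G // u ∈ invT G X ∧ u • A = B} ∧ q' = Nat.card {u : G // u ∈ invT G X ∧ u • A = D} ∧
    Nat.card X * kk G A B = (2 + n) * (kk G A B + kk G A B * q + ll G A B * q') ∧
    adN G A B t = (2 + n) * q := by
  refine ⟨_, _, _, p.fix_split h, ?_, rfl, rfl, rfl, ?_, ?_⟩
  · have := p.even_fix h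
    rw [p.fix_split h, Nat.even_add] at this
    exact this.1 even_two
  · have h1 := h.fix_count (T := invT G X) invT_conj (f := fixN G X t) fun u hu => p.fixN_const h hu
    rw [h.set_count invT_conj, p.card_invT_fix h, p.fix_split h] at h1
    linarith
  · have h1 := h.fix_count (T := invT G X) invT_conj (f := fixN G X t) fun u hu => p.fixN_const h hu
    have h2 := h.adj_count (T := invT G X) invT_conj (a := adN G A B t) fun u hu => p.adN_const h hu
    rw [p.card_invT_fix h, p.fix_split h] at h1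
    set q := Nat.card {u : G // u ∈ invT G X ∧ u • A = B} with hq
    set nT := Nat.card (invT G X) with hnT
    have hpos : 0 < nT := @Nat.card_pos _ ⟨⟨t, p.mem_invT h⟩⟩ _
    refine Nat.eq_of_mul_eq_mul_left hpos ?_
    rw [h2, ← mul_assoc, ← h1]
    ring

theorem swap_le (P : X) : Nat.card {u : G // u ∈ invT G X ∧ u • A = P} ≤
    Nat.card ↥(stabilizer G A ⊓ stabilizer G P) := by
  by_cases hne : Nonempty {u : G // u ∈ invT G X ∧ u • A = P}
  · obtain ⟨⟨u, ⟨hu, -⟩, huA⟩⟩ := hne
    have hkey : ∀ w : G, w * w = 1 → w • A = P → w • P = A := fun w hw e => by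
      rw [← e, ← mul_smul, hw, one_smul]
    refine Nat.card_le_card_of_injective (fun w => ⟨u * w.1, ?_, ?_⟩) fun a b e => ?_
    · show (u * w.1) • A = A
      rw [mul_smul, w.2.2, hkey u hu huA]
    · show (u * w.1) • P = P
      rw [mul_smul, hkey w.1 w.2.1.1 w.2.2, huA]
    · exact Subtype.ext (mul_left_cancel (congrArg Subtype.val e))
  · rw [not_nonempty_iff] at hne
    simp

end EvenPack

end Cfsg.Agent.Perm.RankThreeFrob
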