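import Mathlib

/-!
Two involutory automorphisms of a finite nilpotent group whose product moves every nontrivial element:
the order is the product of the orders of the two fixed subgroups.
-/

set_option autoImplicit false
set_option linter.unusedSectionVars false

namespace Cfsg.Agent.Perm.RankThreeFrob

universe u

/-- Two involutory endomorphisms with fixed point free product. -/
def FreePair (M : Type u) [Group M] (a b : M →* M) : Prop :=
  (∀ x, a (a x) = x) ∧ (∀ x, b (b x) = x) ∧ ∀ x, a (b x) = x → x = 1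

/-- Every element is a product of an element fixed by the first and one fixed by the second. -/
def Splits2 (M : Type u) [Group M] : Prop :=
  ∀ a b : M →* M, FreePair M a b → ∀ g : M, ∃ x w, a x = x ∧ b w = w ∧ g = x * w

theorem FreePair.symm {M : Type u} [Group M] {a b : M →* M} (h : FreePair M a b) : FreePair M b a :=
  ⟨h.2.1, h.1, fun x hx => h.2.2 x (by
    have := congrArg b hx
    rw [h.2.1] at this
    have := congrArg a this
    rw [h.1] at this
    exact this.symm)⟩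

theorem sub_injective {M : Type u} [Group M] {a b : M →* M} (h : FreePair M a b) {x y : M}
    (e : x * (a (b x))⁻¹ = y * (a (b y))⁻¹) : x = y := by
  have : a (b (y⁻¹ * x)) = y⁻¹ * x := by
    rw [map_mul, map_mul, map_inv, map_inv]
    have e2 : y⁻¹ * x = (a (b y))⁻¹ * a (b x) := by
      calc y⁻¹ * x = y⁻¹ * (x * (a (b x))⁻¹) * a (b x) := by group
        _ = _ := by rw [e]; group
    exact e2.symm
  exact (inv_mul_eq_one.1 (h.2.2 _ this)).symm

/-- The map `x ↦ x (φ x)⁻¹` on an invariant subgroup. -/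
theorem exists_sub {M : Type u} [Group M] [Finite M] {a b : M →* M} (h : FreePair M a b) (Z : Subgroup M)
    (haZ : ∀ z ∈ Z, a z ∈ Z) (hbZ : ∀ z ∈ Z, b z ∈ Z) {z : M} (hz : z ∈ Z) :
    ∃ x ∈ Z, x * (a (b x))⁻¹ = z := by
  let f : Z → Z := fun x => ⟨x * (a (b x))⁻¹, mul_mem x.2 (inv_mem (haZ _ (hbZ _ x.2)))⟩
  have hinj : Function.Injective f := fun x y e => Subtype.ext (sub_injective h (congrArg Subtype.val e))
  obtain ⟨x, hx⟩ := (Finite.injective_iff_surjective.1 hinj) ⟨z, hz⟩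
  exact ⟨x, x.2, congrArg Subtype.val hx⟩

theorem splits_comm {M : Type u} [Group M] [Finite M] {a b : M →* M} (h : FreePair M a b) (Z : Subgroup M)
    (hZ : ∀ x ∈ Z, ∀ y ∈ Z, x * y = y * x)
    (haZ : ∀ z ∈ Z, a z ∈ Z) (hbZ : ∀ z ∈ Z, b z ∈ Z) {z : M} (hz : z ∈ Z) :
    ∃ x w, x ∈ Z ∧ w ∈ Z ∧ a x = x ∧ b w = w ∧ z = x * w := by
  obtain ⟨x, hx, e⟩ := exists_sub h.symm Z hbZ haZ hz
  refine ⟨x * a x, (a x * b (a x))⁻¹, mul_mem hx (haZ _ hx), inv_mem (mul_mem (haZ _ hx) (hbZ _ (haZ _ hx))),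
    ?_, ?_, ?_⟩
  · rw [map_mul, h.1, hZ _ (haZ _ hx) _ hx]
  · rw [map_inv, map_mul, h.2.1, hZ _ (haZ _ hx) _ (hbZ _ (haZ _ hx))]
  · rw [← e, hZ _ (haZ _ hx) _ (hbZ _ (haZ _ hx))]
    group

/-- A coset fixed by the first automorphism contains a fixed element. -/
theorem exists_fixed_lift {M : Type u} [Group M] [Finite M] {a b : M →* M} (h : FreePair M a b) (Z : Subgroup M)
    (haZ : ∀ z ∈ Z, a z ∈ Z) (hbZ : ∀ z ∈ Z, b z ∈ Z) (hcen : ∀ z ∈ Z, ∀ g : M, z * g = g * z)
    {u : M} (hu : u⁻¹ * a u ∈ Z) : ∃ z ∈ Z, a (u * z) = u * z := by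
  obtain ⟨x, hx, e⟩ := exists_sub h Z haZ hbZ hu
  have hbx : b x = x := by
    refine sub_injective h ?_
    rw [h.2.1 x, e]
    have h1 := congrArg a e
    rw [map_mul, map_inv, h.1, map_mul, map_inv, h.1] at h1
    -- `h1 : a x * (b x)⁻¹ = (a u)⁻¹ * u`
    calc b x * (a x)⁻¹ = (a x * (b x)⁻¹)⁻¹ := by group
      _ = u⁻¹ * a u := by rw [h1]; group
  refine ⟨x, hx, ?_⟩
  rw [hbx] at e
  have hau : a u = u * (x * (a x)⁻¹) := by rw [e, mul_inv_cancel_left]
  rw [map_mul, hau]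
  group

theorem splits2_of_nilpotent (M : Type u) [Group M] [Finite M] [Group.IsNilpotent M] : Splits2 M := by
  refine Group.nilpotent_center_quotient_ind (P := fun L _ _ => Finite L → Splits2 L) M ?_ ?_ ‹Finite M›
  · intro L _ _ _ a b _ g
    exact ⟨1, 1, map_one a, map_one b, Subsingleton.elim _ _⟩
  · intro L _ _ ih hfin a b h g
    haveI := hfin
    set Z := Subgroup.center L with hZdef
    have hchar : ∀ (c : L →* L), (∀ x, c (c x) = x) → ∀ z ∈ Z, c z ∈ Z := fun c hc z hz => by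
      rw [hZdef, Subgroup.mem_center_iff] at hz ⊢
      intro y
      have := congrArg c (hz (c y))
      rwa [map_mul, map_mul, hc] at this
    have haZ := hchar a h.1
    have hbZ := hchar b h.2.1
    have hcen : ∀ z ∈ Z, ∀ y : L, z * y = y * z := fun z hz y => (Subgroup.mem_center_iff.1 hz y).symm
    let a' := QuotientGroup.map Z Z a fun z hz => haZ z hz
    let b' := QuotientGroup.map Z Z b fun z hz => hbZ z hz
    have h' : FreePair (L ⧸ Z) a' b' := by
      refine ⟨fun x => ?_, fun x => ?_, fun x hx => ?_⟩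
      · obtain ⟨y, rfl⟩ := QuotientGroup.mk_surjective x
        exact congrArg QuotientGroup.mk (h.1 y)
      · obtain ⟨y, rfl⟩ := QuotientGroup.mk_surjective x
        exact congrArg QuotientGroup.mk (h.2.1 y)
      · obtain ⟨y, rfl⟩ := QuotientGroup.mk_surjective x
        have hy : y⁻¹ * a (b y) ∈ Z := QuotientGroup.eq.1 hx.symm
        obtain ⟨w, hw, hwe⟩ := exists_sub h Z haZ hbZ hy
        have : a (b (y * w)) = y * w := by
          rw [map_mul, map_mul]
          have e1 : a (b y) = y * (w * (a (b w))⁻¹) := by rw [hwe, mul_inv_cancel_left]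
          rw [e1]; group
        rw [QuotientGroup.eq_one_iff, show y = w⁻¹ by rw [← mul_eq_one_iff_eq_inv]; exact h.2.2 _ this]
        exact inv_mem hw
    obtain ⟨x', w', hx', hw', e⟩ := ih inferInstance a' b' h' g
    obtain ⟨u, rfl⟩ := QuotientGroup.mk_surjective x'
    obtain ⟨r, rfl⟩ := QuotientGroup.mk_surjective w'
    obtain ⟨z1, hz1, hu⟩ := exists_fixed_lift h Z haZ hbZ hcen (QuotientGroup.eq.1 hx'.symm)
    obtain ⟨z2, hz2, hr⟩ := exists_fixed_lift h.symm Z hbZ haZ hcen (QuotientGroup.eq.1 hw'.symm)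
    have hz : ((u * z1) * (r * z2))⁻¹ * g ∈ Z := by
      have h1 : (u * r)⁻¹ * g ∈ Z := QuotientGroup.eq.1 e.symm
      have : ((u * z1) * (r * z2))⁻¹ * g = z2⁻¹ * (r⁻¹ * (z1⁻¹ * u⁻¹) * g) := by group
      rw [this, hcen z1⁻¹ (inv_mem hz1), ← mul_assoc r⁻¹]
      have : z2⁻¹ * (r⁻¹ * u⁻¹ * z1⁻¹ * g) = z2⁻¹ * ((u * r)⁻¹ * g) * z1⁻¹ := by
        rw [mul_assoc _ z1⁻¹ g, hcen z1⁻¹ (inv_mem hz1)]; group
      rw [this]
      exact mul_mem (mul_mem (inv_mem hz2) h1) (inv_mem hz1)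
    obtain ⟨x, w, hxZ, hwZ, hxa, hwb, e2⟩ :=
      splits_comm h Z (fun p hp q _ => hcen p hp q) haZ hbZ hz
    refine ⟨u * z1 * x, r * z2 * w, by rw [map_mul, hu, hxa], by rw [map_mul, hr, hwb], ?_⟩
    have e3 : g = (u * z1) * (r * z2) * (x * w) := by rw [← e2, mul_inv_cancel_left]
    calc g = (u * z1) * (r * z2) * (x * w) := e3
      _ = (u * z1) * ((r * z2) * x) * w := by group
      _ = (u * z1) * (x * (r * z2)) * w := by rw [hcen x hxZ (r * z2)]
      _ = _ := by group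

/-- The order is the product of the orders of the fixed sets. -/
theorem card_eq_fix_mul_fix {M : Type u} [Group M] [Finite M] [Group.IsNilpotent M] {a b : M →* M}
    (h : FreePair M a b) :
    Nat.card M = Nat.card {x : M // a x = x} * Nat.card {x : M // b x = x} := by
  rw [← Nat.card_prod]
  refine (Nat.card_congr (Equiv.ofBijective (fun p : {x : M // a x = x} × {x : M // b x = x} =>
    (p.1 : M) * p.2) ⟨?_, ?_⟩)).symm
  · rintro ⟨x, w⟩ ⟨x', w'⟩ e
    have e' : (x' : M)⁻¹ * x = w' * (w : M)⁻¹ := by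
      calc (x' : M)⁻¹ * x = (x' : M)⁻¹ * ((x : M) * w) * (w : M)⁻¹ := by group
        _ = (x' : M)⁻¹ * ((x' : M) * w') * (w : M)⁻¹ := by rw [show (x : M) * w = x' * w' from e]
        _ = _ := by group
    have hb : b ((x' : M)⁻¹ * x) = (x' : M)⁻¹ * x := by rw [e', map_mul, map_inv, w.2, w'.2]
    have ha : a ((x' : M)⁻¹ * x) = (x' : M)⁻¹ * x := by rw [map_mul, map_inv, x.2, x'.2]
    have h1 := h.2.2 _ (by rw [hb, ha])
    have hx : x = x' := Subtype.ext (inv_mul_eq_one.1 h1).symm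
    rw [h1] at e'
    exact Prod.ext hx (Subtype.ext (mul_inv_eq_one.1 e'.symm).symm)
  · intro g
    obtain ⟨x, w, hx, hw, e⟩ := splits2_of_nilpotent M a b h g
    exact ⟨(⟨x, hx⟩, ⟨w, hw⟩), e.symm⟩

end Cfsg.Agent.Perm.RankThreeFrob
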