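import Cfsg.Agent.Lib.Perm.RankThreeFrob.EvenBase
import Cfsg.Agent.Lib.Perm.RankThreeFrob.FixFormula
import Cfsg.Agent.S0035
import Cfsg.Agent.S0042
import Cfsg.Agent.S4252

/-!
The stabilizer of an edge has even order and a kernel element fixes a nonadjacent pair: the group has order
576 on sixteen points. First part: the fixed points of the kernel of that pair.
-/

set_option autoImplicit false
set_option linter.unusedSectionVars false
set_option linter.style.haveILetI false

namespace Cfsg.Agent.Perm.RankThreeFrob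

open MulAction

universe u v

variable {G : Type u} [Group G] {X : Type v} [MulAction G X] [Finite G] [Finite X] [FaithfulSMul G X]
  {A B D : X} {t : G}

variable (G) in
/-- The kernel elements of `A` fixing `D`. -/
def Del (A B D : X) : Subgroup G := Kf G A B A ⊓ stabilizer G D

variable (G) in
/-- Their common fixed points. -/
def DelFix (A B D : X) : Set X := {y : X | ∀ x ∈ Del G A B D, x • y = y}

theorem card_dvd_of_free_conj (U : Subgroup G) (S : Set G) (hS : ∀ g ∈ U, ∀ y ∈ S, g * y * g⁻¹ ∈ S)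
    (hfree : ∀ g ∈ U, ∀ y ∈ S, g * y * g⁻¹ = y → g = 1) : Nat.card U ∣ Nat.card S := by
  classical
  letI : MulAction U S :=
    { smul := fun g y => ⟨(g : G) * y * (g : G)⁻¹, hS g g.2 y y.2⟩
      one_smul := fun y => Subtype.ext (show (1 : G) * y * (1 : G)⁻¹ = y by group)
      mul_smul := fun g g' y => Subtype.ext
        (show ((g : G) * g') * y * ((g : G) * g')⁻¹ = g * (g' * y * (g' : G)⁻¹) * (g : G)⁻¹ by group) }
  have hfree' : ∀ y : S, Function.Injective fun g : U => g • y := by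
    intro y g g' e
    have e' : (g : G) * y * (g : G)⁻¹ = g' * y * (g' : G)⁻¹ := congrArg Subtype.val e
    have := hfree _ (mul_mem (inv_mem g'.2) g.2) y y.2 (by
      calc (g' : G)⁻¹ * g * y * ((g' : G)⁻¹ * g)⁻¹ = (g' : G)⁻¹ * (g * y * (g : G)⁻¹) * g' := by group
        _ = (g' : G)⁻¹ * (g' * y * (g' : G)⁻¹) * g' := by rw [e']
        _ = y := by group)
    exact Subtype.ext (inv_mul_eq_one.1 this).symm
  haveI := Fintype.ofFinite (orbitRel.Quotient U S)
  rw [Nat.card_congr (MulAction.selfEquivSigmaOrbits U S), Nat.card_sigma]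
  refine Finset.dvd_sum fun ω _ => ?_
  rw [show Nat.card ↥(orbit (↥U) (Quotient.out ω)) = Nat.card U from
    (Nat.card_congr (Equiv.ofInjective _ (hfree' _))).symm]

namespace EvenPack

variable (h : Setup G A B D) (p : EvenPack A B t)
include h p

theorem kcomm {P : X} {x y : G} (hx : x ∈ Kf G A B P) (hy : y ∈ Kf G A B P) : x * y = y * x :=
  (h.exists_evenPack (p.even_cc h)).2 P x hx y hy

theorem invol_inverts {u : G} (hu : u * u = 1) (hu1 : u ≠ 1) (hA : u • A = A) {x : G}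
    (hx : x ∈ Kf G A B A) : u * x * u = x⁻¹ := by
  obtain ⟨z, hz, rfl⟩ := p.invol_stab h hu hu1 hA
  rw [p.conj_tx h hz]
  have h1 := p.inverts _ (mul_mem (mul_mem hz hz) hx)
  calc z * z * t * x * (z * z * t) = z * z * (t * (z * z * x) * t) := by
        rw [show z * z * t * x * (z * z * t) = z * z * (t * (x * (z * z)) * t) by group,
          p.kcomm h hx (mul_mem hz hz)]
    _ = z * z * (z * z * x)⁻¹ := by rw [h1]
    _ = x⁻¹ := by rw [p.kcomm h (mul_mem hz hz) hx, mul_inv_rev, mul_inv_cancel_left]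

theorem kf_pprimary (P : X) {q : ℕ} [Fact q.Prime] (hq : q ∣ kk G A B) :
    ∃ Q : Subgroup G, Q ≤ Kf G A B P ∧ IsPGroup q Q ∧ ∀ y, (∀ x ∈ Q, x • y = y) → y = P := by
  obtain ⟨g, rfl⟩ := h.exists_smul A P
  let Q : Subgroup G :=
    { carrier := {x | x ∈ Kf G A B A ∧ ∃ n : ℕ, x ^ q ^ n = 1}
      one_mem' := ⟨one_mem _, 0, one_pow _⟩
      mul_mem' := by
        rintro a b ⟨ha, n, hn⟩ ⟨hb, m, hm⟩
        refine ⟨mul_mem ha hb, n + m, ?_⟩
        have hcomm : Commute a b := p.kcomm h ha hb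
        rw [hcomm.mul_pow, pow_add, pow_mul, hn, one_pow, one_mul, mul_comm (q ^ n), pow_mul, hm, one_pow]
      inv_mem' := by
        rintro a ⟨ha, n, hn⟩
        exact ⟨inv_mem ha, n, by rw [inv_pow, hn, inv_one]⟩ }
  have hQne : Q ≠ ⊥ := by
    obtain ⟨x, hx⟩ := exists_prime_orderOf_dvd_card' q (by rwa [h.card_Kf A] : q ∣ Nat.card ↥(Kf G A B A))
    intro e
    have hmem : (x : G) ∈ Q := ⟨x.2, 1, by
      rw [pow_one, ← Subgroup.coe_pow, ← hx, pow_orderOf_eq_one]; rfl⟩
    rw [e, Subgroup.mem_bot] at hmem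
    rw [show x = 1 from Subtype.ext hmem, orderOf_one] at hx
    exact (Fact.out : q.Prime).ne_one hx.symm
  have hQ : ∀ y, (∀ x ∈ Q, x • y = y) → y = A := fun y hy =>
    h.normal_fix_only (N := Q) (fun x hx => hx.1) hQne
      (fun a ha x hx => ⟨h.Kf_normal ha hx.1, by
        obtain ⟨n, hn⟩ := hx.2
        exact ⟨n, by rw [conj_pow, hn]; group⟩⟩) hy
  refine ⟨Q.map (MulAut.conj g).toMonoidHom, ?_, ?_, fun y hy => ?_⟩
  · rintro _ ⟨x, hx, rfl⟩
    exact h.Kf_conj hx.1
  · refine IsPGroup.map ?_ _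
    intro x
    obtain ⟨n, hn⟩ := x.2.2
    exact ⟨n, Subtype.ext (by rw [Subgroup.coe_pow]; exact hn)⟩
  · have := hQ (g⁻¹ • y) fun x hx => by
      have h1 := hy _ ⟨x, hx, rfl⟩
      rw [MulEquiv.coe_toMonoidHom, MulAut.conj_apply, mul_smul, mul_smul] at h1
      exact smul_eq_iff_eq_inv_smul g |>.1 h1
    rw [← this, smul_inv_smul]

theorem card_kf_far {P y : X} (hy : Far G A B P y) :
    Nat.card {x : G // x ∈ Kf G A B P ∧ x • y = y} = Nat.card ↥(Del G A B D) := by
  obtain ⟨g, gA, gy⟩ := h.far_trans hy h.farD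
  refine Nat.card_congr ((MulAut.conj g).toEquiv.subtypeEquiv fun x => ?_)
  show x ∈ Kf G A B P ∧ x • y = y ↔ g * x * g⁻¹ ∈ Kf G A B A ⊓ stabilizer G D
  rw [Subgroup.mem_inf, mem_stabilizer_iff, ← gy, mul_smul, mul_smul, inv_smul_smul,
    (MulAction.injective g).eq_iff]
  refine and_congr_left fun _ => ⟨fun hx => ?_, fun hx => ?_⟩
  · have := h.Kf_conj (g := g) hx
    rwa [gA] at this
  have := h.Kf_conj (g := g⁻¹) hx
  rwa [show g⁻¹ * (g * x * g⁻¹) * g⁻¹⁻¹ = x by group, inv_smul_eq_iff.2 gA.symm] at this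

variable (hΔ : Del G A B D ≠ ⊥)

omit p in
theorem mem_DelFix_A : A ∈ DelFix G A B D := fun _ hx => h.Kf_fix hx.1

omit h p in
theorem mem_DelFix_D : D ∈ DelFix G A B D := fun _ hx => hx.2

omit h p in
theorem cent_DelFix {g : G} (hg : g ∈ Subgroup.centralizer (Del G A B D : Set G)) {y : X}
    (hy : y ∈ DelFix G A B D) : g • y ∈ DelFix G A B D := fun x hx => by
  rw [← mul_smul, Subgroup.mem_centralizer_iff.1 hg x hx, mul_smul, hy x hx]

omit p in
theorem del_le {P : X} (hP : P ∈ DelFix G A B D) : Del G A B D ≤ Kf G A B P :=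
  fun x hx => h.Kf_change hx.1 (hP x hx)

theorem kf_le_cent {P : X} (hP : P ∈ DelFix G A B D) :
    Kf G A B P ≤ Subgroup.centralizer (Del G A B D : Set G) := fun x hx => by
  rw [Subgroup.mem_centralizer_iff]
  exact fun y hy => p.kcomm h (del_le h hP hy) hx

include hΔ in
theorem cent_stab {P : X} (hP : P ∈ DelFix G A B D) {g : G}
    (hg : g ∈ Subgroup.centralizer (Del G A B D : Set G)) (hgP : g • P = P) : g ∈ Kf G A B P := by
  obtain ⟨x, hx1⟩ := Subgroup.ne_bot_iff_exists_ne_one.1 hΔ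
  exact h.cent_le (del_le h hP x.2) (fun e => hx1 (Subtype.ext e)) hgP
    (Subgroup.mem_centralizer_iff.1 hg x x.2).symm

theorem two_point {P Q : X} (hP : P ∈ DelFix G A B D) (hQ : Q ∈ DelFix G A B D) (hne : P ≠ Q)
    (hΔ : Del G A B D ≠ ⊥) {g : G} (hg : g ∈ Kf G A B P) (hgQ : g • Q = Q) : g ∈ Del G A B D := by
  classical
  haveI := Fintype.ofFinite G
  obtain ⟨x, hx1⟩ := Subgroup.ne_bot_iff_exists_ne_one.1 hΔ
  have hfar : Far G A B P Q := h.far_of_fix (del_le h hP x.2) (fun e => hx1 (Subtype.ext e)) (hQ x x.2) hne.symm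
  have hcard := p.card_kf_far h hfar
  rw [Nat.card_eq_fintype_card, Nat.card_eq_fintype_card, Fintype.card_subtype, Fintype.card_subtype] at hcard
  have hsub : (Finset.univ.filter fun z : G => z ∈ Del G A B D) ⊆
      Finset.univ.filter fun z : G => z ∈ Kf G A B P ∧ z • Q = Q := fun z hz => by
    simp only [Finset.mem_filter, Finset.mem_univ, true_and] at hz ⊢
    exact ⟨del_le h hP hz, hQ z hz⟩
  have := Finset.eq_of_subset_of_card_le hsub hcard.le
  have hmem : g ∈ Finset.univ.filter fun z : G => z ∈ Del G A B D := by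
    rw [this]; simp [hg, hgQ]
  simpa using hmem

theorem cent_trans_fix {P Q : X} (hP : P ∈ DelFix G A B D) (hQ : Q ∈ DelFix G A B D) :
    ∃ g ∈ Subgroup.centralizer (Del G A B D : Set G), g • P = Q := by
  haveI : Fact (kk G A B).minFac.Prime := ⟨Nat.minFac_prime (by have := h.one_lt_kk; omega)⟩
  refine transitive_of_unique_fix (p := (kk G A B).minFac) _ (DelFix G A B D)
    (fun g hg y hy => cent_DelFix hg hy) (fun R hR => ?_) hP hQ
  obtain ⟨U, hU, hUp, hfix⟩ := p.kf_pprimary h R (Nat.minFac_dvd (kk G A B))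
  exact ⟨U, hU.trans (p.kf_le_cent h hR), hUp, fun g hg => h.Kf_fix (hU hg), fun y _ hy => hfix y hy⟩

theorem invol_DelFix {u : G} (hu : u * u = 1) (hu1 : u ≠ 1) (hA : u • A = A) {y : X}
    (hy : y ∈ DelFix G A B D) : u • y ∈ DelFix G A B D := fun x hx => by
  have h1 := p.invol_inverts h hu hu1 hA hx.1
  have h2 : x * u = u * x⁻¹ := by rw [← h1, ← mul_assoc, ← mul_assoc, hu, one_mul]
  rw [← mul_smul, h2, mul_smul, hy _ (inv_mem hx)]

theorem invol_cent {u : G} (hu : u * u = 1) (hu1 : u ≠ 1) (hA : u • A = A) {w : G}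
    (hw : w ∈ Subgroup.centralizer (Del G A B D : Set G)) :
    u * w * u ∈ Subgroup.centralizer (Del G A B D : Set G) := by
  rw [Subgroup.mem_centralizer_iff]
  intro x hx
  have h1 := p.invol_inverts h hu hu1 hA hx.1
  have h2 : x * u = u * x⁻¹ := by rw [← h1, ← mul_assoc, ← mul_assoc, hu, one_mul]
  have h3 : u * x = x⁻¹ * u := by rw [← h1, mul_assoc _ u u, hu, mul_one]
  calc x * (u * w * u) = u * (x⁻¹ * w) * u := by rw [← mul_assoc, ← mul_assoc, h2]; group
    _ = u * w * (x⁻¹ * u) := by rw [Subgroup.mem_centralizer_iff.1 hw _ (inv_mem hx)]; group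
    _ = u * w * u * x := by rw [← h3]; group

theorem exists_sqrt {x : G} {P : X} (hx : x ∈ Kf G A B P) : ∃ z ∈ Kf G A B P, z * z = x := by
  obtain ⟨j, hj⟩ := p.odd_k h
  exact ⟨x ^ (j + 1), pow_mem hx _, by
    rw [← pow_add, show j + 1 + (j + 1) = 2 * j + 1 + 1 by ring, pow_succ, ← hj, h.pow_kk hx, one_mul]⟩

include hΔ in
/-- The number of common fixed points is the square of the number of those fixed by `t`. -/
theorem card_DelFix :
    Nat.card (DelFix G A B D) = Nat.card {y : X // y ∈ DelFix G A B D ∧ t • y = y} ^ 2 := by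
  classical
  set W := Subgroup.centralizer (Del G A B D : Set G) with hW
  set Y := DelFix G A B D with hY
  letI : MulAction W Y :=
    { smul := fun g y => ⟨(g : G) • (y : X), cent_DelFix g.2 y.2⟩
      one_smul := fun y => Subtype.ext (one_smul G (y : X))
      mul_smul := fun g g' y => Subtype.ext (mul_smul (g : G) (g' : G) (y : X)) }
  let φ : W →* Equiv.Perm Y := MulAction.toPermHom W Y
  have hφ : ∀ (g : W) (y : Y), ((φ g y : Y) : X) = (g : G) • (y : X) := fun _ _ => rfl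
  let V := φ.range
  haveI := Fintype.ofFinite Y
  let YA : Y := ⟨A, mem_DelFix_A h⟩
  have hcard : 1 < Fintype.card Y := by
    rw [Fintype.one_lt_card_iff]
    exact ⟨YA, ⟨D, mem_DelFix_D⟩, fun e => h.farD.1 (congrArg Subtype.val e)⟩
  have htrans : ∀ y z : Y, ∃ g : V, g • y = z := by
    intro y z
    obtain ⟨g, hg, e⟩ := p.cent_trans_fix h y.2 z.2
    exact ⟨⟨φ ⟨g, hg⟩, ⟨g, hg⟩, rfl⟩, Subtype.ext e⟩
  have htwo : ∀ g : V, g ≠ 1 → ∀ y z : Y, g • y = y → g • z = z → y = z := by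
    rintro ⟨_, g, rfl⟩ hg y z hy hz
    by_contra hne
    refine hg (Subtype.ext (Equiv.ext fun r => Subtype.ext ?_))
    have hy' : (g : G) • (y : X) = y := congrArg Subtype.val hy
    have hz' : (g : G) • (z : X) = z := congrArg Subtype.val hz
    have hmem := p.two_point h y.2 z.2 (fun e => hne (Subtype.ext e)) hΔ (p.cent_stab h hΔ y.2 g.2 hy') hz'
    exact r.2 _ hmem
  obtain ⟨x0, hx0, hx0D⟩ : ∃ x ∈ Kf G A B A, x ∉ Del G A B D := by
    obtain ⟨x1, hx1⟩ := Subgroup.ne_bot_iff_exists_ne_one.1 hΔ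
    by_contra hc
    push Not at hc
    refine h.farD.1 (h.normal_fix_only (N := Kf G A B A) le_rfl (fun e => hx1 (Subtype.ext ?_))
      (fun g hg x hx => h.Kf_normal hg hx) fun x hx => (hc x hx).2).symm
    have hmem : (x1 : G) ∈ Kf G A B A := x1.2.1
    rw [e, Subgroup.mem_bot] at hmem
    exact hmem
  have hx0W : x0 ∈ W := p.kf_le_cent h (mem_DelFix_A h) hx0
  have hnreg : ∃ g : V, g ≠ 1 ∧ ∃ y : Y, g • y = y := by
    refine ⟨⟨φ ⟨x0, hx0W⟩, _, rfl⟩, fun e => hx0D ⟨hx0, ?_⟩, YA, Subtype.ext (h.Kf_fix hx0)⟩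
    exact congrArg Subtype.val (congrArg (fun f : V => (f : Equiv.Perm Y) ⟨D, mem_DelFix_D⟩) e)
  obtain ⟨hF, hker⟩ := Cfsg.Agent.S4252.result hcard htrans hnreg htwo YA
  obtain ⟨M, hM, -, hMc⟩ := Cfsg.Agent.S0035.result _ hF
  obtain ⟨M', hM', -, hnil⟩ := Cfsg.Agent.S0042.result _ hF
  have hMM : M = M' := SetLike.coe_injective (hM.trans hM'.symm)
  haveI : Group.IsNilpotent M := hMM ▸ hnil
  have hMmem : ∀ m : V, m ∈ M ↔ m = 1 ∨ ∀ y : Y, m • y ≠ y := fun m => by
    rw [← SetLike.mem_coe, hM, hker]; rfl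
  have hbij : Function.Bijective fun m : M => (m : V) • YA := by
    have hinj : Function.Injective fun m : M => (m : V) • YA := by
      intro m m' e
      have e' : ((m' : V)⁻¹ * m) • YA = YA := by
        rw [mul_smul, inv_smul_eq_iff]; exact e
      rcases (hMmem _).1 (mul_mem (inv_mem m'.2) m.2) with e1 | e1
      · exact Subtype.ext (inv_mul_eq_one.1 e1).symm
      · exact absurd e' (e1 YA)
    refine hinj.bijective_of_nat_card_le (le_of_eq ?_)
    haveI : IsPretransitive V Y := ⟨htrans⟩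
    have h2 := hMc.card_mul_card
    rw [← Nat.card_congr (orbitProdStabilizerEquivGroup V YA), Nat.card_prod, MulAction.orbit_eq_univ,
      Nat.card_congr (Equiv.Set.univ Y)] at h2
    exact (Nat.eq_of_mul_eq_mul_right Nat.card_pos h2).symm
  -- the conjugation by an involution of the stabilizer
  let I := {u : G // u * u = 1 ∧ u ≠ 1 ∧ u • A = A}
  let σ : I → Equiv.Perm Y := fun u =>
    Function.Involutive.toPerm (fun y : Y =>
      (⟨(u : G) • (y : X), p.invol_DelFix h u.2.1 u.2.2.1 u.2.2.2 y.2⟩ : Y))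
      fun y => Subtype.ext (by show (u : G) • (u : G) • (y : X) = y; rw [← mul_smul, u.2.1, one_smul])
  have hσ : ∀ (u : I) (y : Y), ((σ u y : Y) : X) = (u : G) • (y : X) := fun _ _ => rfl
  have hend : ∀ u : I, ∃ a : M →* M, ∀ (m : M) (y : Y),
      ((a m : V) : Equiv.Perm Y) y = σ u (((m : V) : Equiv.Perm Y) (σ u y)) := by
    rintro ⟨u, hu, hu1, hA⟩
    set uu : I := ⟨u, hu, hu1, hA⟩ with huu
    have hV : ∀ m : V, σ uu * (m : Equiv.Perm Y) * σ uu ∈ V := by
      rintro ⟨_, g, rfl⟩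
      refine ⟨⟨u * g * u, p.invol_cent h hu hu1 hA g.2⟩, Equiv.ext fun y => Subtype.ext ?_⟩
      rw [Equiv.Perm.mul_apply, Equiv.Perm.mul_apply, hσ, hφ, hφ, hσ]
      simp only [mul_smul, huu]
    have hσσ : σ uu * σ uu = 1 := Equiv.ext fun y => Subtype.ext (by
      rw [Equiv.Perm.mul_apply, hσ, hσ, ← mul_smul, hu, one_smul]; rfl)
    have hinM : ∀ m : M, (⟨σ uu * ((m : V) : Equiv.Perm Y) * σ uu, hV m⟩ : V) ∈ M := by
      intro m
      rcases (hMmem _).1 m.2 with e | e
      · refine (hMmem _).2 (Or.inl (Subtype.ext ?_))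
        show σ uu * ((m : V) : Equiv.Perm Y) * σ uu = 1
        rw [e, Subgroup.coe_one, mul_one, hσσ]
      · refine (hMmem _).2 (Or.inr fun y hy => e (σ uu y) ?_)
        have hy' : σ uu (((m : V) : Equiv.Perm Y) (σ uu y)) = y := hy
        have := congrArg (σ uu) hy'
        rwa [← Equiv.Perm.mul_apply, hσσ, Equiv.Perm.one_apply] at this
    exact ⟨MonoidHom.mk' (fun m => ⟨⟨_, hV m⟩, hinM m⟩) fun m m' => Subtype.ext (Subtype.ext (by
      show σ uu * (((m : V) : Equiv.Perm Y) * ((m' : V) : Equiv.Perm Y)) * σ uu =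
        σ uu * ((m : V) : Equiv.Perm Y) * σ uu *
          (σ uu * ((m' : V) : Equiv.Perm Y) * σ uu)
      simp only [mul_assoc]
      rw [← mul_assoc (σ uu) (σ uu), hσσ, one_mul])), fun m y => rfl⟩
  have hyt : (x0 * t) * (x0 * t) = 1 := by
    have h1 := p.inverts x0 hx0
    calc x0 * t * (x0 * t) = x0 * (t * x0 * t) := by group
      _ = 1 := by rw [h1, mul_inv_cancel]
  have hytA : (x0 * t) • A = A := by rw [mul_smul, p.fixA, h.Kf_fix hx0]
  have hyt1 : x0 * t ≠ 1 := fun e => p.ne_one (p.eq_one_of_sq h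
    (show t ∈ Kf G A B A by rw [show t = x0⁻¹ * (x0 * t) by group, e, mul_one]; exact inv_mem hx0) p.sq)
  let it : I := ⟨t, p.sq, p.ne_one, p.fixA⟩
  let iy : I := ⟨x0 * t, hyt, hyt1, hytA⟩
  obtain ⟨a, ha⟩ := hend it
  obtain ⟨b, hb⟩ := hend iy
  have hfp : FreePair M a b := by
    refine ⟨fun m => ?_, fun m => ?_, fun m hm => ?_⟩
    · refine Subtype.ext (Subtype.ext (Equiv.ext fun y => Subtype.ext ?_))
      rw [ha, hσ, ha, hσ, ← mul_smul, p.sq, one_smul]
      congr 2
      refine Subtype.ext ?_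
      rw [hσ, hσ, ← mul_smul, p.sq, one_smul]
    · refine Subtype.ext (Subtype.ext (Equiv.ext fun y => Subtype.ext ?_))
      rw [hb, hσ, hb, hσ, ← mul_smul, hyt, one_smul]
      congr 2
      refine Subtype.ext ?_
      rw [hσ, hσ, ← mul_smul, hyt, one_smul]
    · by_contra hm1
      let w : Y := ((m : V) : Equiv.Perm Y) YA
      have hw : w ≠ YA := fun e => hm1 (hbij.1 (show (m : V) • YA = ((1 : M) : V) • YA by
        rw [OneMemClass.coe_one, one_smul]; exact e))
      have h1 : (((a (b m) : V) : Equiv.Perm Y) YA : X) = t • ((x0 * t) • (w : X)) := by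
        rw [ha, hσ, hb, hσ]
        have : σ iy (σ it YA) = YA := Subtype.ext (by
          rw [hσ, hσ]
          show (x0 * t) • t • A = A
          rw [p.fixA, hytA])
        rw [this]
      rw [hm] at h1
      have h2 : t • ((x0 * t) • (w : X)) = x0⁻¹ • (w : X) := by
        rw [← mul_smul, show t * (x0 * t) = t * x0 * t by group, p.inverts x0 hx0]
      rw [h2] at h1
      refine hx0D (p.two_point h (mem_DelFix_A h) w.2 (fun e => hw (Subtype.ext e.symm)) hΔ hx0 ?_)
      have h3 : (w : X) = x0⁻¹ • (w : X) := h1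
      rwa [eq_inv_smul_iff] at h3
  have hfix : ∀ (u : I) (c : M →* M),
      (∀ (m : M) (y : Y), ((c m : V) : Equiv.Perm Y) y = σ u (((m : V) : Equiv.Perm Y) (σ u y))) →
      Nat.card {m : M // c m = m} = Nat.card {y : Y // (u : G) • (y : X) = y} := by
    intro u c hc
    refine Nat.card_congr ((Equiv.ofBijective _ hbij).subtypeEquiv fun m => ?_)
    show c m = m ↔ (u : G) • (((m : V) • YA : Y) : X) = (((m : V) • YA : Y) : X)
    have hAA : σ u YA = YA := Subtype.ext u.2.2.2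
    have h1 : (((c m : V) • YA : Y) : X) = (u : G) • (((m : V) • YA : Y) : X) := by
      show (((c m : V) : Equiv.Perm Y) YA : X) = _
      rw [hc, hσ, hAA]; rfl
    rw [← h1]
    exact ⟨fun e => by rw [e], fun e => hbij.1 (Subtype.ext e)⟩
  have hM1 := card_eq_fix_mul_fix hfp
  rw [hfix it a ha, hfix iy b hb,
    Nat.card_congr (Equiv.ofBijective _ hbij)] at hM1
  obtain ⟨z, hz, hzz⟩ := p.exists_sqrt h hx0
  have hzW : z ∈ W := p.kf_le_cent h (mem_DelFix_A h) hz
  have he : Nat.card {y : Y // t • (y : X) = y} = Nat.card {y : Y // (x0 * t) • (y : X) = y} := by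
    refine Nat.card_congr ((MulAction.toPerm (⟨z, hzW⟩ : W)).subtypeEquiv fun y => ?_)
    show t • (y : X) = y ↔ (x0 * t) • (z • (y : X)) = z • (y : X)
    have hc := p.conj_tx h hz
    rw [hzz] at hc
    rw [← hc, mul_smul, mul_smul, inv_smul_smul, (MulAction.injective z).eq_iff]
  rw [← he] at hM1
  rw [hM1, pow_two]
  have he2 : Nat.card {y : Y // t • (y : X) = y} = Nat.card {y : X // y ∈ Y ∧ t • y = y} :=
    Nat.card_congr (Equiv.subtypeSubtypeEquivSubtypeInter (fun y : X => y ∈ Y) fun y : X => t • y = y)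
  rw [he2]

end EvenPack

end Cfsg.Agent.Perm.RankThreeFrob
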