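import Cfsg.Agent.Lib.Perm.RankThreeFrob.EvenDelta

/-!
The stabilizer of an edge has even order and a kernel element fixes a nonadjacent pair: conclusion.
-/

set_option autoImplicit false
set_option linter.unusedSectionVars false
set_option linter.style.haveILetI false

namespace Cfsg.Agent.Perm.RankThreeFrob

open MulAction

universe u v

theorem pow_cube_of_conj {L : Type u} [Group L] {s m : L} {j : ℕ} (hs : s ^ 3 = 1) (he : s * m * s⁻¹ = m ^ j) :
    m ^ (j * j * j) = m := by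
  have h2 : s ^ 2 * m * (s ^ 2)⁻¹ = m ^ (j * j) := by
    calc s ^ 2 * m * (s ^ 2)⁻¹ = s * (s * m * s⁻¹) * s⁻¹ := by rw [pow_two]; group
      _ = (s * m * s⁻¹) ^ j := by rw [conj_pow, he]
      _ = m ^ (j * j) := by rw [he, ← pow_mul]
  have h3 : s ^ 3 * m * (s ^ 3)⁻¹ = m ^ (j * j * j) := by
    calc s ^ 3 * m * (s ^ 3)⁻¹ = s * (s ^ 2 * m * (s ^ 2)⁻¹) * s⁻¹ := by rw [pow_succ' s 2]; group
      _ = (s * m * s⁻¹) ^ (j * j) := by rw [conj_pow, h2]
      _ = m ^ (j * j * j) := by rw [he, ← pow_mul, mul_assoc]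
  rw [← h3, hs]; group

variable {G : Type u} [Group G] {X : Type v} [MulAction G X] [Finite G] [Finite X] [FaithfulSMul G X]
  {A B D : X} {t : G}

namespace EvenPack

variable (h : Setup G A B D) (p : EvenPack A B t) (hΔ : Del G A B D ≠ ⊥)
include h p hΔ

theorem exists_fixed_pair : ∃ y, y ∈ DelFix G A B D ∧ y ≠ A ∧ t • y = y := by
  by_contra hc
  push Not at hc
  have h1 := p.card_DelFix h hΔ
  have h2 : Nat.card {y : X // y ∈ DelFix G A B D ∧ t • y = y} = 1 := by
    rw [Nat.card_eq_one_iff_unique]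
    have hu : ∀ z : {y : X // y ∈ DelFix G A B D ∧ t • y = y}, (z : X) = A := fun z => by
      by_contra hne
      exact hc z z.2.1 hne z.2.2
    exact ⟨⟨fun a b => Subtype.ext ((hu a).trans (hu b).symm)⟩, ⟨A, mem_DelFix_A h, p.fixA⟩⟩
  rw [h2, one_pow, Nat.card_eq_one_iff_unique] at h1
  exact h.farD.1 (congrArg Subtype.val
    (h1.1.elim (⟨A, mem_DelFix_A h⟩ : DelFix G A B D) ⟨D, mem_DelFix_D⟩))

theorem exists_invol_far {y : X} (hy : Far G A B A y) :
    ∃ u : G, u ∈ invT G X ∧ u • A = A ∧ u • y = y := by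
  obtain ⟨y0, hy0, hne, ht⟩ := p.exists_fixed_pair h hΔ
  obtain ⟨x, hx1⟩ := Subgroup.ne_bot_iff_exists_ne_one.1 hΔ
  obtain ⟨g, gA, gy⟩ := h.far_trans (h.far_of_fix x.2.1 (fun e => hx1 (Subtype.ext e)) (hy0 x x.2) hne) hy
  refine ⟨g * t * g⁻¹, invT_conj g t (p.mem_invT h), ?_, ?_⟩
  · conv_lhs => rw [← gA]
    rw [mul_smul, mul_smul, inv_smul_smul, p.fixA, gA]
  · conv_lhs => rw [← gy]
    rw [mul_smul, mul_smul, inv_smul_smul, ht, gy]

theorem inv_count {y : X} (hy : y ∈ DelFix G A B D) (hne : y ≠ A) :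
    Nat.card {u : G // u ∈ invT G X ∧ u • A = A ∧ u • y = y} = Nat.card ↥(Del G A B D) := by
  obtain ⟨x1, hx1⟩ := Subgroup.ne_bot_iff_exists_ne_one.1 hΔ
  obtain ⟨u0, hu0, hA0, hy0⟩ := p.exists_invol_far h hΔ
    (h.far_of_fix x1.2.1 (fun e => hx1 (Subtype.ext e)) (hy x1 x1.2) hne)
  refine (Nat.card_congr (Equiv.ofBijective (fun x : ↥(Del G A B D) =>
    (⟨(x : G) * u0, ⟨?_, ?_, A, ?_⟩, ?_, ?_⟩ : {u : G // u ∈ invT G X ∧ u • A = A ∧ u • y = y})) ⟨?_, ?_⟩)).symm
  · calc (x : G) * u0 * (x * u0) = x * (u0 * x * u0) := by group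
      _ = 1 := by rw [p.invol_inverts h hu0.1 hu0.2.1 hA0 x.2.1, mul_inv_cancel]
  · intro e
    have : u0 ∈ Kf G A B A := by
      rw [show u0 = (x : G)⁻¹ * (x * u0) by group, e, mul_one]; exact inv_mem x.2.1
    exact hu0.2.1 (p.eq_one_of_sq h this hu0.1)
  · rw [mul_smul, hA0, h.Kf_fix x.2.1]
  · rw [mul_smul, hA0, h.Kf_fix x.2.1]
  · rw [mul_smul, hy0, hy x x.2]
  · exact fun a b e => Subtype.ext (mul_right_cancel (congrArg Subtype.val e))
  · rintro ⟨u, hu, hA, huy⟩
    obtain ⟨a, ha, ea⟩ := p.invol_stab h hu.1 hu.2.1 hA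
    obtain ⟨b, hb, eb⟩ := p.invol_stab h hu0.1 hu0.2.1 hA0
    have hmem : u * u0 ∈ Kf G A B A := by
      rw [ea, eb, p.conj_tx h ha, p.conj_tx h hb,
        show a * a * t * (b * b * t) = a * a * (t * (b * b) * t) by group, p.inverts _ (mul_mem hb hb)]
      exact mul_mem (mul_mem ha ha) (inv_mem (mul_mem hb hb))
    refine ⟨⟨u * u0, p.two_point h (mem_DelFix_A h) hy hne.symm hΔ hmem (by rw [mul_smul, hy0, huy])⟩,
      Subtype.ext ?_⟩
    show u * u0 * u0 = u
    rw [mul_assoc, hu0.1, mul_one]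

/-- The basic numbers. -/
theorem delta_params :
    kk G A B = 3 * Nat.card ↥(Del G A B D) ∧ dd G A D = 2 * Nat.card ↥(Del G A B D) ∧
      Nat.card (DelFix G A B D) = 4 := by
  classical
  haveI := Fintype.ofFinite X
  haveI := Fintype.ofFinite G
  set δ := Nat.card ↥(Del G A B D) with hδdef
  set f0 := Nat.card {y : X // y ∈ DelFix G A B D ∧ t • y = y} with hf0
  have hsq : Nat.card (DelFix G A B D) = f0 ^ 2 := p.card_DelFix h hΔ
  set S := Finset.univ.filter fun u : G => u ∈ invT G X ∧ u • A = A with hS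
  set J := Finset.univ.filter fun y : X => y ∈ DelFix G A B D ∧ y ≠ A with hJ
  have hJins : (Finset.univ.filter fun y : X => y ∈ DelFix G A B D) = insert A J := by
    ext y
    simp only [hJ, Finset.mem_filter, Finset.mem_univ, true_and, Finset.mem_insert]
    constructor
    · intro hy; by_cases e : y = A
      · exact Or.inl e
      · exact Or.inr ⟨hy, e⟩
    · rintro (rfl | ⟨hy, -⟩)
      · exact mem_DelFix_A h
      · exact hy
  have hJc : J.card + 1 = f0 ^ 2 := by
    rw [← hsq, Nat.card_eq_fintype_card, Fintype.card_subtype, hJins,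
      Finset.card_insert_of_notMem (by simp [hJ])]
  have h1 : ∀ u ∈ S, (J.filter fun y => u • y = y).card + 1 = f0 := by
    intro u hu
    obtain ⟨⟨u1, u2, -⟩, uA⟩ := (Finset.mem_filter.1 hu).2
    obtain ⟨z, hz, rfl⟩ := p.invol_stab h u1 u2 uA
    have e : (Finset.univ.filter fun y : X => y ∈ DelFix G A B D ∧ (z * t * z⁻¹) • y = y) =
        insert A (J.filter fun y => (z * t * z⁻¹) • y = y) := by
      rw [← Finset.filter_filter, hJins, Finset.filter_insert, if_pos uA]
    have hc : f0 = (Finset.univ.filter fun y : X => y ∈ DelFix G A B D ∧ (z * t * z⁻¹) • y = y).card := by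
      rw [← Fintype.card_subtype, ← Nat.card_eq_fintype_card, hf0]
      refine Nat.card_congr ((MulAction.toPerm z).subtypeEquiv fun y => ?_)
      show (y ∈ DelFix G A B D ∧ t • y = y) ↔ z • y ∈ DelFix G A B D ∧ (z * t * z⁻¹) • (z • y) = z • y
      rw [mul_smul, mul_smul, inv_smul_smul, (MulAction.injective z).eq_iff]
      have hzW := p.kf_le_cent h (mem_DelFix_A h) hz
      refine and_congr_left fun _ => ⟨fun hy => cent_DelFix hzW hy, fun hy => ?_⟩
      have := cent_DelFix (inv_mem hzW) hy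
      rwa [inv_smul_smul] at this
    rw [hc, e, Finset.card_insert_of_notMem (by simp [hJ])]
  have h2 : ∀ y ∈ J, (S.filter fun u => u • y = y).card = δ := by
    intro y hy
    obtain ⟨-, hy', hne⟩ := Finset.mem_filter.1 hy
    rw [hδdef, ← p.inv_count h hΔ hy' hne, Nat.card_eq_fintype_card, Fintype.card_subtype, hS,
      Finset.filter_filter]
    congr 1
    ext u
    simp only [Finset.mem_filter, Finset.mem_univ, true_and]
    exact ⟨fun e => ⟨e.1.1, e.1.2, e.2⟩, fun e => ⟨⟨e.1, e.2.1⟩, e.2.2⟩⟩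
  have hf1 : 1 < f0 := by
    obtain ⟨y0, hy0, hne, ht⟩ := p.exists_fixed_pair h hΔ
    haveI : Nontrivial {y : X // y ∈ DelFix G A B D ∧ t • y = y} :=
      ⟨⟨y0, hy0, ht⟩, ⟨A, mem_DelFix_A h, p.fixA⟩, fun e => hne (congrArg Subtype.val e)⟩
    exact Finite.one_lt_card
  obtain ⟨r, hr⟩ : ∃ r, f0 = r + 1 := ⟨f0 - 1, by omega⟩
  have hr0 : 0 < r := by omega
  have hSc : S.card = kk G A B := by rw [← p.card_invT_fix h, Nat.card_eq_fintype_card, Fintype.card_subtype]
  have hcount := Finset.sum_card_bipartiteAbove_eq_sum_card_bipartiteBelow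
    (fun (u : G) (y : X) => u • y = y) (s := S) (t := J)
  simp only [Finset.bipartiteAbove, Finset.bipartiteBelow] at hcount
  rw [Finset.sum_const_nat (m := r) (fun u hu => by have := h1 u hu; omega),
    Finset.sum_const_nat (m := δ) h2, hSc] at hcount
  have hJr : J.card = r * (r + 2) := by
    rw [hr, show (r + 1) ^ 2 = r * (r + 2) + 1 by ring] at hJc; omega
  rw [hJr] at hcount
  have hk : kk G A B = (r + 2) * δ := by
    refine Nat.eq_of_mul_eq_mul_right hr0 ?_
    rw [hcount]; ring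
  -- the normalizer of the kernel of the pair
  set N : Subgroup G := stabilizer G A ⊓ Subgroup.normalizer (Del G A B D : Set G) with hN
  set CN : Subgroup G := (stabilizer G A ⊓ stabilizer G B) ⊓ Subgroup.normalizer (Del G A B D : Set G) with hCN
  have hKN : ∀ x ∈ Kf G A B A, x ∈ Subgroup.normalizer (Del G A B D : Set G) := fun x hx =>
    Subgroup.centralizer_le_normalizer _ (p.kf_le_cent h (mem_DelFix_A h) hx)
  have hNcard : Nat.card N = kk G A B * Nat.card CN := by
    rw [← h.card_Kf A, ← Nat.card_prod]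
    refine (Nat.card_congr (Equiv.ofBijective (fun q : ↥(Kf G A B A) × CN =>
      (⟨(q.1 : G) * q.2, mul_mem (h.Kf_le q.1.2) q.2.2.1.1, mul_mem (hKN _ q.1.2) q.2.2.2⟩ : N)) ⟨?_, ?_⟩)).symm
    · rintro ⟨x, c⟩ ⟨x', c'⟩ e
      have e' : (x : G) * c = x' * c' := congrArg Subtype.val e
      have hc : (x' : G)⁻¹ * x = c' * (c : G)⁻¹ := by
        calc (x' : G)⁻¹ * x = (x' : G)⁻¹ * (x * c) * (c : G)⁻¹ := by group
          _ = (x' : G)⁻¹ * (x' * c') * (c : G)⁻¹ := by rw [e']
          _ = _ := by group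
      have h3 : (x' : G)⁻¹ * x = 1 := by
        refine h.Kf_move (mul_mem (inv_mem x'.2) x.2) Adj.base ?_
        rw [hc, mul_smul, inv_smul_eq_iff.2 (show B = (c : G) • B from c.2.1.2.symm),
          show (c' : G) • B = B from c'.2.1.2]
      refine Prod.ext (Subtype.ext (inv_mul_eq_one.1 h3).symm) (Subtype.ext ?_)
      rw [h3] at hc
      exact (mul_inv_eq_one.1 hc.symm).symm
    · rintro ⟨g, hgA, hgN⟩
      obtain ⟨x, hx, c, cA, cB, rfl⟩ := h.split_stab hgA
      exact ⟨(⟨x, hx⟩, ⟨c, ⟨cA, cB⟩, (Subgroup.mul_mem_cancel_left _ (hKN x hx)).1 hgN⟩), rfl⟩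
  have hNd : Nat.card N = J.card * dd G A D := by
    have horb : (orbit N D : Set X) = {y | y ∈ DelFix G A B D ∧ y ≠ A} := by
      ext y
      constructor
      · rintro ⟨g, rfl⟩
        refine ⟨fun x hx => ?_, fun e => h.farD.1.symm ?_⟩
        · have hmem := (Subgroup.mem_normalizer_iff''.1 g.2.2 x).1 hx
          have h3 := hmem.2
          show x • (g : G) • D = (g : G) • D
          change ((g : G)⁻¹ * x * g) • D = D at h3
          rw [mul_smul, mul_smul, inv_smul_eq_iff] at h3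
          exact h3
        · exact MulAction.injective (g : G) (e.trans g.2.1.symm)
      · rintro ⟨hy, hne⟩
        obtain ⟨x1, hx1⟩ := Subgroup.ne_bot_iff_exists_ne_one.1 hΔ
        obtain ⟨g, gA, gy⟩ := h.far_trans h.farD
          (h.far_of_fix x1.2.1 (fun e => hx1 (Subtype.ext e)) (hy x1 x1.2) hne)
        refine ⟨⟨g, gA, ?_⟩, gy⟩
        refine Subgroup.mem_normalizer_fintype fun x hx => ?_
        refine p.two_point h (mem_DelFix_A h) hy hne.symm hΔ (h.Kf_normal gA hx.1) ?_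
        rw [← gy, mul_smul, mul_smul, inv_smul_smul, show x • D = D from hx.2]
    rw [← Nat.card_congr (orbitProdStabilizerEquivGroup N D), Nat.card_prod]
    congr 1
    · rw [show Nat.card ↥(orbit N D) = Nat.card {y : X // y ∈ DelFix G A B D ∧ y ≠ A} by rw [horb]; rfl,
        Nat.card_eq_fintype_card, Fintype.card_subtype]
    · refine Nat.card_congr
        { toFun := fun g => ⟨g.1.1, g.1.2.1, g.2⟩
          invFun := fun g => ⟨⟨g.1, g.2.1, ?_⟩, g.2.2⟩
          left_inv := fun g => rfl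
          right_inv := fun g => rfl }
      refine Subgroup.mem_normalizer_fintype fun x hx => ⟨h.Kf_normal g.2.1 hx.1, ?_⟩
      have gD : (g : G) • D = D := g.2.2
      show ((g : G) * x * (g : G)⁻¹) • D = D
      rw [mul_smul, mul_smul, inv_smul_eq_iff.2 gD.symm, show x • D = D from hx.2, gD]
  have hCdvd : Nat.card CN ∣ kk G A B - δ := by
    have hs : Nat.card ({x : G | x ∈ Kf G A B A ∧ x ∉ Del G A B D} : Set G) = kk G A B - δ := by
      show Nat.card {x : G // x ∈ Kf G A B A ∧ x ∉ Del G A B D} = kk G A B - δ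
      rw [← h.card_Kf A, hδdef, Nat.card_eq_fintype_card, Nat.card_eq_fintype_card, Nat.card_eq_fintype_card,
        Fintype.card_subtype, Fintype.card_subtype, Fintype.card_subtype, ← Finset.card_sdiff_of_subset]
      · congr 1; ext x; simp
      · intro x hx
        simp only [Finset.mem_filter, Finset.mem_univ, true_and] at hx ⊢
        exact hx.1
    rw [← hs]
    refine card_dvd_of_free_conj CN _ (fun g hg x hx => ⟨h.Kf_normal hg.1.1 hx.1, fun e => hx.2 ?_⟩)
      fun g hg x hx e => ?_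
    · exact ((Subgroup.mem_normalizer_iff.1 hg.2 x).2 e)
    · have hx1 : x ≠ 1 := fun e' => hx.2 (e' ▸ one_mem _)
      exact h.Kf_move (h.cent_le hx.1 hx1 hg.1.1 (by
        calc g * x = g * x * g⁻¹ * g := by group
          _ = x * g := by rw [e])) Adj.base hg.1.2
  have hcop : (Nat.card CN).Coprime δ := by
    refine Nat.Coprime.coprime_dvd_left (Subgroup.card_dvd_of_le (inf_le_left : CN ≤ _)) ?_
    refine Nat.Coprime.coprime_dvd_right ?_ h.cop.symm
    rw [hk]; exact dvd_mul_left _ _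
  have hCr : Nat.card CN ∣ r + 1 := by
    refine hcop.dvd_of_dvd_mul_right ?_
    rwa [hk, show (r + 2) * δ - δ = (r + 1) * δ by rw [show (r + 2) * δ = (r + 1) * δ + δ by ring]; omega] at hCdvd
  have hδd : δ ∣ dd G A D := Subgroup.card_dvd_of_le fun x hx => ⟨h.Kf_fix hx.1, hx.2⟩
  have hdeven : Even (dd G A D) := by
    obtain ⟨u, ⟨u1, u2, -⟩, uA, uD⟩ := p.exists_invol_far h hΔ h.farD
    rw [even_iff_two_dvd, dd, ← (orderOf_eq_prime (by rw [pow_two, u1]) u2 : orderOf u = 2)]
    exact Subgroup.orderOf_dvd_natCard _ ⟨uA, uD⟩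
  obtain ⟨w, hw⟩ := hδd
  have hδpos : 0 < δ := Nat.card_pos
  have hCw : Nat.card CN = r * w := by
    refine Nat.eq_of_mul_eq_mul_left (show 0 < (r + 2) * δ from Nat.mul_pos (by omega) hδpos) ?_
    rw [← hk, ← hNcard, hNd, hJr, hw, hk]; ring
  rw [hCw] at hCr
  have hr1 : r = 1 := by
    have h3 : r ∣ r + 1 := (Dvd.intro w rfl).trans hCr
    exact Nat.dvd_one.1 ((Nat.dvd_add_right dvd_rfl).1 h3)
  subst hr1
  have hδodd : Odd δ := by
    refine (p.odd_k h).of_dvd_nat ?_
    rw [hk]; exact dvd_mul_left _ _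
  have hweven : Even w := by
    rw [hw, Nat.even_mul] at hdeven
    exact hdeven.resolve_left (Nat.not_even_iff_odd.2 hδodd)
  rw [one_mul] at hCr
  have hw2 : w = 2 := by
    obtain ⟨j, hj⟩ := hweven
    have := Nat.le_of_dvd (by norm_num) hCr
    rcases Nat.eq_zero_or_pos j with e | e
    · have hd : 0 < dd G A D := Nat.card_pos
      rw [hw, hj, e] at hd; omega
    · omega
  refine ⟨hk, by rw [hw, hw2]; ring, ?_⟩
  rw [hsq, hr]; rfl

theorem cube {x : G} (hx : x ∈ Kf G A B A) : x ^ 3 = 1 := by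
  classical
  have key : ∀ y ∈ Kf G A B A, y ^ 3 ∈ Del G A B D := by
    intro y hy
    have hidx : ((Del G A B D).subgroupOf (Kf G A B A)).index = 3 := by
      have h1 := ((Del G A B D).subgroupOf (Kf G A B A)).card_mul_index
      rw [h.card_Kf, (p.delta_params h hΔ).1,
        Nat.card_congr (Subgroup.subgroupOfEquivOfLe (show Del G A B D ≤ Kf G A B A from fun z hz => hz.1)).toEquiv,
        mul_comm 3] at h1
      exact Nat.eq_of_mul_eq_mul_left Nat.card_pos h1
    haveI : ((Del G A B D).subgroupOf (Kf G A B A)).Normal := ⟨fun z hz g => by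
      have e : (g : G) * z * (g : G)⁻¹ = z := by rw [p.kcomm h g.2 z.2, mul_inv_cancel_right]
      show (g : G) * z * (g : G)⁻¹ ∈ Del G A B D
      rw [e]; exact hz⟩
    have h3 := Subgroup.pow_index_mem ((Del G A B D).subgroupOf (Kf G A B A)) ⟨y, hy⟩
    rw [hidx] at h3
    exact h3
  by_contra hne
  obtain ⟨y, hy, hxy⟩ := h.not_fix_all_far (pow_mem hx 3) hne
  obtain ⟨g, gA, gy⟩ := h.far_trans hy h.farD
  have h4 := (key _ (h.Kf_normal gA hx)).2
  change ((g * x * g⁻¹) ^ 3) • D = D at h4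
  rw [conj_pow, ← gy, mul_smul, mul_smul, inv_smul_smul] at h4
  exact hxy (MulAction.injective g h4)

/-- The fixed points of the kernel stabilizer of a far point. -/
theorem far_fix {y : X} (hy : Far G A B A y) {z : X} (hz : ∀ s ∈ Kf G A B A, s • y = y → s • z = z) :
    z = A ∨ ∃ s ∈ Kf G A B A, s • y = z := by
  classical
  haveI := Fintype.ofFinite X
  obtain ⟨g, gA, gy⟩ := h.far_trans h.farD hy
  have gA' : g⁻¹ • A = A := inv_smul_eq_iff.2 gA.symm
  have hzY : g⁻¹ • z ∈ DelFix G A B D := by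
    intro x hx
    have h1 := hz _ (h.Kf_normal gA hx.1)
      (by rw [← gy, mul_smul, mul_smul, inv_smul_smul, show x • D = D from hx.2])
    rw [mul_smul, mul_smul, smul_eq_iff_eq_inv_smul] at h1
    exact h1
  obtain ⟨hk, -, hY⟩ := p.delta_params h hΔ
  set O := Finset.univ.filter fun r : X => ∃ s ∈ Kf G A B A, s • D = r with hO
  have hsub : insert A O ⊆ Finset.univ.filter fun r : X => r ∈ DelFix G A B D := by
    intro r hr
    simp only [hO, Finset.mem_insert, Finset.mem_filter, Finset.mem_univ, true_and] at hr ⊢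
    rcases hr with rfl | ⟨s, hs, rfl⟩
    · exact mem_DelFix_A h
    · exact cent_DelFix (p.kf_le_cent h (mem_DelFix_A h) hs) mem_DelFix_D
  have hOc : O.card = 3 := by
    have h1 := Nat.card_congr (orbitProdStabilizerEquivGroup ↥(Kf G A B A) D)
    rw [Nat.card_prod, h.card_Kf, hk] at h1
    have h2 : Nat.card ↥(stabilizer ↥(Kf G A B A) D) = Nat.card ↥(Del G A B D) :=
      Nat.card_congr
        { toFun := fun s => ⟨s.1.1, s.1.2, s.2⟩
          invFun := fun s => ⟨⟨s.1, s.2.1⟩, s.2.2⟩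
          left_inv := fun _ => rfl
          right_inv := fun _ => rfl }
    rw [h2] at h1
    have h3 := Nat.eq_of_mul_eq_mul_right Nat.card_pos h1
    rw [← h3, hO, ← Fintype.card_subtype, ← Nat.card_eq_fintype_card]
    refine Nat.card_congr (Equiv.subtypeEquivRight fun r => ?_)
    exact ⟨fun ⟨s, hs, e⟩ => ⟨⟨s, hs⟩, e⟩, fun ⟨s, e⟩ => ⟨s, s.2, e⟩⟩
  have heq := Finset.eq_of_subset_of_card_le hsub (by
    rw [← Fintype.card_subtype, ← Nat.card_eq_fintype_card, Finset.card_insert_of_notMem, hOc]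
    · exact hY.le
    · simp only [hO, Finset.mem_filter, Finset.mem_univ, true_and]
      rintro ⟨s, hs, e⟩
      exact h.farD.1.symm (MulAction.injective s (e.trans (h.Kf_fix hs).symm)))
  have hmem : g⁻¹ • z ∈ insert A O := by rw [heq]; simpa using hzY
  simp only [hO, Finset.mem_insert, Finset.mem_filter, Finset.mem_univ, true_and] at hmem
  rcases hmem with e | ⟨s, hs, e⟩
  · exact Or.inl (by rw [← smul_inv_smul g z, e, gA])
  · refine Or.inr ⟨g * s * g⁻¹, h.Kf_normal gA hs, ?_⟩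
    rw [← gy, mul_smul, mul_smul, inv_smul_smul, e, smul_inv_smul]

theorem stab_eq_of_imp {y w : X} (hy : Far G A B A y) (hw : Far G A B A w)
    (himp : ∀ s ∈ Kf G A B A, s • y = y → s • w = w) {s : G} (hs : s ∈ Kf G A B A) :
    s • y = y ↔ s • w = w := by
  classical
  haveI := Fintype.ofFinite G
  refine ⟨himp s hs, fun hsw => ?_⟩
  have h1 := p.card_kf_far h hy
  rw [← p.card_kf_far h hw, Nat.card_eq_fintype_card, Nat.card_eq_fintype_card, Fintype.card_subtype,
    Fintype.card_subtype] at h1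
  have heq := Finset.eq_of_subset_of_card_le (fun z hz => by
    simp only [Finset.mem_filter, Finset.mem_univ, true_and] at hz ⊢
    exact ⟨hz.1, himp z hz.1 hz.2⟩) h1.ge
  have hmem : s ∈ Finset.univ.filter fun z : G => z ∈ Kf G A B A ∧ z • y = y := by
    rw [heq]; simp [hs, hsw]
  exact (Finset.mem_filter.1 hmem).2.2

/-- A nontrivial kernel element lies in the stabilizers of one orbit of far points only. -/
theorem one_hyperplane {x : G} (hx : x ∈ Kf G A B A) (hx1 : x ≠ 1) {y1 y2 : X} (hy1 : Far G A B A y1)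
    (hy2 : Far G A B A y2) (hxy1 : x • y1 = y1) (hxy2 : x • y2 = y2) {s : G} (hs : s ∈ Kf G A B A) :
    s • y1 = y1 ↔ s • y2 = y2 := by
  classical
  haveI : Fact (Nat.Prime 3) := ⟨Nat.prime_three⟩
  set K := Kf G A B A with hK
  set Cx := Subgroup.centralizer ({x} : Set G) with hCx
  have hmemC : ∀ g : G, g ∈ Cx ↔ g * x = x * g := fun g => Subgroup.mem_centralizer_singleton_iff
  have hKC : K ≤ Cx := fun g hg => (hmemC g).2 (p.kcomm h hg hx)
  have hZ : ∀ g ∈ Cx, ∀ z : X, x • z = z → x • (g • z) = g • z := fun g hg z hz => by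
    rw [← mul_smul, ← (hmemC g).1 hg, mul_smul, hz]
  have hstab : ∀ g ∈ Cx, g • A = A → g ∈ K := fun g hg hgA => h.cent_le hx hx1 hgA ((hmemC g).1 hg)
  have hK3 : IsPGroup 3 ↥K := fun g => ⟨1, Subtype.ext (by
    rw [Subgroup.coe_pow, pow_one]; exact p.cube h hΔ g.2)⟩
  have htrans : ∀ z : X, x • z = z → ∃ g ∈ Cx, g • A = z := by
    intro z hz
    refine transitive_of_unique_fix (p := 3) Cx {r : X | x • r = r} (fun g hg r hr => hZ g hg r hr)
      (fun R hR => ?_) (h.Kf_fix hx) hz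
    obtain ⟨U, hU, hUp, hfix⟩ := p.kf_pprimary h R (q := 3) (Dvd.intro _ (p.delta_params h hΔ).1.symm)
    exact ⟨U, fun g hg => (hmemC g).2 (p.kcomm h (hU hg) (h.Kf_change hx hR)), hUp,
      fun g hg => h.Kf_fix (hU hg), fun r _ hr => hfix r hr⟩
  -- the Sylow subgroup
  set P0 : Subgroup ↥Cx := K.subgroupOf Cx with hP0
  have hP0p : IsPGroup 3 ↥P0 := hK3.of_equiv (Subgroup.subgroupOfEquivOfLe hKC).symm
  let YA : {r : X // x • r = r} := ⟨A, h.Kf_fix hx⟩
  have hindex : ¬ 3 ∣ P0.index := by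
    have hidx : P0.index = Nat.card {r : X // x • r = r} := by
      letI : MulAction ↥Cx {r : X // x • r = r} :=
        { smul := fun g r => ⟨(g : G) • (r : X), hZ g g.2 r r.2⟩
          one_smul := fun r => Subtype.ext (one_smul G (r : X))
          mul_smul := fun g g' r => Subtype.ext (mul_smul (g : G) (g' : G) (r : X)) }
      haveI : IsPretransitive ↥Cx {r : X // x • r = r} := ⟨fun a b => by
        obtain ⟨g, hg, e⟩ := htrans a a.2
        obtain ⟨g', hg', e'⟩ := htrans b b.2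
        refine ⟨⟨g', hg'⟩ * (⟨g, hg⟩ : ↥Cx)⁻¹, Subtype.ext ?_⟩
        show (g' * g⁻¹) • (a : X) = b
        rw [← e, mul_smul, inv_smul_smul, e']⟩
      have hst : stabilizer ↥Cx YA = P0 := by
        ext g
        rw [mem_stabilizer_iff, Subtype.ext_iff, hP0, Subgroup.mem_subgroupOf]
        exact ⟨fun e => hstab g g.2 e, fun e => h.Kf_fix e⟩
      rw [← hst, MulAction.index_stabilizer_of_transitive]
    rw [hidx]
    intro h3
    letI : MulAction ↥K {r : X // x • r = r} :=
      { smul := fun g r => ⟨(g : G) • (r : X), hZ g (hKC g.2) r r.2⟩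
        one_smul := fun r => Subtype.ext (one_smul G (r : X))
        mul_smul := fun g g' r => Subtype.ext (mul_smul (g : G) (g' : G) (r : X)) }
    have hc := hK3.card_modEq_card_fixedPoints {r : X // x • r = r}
    have h1 : Nat.card (fixedPoints ↥K {r : X // x • r = r}) = 1 := by
      rw [Nat.card_eq_one_iff_unique]
      have hA : ∀ r : fixedPoints ↥K {r : X // x • r = r}, ((r : {r : X // x • r = r}) : X) = A := fun r =>
        h.normal_fix_only (N := K) le_rfl (fun e => hx1 (by rw [e, Subgroup.mem_bot] at hx; exact hx))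
          (fun g hg z hz => h.Kf_normal hg hz) fun z hz => congrArg Subtype.val (r.2 ⟨z, hz⟩)
      exact ⟨⟨fun a b => Subtype.ext (Subtype.ext ((hA a).trans (hA b).symm))⟩,
        ⟨⟨YA, fun g => Subtype.ext (h.Kf_fix g.2)⟩⟩⟩
    rw [h1, Nat.ModEq, Nat.mod_eq_zero_of_dvd h3] at hc
    norm_num at hc
  let S : Sylow 3 ↥Cx := hP0p.toSylow hindex
  have hScoe : (S : Subgroup ↥Cx) = P0 := IsPGroup.toSylow_coe hP0p hindex
  have hNC : Subgroup.normalizer ((S : Subgroup ↥Cx) : Set ↥Cx) ≤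
      Subgroup.centralizer ((S : Subgroup ↥Cx) : Set ↥Cx) := by
    intro n hn
    rw [hScoe] at hn ⊢
    have hfixA : (n : G) • A = A := h.normal_fix_only (N := K) le_rfl
      (fun e => hx1 (by rw [e, Subgroup.mem_bot] at hx; exact hx))
      (fun g hg z hz => h.Kf_normal hg hz) (fun z hz => by
        have hz' := (Subgroup.mem_normalizer_iff''.1 hn ⟨z, hKC hz⟩).1 hz
        have h5 := h.Kf_fix (show (n : G)⁻¹ * z * n ∈ K from hz')
        rw [mul_smul, mul_smul, inv_smul_eq_iff] at h5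
        exact h5)
    have hnK := hstab n n.2 hfixA
    rw [Subgroup.mem_centralizer_iff]
    exact fun z hz => Subtype.ext (p.kcomm h (show (z : G) ∈ K from hz) hnK)
  have hcomp : Subgroup.IsComplement' (MonoidHom.transferSylow S hNC).ker P0 :=
    hScoe ▸ MonoidHom.ker_transferSylow_isComplement' S hNC
  set M := (MonoidHom.transferSylow S hNC).ker with hM
  have hreg : ∀ m ∈ M, (m : G) • A = A → m = 1 := fun m hm e => by
    have hmP : m ∈ P0 := hstab m m.2 e
    have := hcomp.disjoint.le_bot ⟨hm, hmP⟩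
    exact this
  have hinj : ∀ m ∈ M, ∀ m' ∈ M, (m : G) • A = (m' : G) • A → m = m' := fun m hm m' hm' e => by
    have h5 := hreg (m'⁻¹ * m) (mul_mem (inv_mem hm') hm)
      (by rw [Subgroup.coe_mul, Subgroup.coe_inv, mul_smul, e, inv_smul_smul])
    exact (inv_mul_eq_one.1 h5).symm
  have hex : ∀ z : X, x • z = z → ∃ m ∈ M, (m : G) • A = z := by
    intro z hz
    obtain ⟨g, hg, rfl⟩ := htrans z hz
    obtain ⟨⟨m, r⟩, e, -⟩ := hcomp.existsUnique (⟨g, hg⟩ : ↥Cx)
    refine ⟨m, m.2, ?_⟩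
    have e' : (((m : ↥Cx) : G)) * ((r : ↥Cx) : G) = g := congrArg Subtype.val e
    rw [← e', mul_smul, h.Kf_fix (show ((r : ↥Cx) : G) ∈ K from r.2)]
  have hcomm_iff : ∀ m ∈ M, ∀ z ∈ K, (z • ((m : G) • A) = (m : G) • A ↔ z * m = m * z) := by
    intro m hm z hz
    constructor
    · intro e
      have h5 := hinj _ ((MonoidHom.normal_ker (MonoidHom.transferSylow S hNC)).conj_mem m hm ⟨z, hKC hz⟩) m hm
        (by
          show (z * m * z⁻¹) • A = (m : G) • A
          rw [mul_smul, mul_smul, inv_smul_eq_iff.2 (h.Kf_fix hz).symm, e])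
      have h6 : z * m * z⁻¹ = m := congrArg Subtype.val h5
      calc z * m = z * m * z⁻¹ * z := by group
        _ = m * z := by rw [h6]
    · intro e
      rw [← mul_smul, e, mul_smul, h.Kf_fix hz]
  have hfarM : ∀ m ∈ M, m ≠ 1 → Far G A B A ((m : G) • A) := fun m hm hm1 =>
    h.far_of_fix hx hx1 (hZ m m.2 A (h.Kf_fix hx)) fun e => hm1 (hreg m hm e)
  have hconjpow : ∀ m ∈ M, m ≠ 1 → ∀ j : ℕ, m ^ j = 1 ∨ m ^ (j * j * j) = m := by
    intro m hm hm1 j
    rcases p.far_fix h hΔ (hfarM m hm hm1) (z := ((m ^ j : ↥Cx) : G) • A) (fun z hz e => by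
      refine (hcomm_iff _ (pow_mem hm j) z hz).2 ?_
      rw [Subgroup.coe_pow]
      exact (show Commute z (m : G) from (hcomm_iff m hm z hz).1 e).pow_right j) with e | ⟨z, hz, e⟩
    · exact Or.inl (hreg _ (pow_mem hm j) e)
    · refine Or.inr (pow_cube_of_conj (s := (⟨z, hKC hz⟩ : ↥Cx))
        (Subtype.ext (by rw [Subgroup.coe_pow]; exact p.cube h hΔ hz)) ?_)
      refine hinj _ ((MonoidHom.normal_ker (MonoidHom.transferSylow S hNC)).conj_mem m hm ⟨z, hKC hz⟩)
        _ (pow_mem hm j) ?_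
      show (z * m * z⁻¹) • A = _
      rw [mul_smul, mul_smul, inv_smul_eq_iff.2 (h.Kf_fix hz).symm, e]
  have hinv : ∀ m ∈ M, m * m = 1 := by
    intro m hm
    by_contra hmm
    have hm1 : m ≠ 1 := fun e => hmm (by rw [e, mul_one])
    have h7 : m ^ 7 = 1 := by
      rcases hconjpow m hm hm1 2 with e | e
      · exact absurd (by rwa [pow_two] at e) hmm
      · exact mul_eq_right.1 (by rw [← pow_succ]; exact e)
    rcases hconjpow m hm hm1 3 with e | e
    · refine hm1 ?_
      have h6 : m ^ 6 = 1 := by rw [show 6 = 3 * 2 from rfl, pow_mul, e, one_pow]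
      rwa [show 7 = 6 + 1 from rfl, pow_succ, h6, one_mul] at h7
    · refine hmm ?_
      have h26 : m ^ 26 = 1 := mul_eq_right.1 (by rw [← pow_succ]; exact e)
      have h28 : m ^ 28 = 1 := by rw [show 28 = 7 * 4 from rfl, pow_mul, h7, one_pow]
      rwa [show 28 = 26 + 2 from rfl, pow_add, h26, one_mul, pow_two] at h28
  have hMab : ∀ a ∈ M, ∀ b ∈ M, a * b = b * a := fun a ha b hb => by
    calc a * b = a⁻¹ * b⁻¹ := by
          rw [inv_eq_of_mul_eq_one_right (hinv a ha), inv_eq_of_mul_eq_one_right (hinv b hb)]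
      _ = (b * a)⁻¹ := (mul_inv_rev b a).symm
      _ = b * a := inv_eq_of_mul_eq_one_right (hinv _ (mul_mem hb ha))
  obtain ⟨m1, hm1, e1⟩ := hex y1 hxy1
  obtain ⟨m2, hm2, e2⟩ := hex y2 hxy2
  by_cases he : m1 * m2 = 1
  · have : m1 = m2 := by
      rw [← inv_eq_of_mul_eq_one_right he, inv_eq_of_mul_eq_one_right (hinv m1 hm1)]
    rw [← e1, ← e2, this]
  set y3 : X := ((m1 * m2 : ↥Cx) : G) • A with hy3def
  have hy3 : Far G A B A y3 := hfarM _ (mul_mem hm1 hm2) he
  -- the elements fixing the third point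
  by_cases hall : ∀ r ∈ K, r • y3 = y3 → r * m1 = m1 * r
  · have i1 : ∀ r ∈ K, r • y3 = y3 → r • y1 = y1 := fun r hr er => by
      rw [← e1]; exact (hcomm_iff m1 hm1 r hr).2 (hall r hr er)
    have i2 : ∀ r ∈ K, r • y3 = y3 → r • y2 = y2 := fun r hr er => by
      rw [← e2]
      refine (hcomm_iff m2 hm2 r hr).2 ?_
      have h8 : r * ((m1 : G) * m2) = (m1 : G) * m2 * r :=
        (hcomm_iff _ (mul_mem hm1 hm2) r hr).1 er
      have h9 := hall r hr er
      calc r * (m2 : G) = (m1 : G)⁻¹ * (r * ((m1 : G) * m2)) := by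
            rw [← mul_assoc r, h9]; group
        _ = m2 * r := by rw [h8]; group
    rw [← p.stab_eq_of_imp h hΔ hy3 hy1 i1 hs, p.stab_eq_of_imp h hΔ hy3 hy2 i2 hs]
  · push Not at hall
    obtain ⟨r, hr, er, hne⟩ := hall
    set rc : ↥Cx := ⟨r, hKC hr⟩ with hrc
    have hnorm := MonoidHom.normal_ker (MonoidHom.transferSylow S hNC)
    set u : ↥Cx := m1 * (rc * m1 * rc⁻¹) with hu
    have huM : u ∈ M := mul_mem hm1 (hnorm.conj_mem m1 hm1 rc)
    have hu1 : u ≠ 1 := fun e => by
      have h8 : rc * m1 * rc⁻¹ = m1 := by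
        rw [← inv_eq_of_mul_eq_one_right e, inv_eq_of_mul_eq_one_right (hinv m1 hm1)]
      have h9 : r * m1 * r⁻¹ = m1 := congrArg Subtype.val h8
      exact hne (by
        calc r * (m1 : G) = r * m1 * r⁻¹ * r := by group
          _ = m1 * r := by rw [h9])
    have hu2 : u = m2 * (rc * m2 * rc⁻¹) := by
      have h8 : r * ((m1 : G) * m2) = (m1 : G) * m2 * r := (hcomm_iff _ (mul_mem hm1 hm2) r hr).1 er
      have h9 : rc * (m1 * m2) * rc⁻¹ = m1 * m2 := Subtype.ext (by
        show r * ((m1 : G) * m2) * r⁻¹ = (m1 : G) * m2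
        rw [h8, mul_inv_cancel_right])
      have hc1 := hnorm.conj_mem m1 hm1 rc
      have hc2 := hnorm.conj_mem m2 hm2 rc
      have h10 : rc * m1 * rc⁻¹ = m1 * m2 * (rc * m2 * rc⁻¹) := by
        calc rc * m1 * rc⁻¹ = rc * (m1 * m2) * rc⁻¹ * (rc * m2 * rc⁻¹)⁻¹ := by group
          _ = _ := by rw [h9, inv_eq_of_mul_eq_one_right (hinv _ hc2)]
      calc u = m1 * (m1 * m2 * (rc * m2 * rc⁻¹)) := by rw [hu, h10]
        _ = (m1 * m1) * (m2 * (rc * m2 * rc⁻¹)) := by group
        _ = _ := by rw [hinv m1 hm1, one_mul]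
    have hgen : ∀ m : ↥Cx, m ∈ M → ∀ z ∈ K, z • ((m : G) • A) = (m : G) • A →
        z • (((m * (rc * m * rc⁻¹) : ↥Cx) : G) • A) = ((m * (rc * m * rc⁻¹) : ↥Cx) : G) • A := by
      intro m hm z hz e
      refine (hcomm_iff _ (mul_mem hm (hnorm.conj_mem m hm rc)) z hz).2 ?_
      have hzm : Commute z (m : G) := (hcomm_iff m hm z hz).1 e
      have hzr : Commute z r := p.kcomm h hz hr
      exact hzm.mul_right ((hzr.mul_right hzm).mul_right hzr.inv_right)
    have hw := hfarM u huM hu1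
    have i1 : ∀ z ∈ K, z • y1 = y1 → z • ((u : G) • A) = (u : G) • A := fun z hz e => by
      rw [← e1] at e; exact hgen m1 hm1 z hz e
    have i2 : ∀ z ∈ K, z • y2 = y2 → z • ((u : G) • A) = (u : G) • A := fun z hz e => by
      rw [← e2] at e; rw [hu2]; exact hgen m2 hm2 z hz e
    rw [p.stab_eq_of_imp h hΔ hy1 hw i1 hs, p.stab_eq_of_imp h hΔ hy2 hw i2 hs]

/-- The group when a nontrivial kernel element fixes a nonadjacent pair. -/
theorem delta_case : Nat.card X = 16 ∧ Nat.card G = 576 := by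
  classical
  obtain ⟨hk, hd, -⟩ := p.delta_params h hΔ
  set δ := Nat.card ↥(Del G A B D) with hδ
  have hδpos : 0 < δ := Nat.card_pos
  -- the order of the kernel of the pair
  have hδ3 : δ ≤ 3 := by
    obtain ⟨x, hx1⟩ := Subgroup.ne_bot_iff_exists_ne_one.1 hΔ
    obtain ⟨y, hy, hxy⟩ := h.not_fix_all_far x.2.1 (fun e => hx1 (Subtype.ext e))
    have hinter : ∀ s ∈ Del G A B D, s • y = y → s = 1 := by
      intro s hs hsy
      by_contra hs1
      exact hxy ((p.one_hyperplane h hΔ hs.1 hs1 h.farD hy hs.2 hsy x.2.1).1 x.2.2)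
    have hcount : δ * δ ≤ 3 * δ := by
      rw [← hk, ← h.card_Kf A, hδ]
      conv_lhs => arg 2; rw [← p.card_kf_far h hy]
      rw [← Nat.card_prod]
      refine Nat.card_le_card_of_injective
        (fun q : ↥(Del G A B D) × {z : G // z ∈ Kf G A B A ∧ z • y = y} =>
          (⟨(q.1 : G) * q.2, mul_mem q.1.2.1 q.2.2.1⟩ : ↥(Kf G A B A))) ?_
      rintro ⟨a, b⟩ ⟨a', b'⟩ e
      have e' : (a : G) * b = a' * b' := congrArg Subtype.val e
      have h1 : (a' : G)⁻¹ * a = b' * (b : G)⁻¹ := by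
        calc (a' : G)⁻¹ * a = (a' : G)⁻¹ * (a * b) * (b : G)⁻¹ := by group
          _ = (a' : G)⁻¹ * (a' * b') * (b : G)⁻¹ := by rw [e']
          _ = _ := by group
      have h2 : (a' : G)⁻¹ * a = 1 := hinter _ (mul_mem (inv_mem a'.2) a.2) (by
        rw [h1, mul_smul, inv_smul_eq_iff.2 b.2.2.symm, b'.2.2])
      refine Prod.ext (Subtype.ext (inv_mul_eq_one.1 h2).symm) (Subtype.ext ?_)
      rw [h2] at h1
      exact (mul_inv_eq_one.1 h1.symm).symm
    exact Nat.le_of_mul_le_mul_right hcount hδpos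
  have hδeq : δ = 3 := by
    obtain ⟨x, hx1⟩ := Subgroup.ne_bot_iff_exists_ne_one.1 hΔ
    haveI : Fact (Nat.Prime 3) := ⟨Nat.prime_three⟩
    have hord : orderOf x = 3 :=
      orderOf_eq_prime (Subtype.ext (by rw [Subgroup.coe_pow]; exact p.cube h hΔ x.2.1)) hx1
    have := Nat.le_of_dvd hδpos (hord ▸ orderOf_dvd_natCard x)
    omega
  rw [hδeq] at hk hd
  obtain ⟨e, f, hf1, hlam, hkk, hmu, hld, hc2, hd0, hl⟩ := h.params
  rw [hk, hd] at hld
  obtain ⟨n, q, q', hfix, hneven, hn, -, -, -, -⟩ := p.counts h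
  have hinc := p.far_incidence h
  rw [← hn, p.inv_count h hΔ mem_DelFix_D h.farD.1.symm, ← hδ, hδeq, hk] at hinc
  obtain ⟨r, hr⟩ := hneven
  have hc : cc G A B = 4 * r := by omega
  have hc8 : cc G A B ∣ 8 := by
    have := h.card_Kf_base.2.2.1
    rwa [hk] at this
  have hv := h.card_X
  rcases (show cc G A B = 4 ∨ cc G A B = 8 by
    have := Nat.le_of_dvd (by norm_num) hc8
    omega) with hc' | hc'
  · rw [hc'] at hld
    have hX : Nat.card X = 16 := by rw [hv, hk]; omega
    exact ⟨hX, by rw [h.card_G, hX, hk, hc']⟩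
  · exfalso
    rw [hc'] at hkk hlam hld
    rw [hk] at hkk
    have he : e = 0 := by omega
    have hf : f = 1 := by omega
    have hlam0 : lam G A B = 0 := by rw [hlam, he, mul_zero]
    have hmu6 : mu G A B D = 6 := by rw [hmu, hf, hd]
    rcases h.square_or with ⟨E, hE0, hE⟩ | hz
    · simp only [disc, hlam0, hmu6, hk] at hE
      norm_num at hE
      obtain ⟨E', rfl⟩ : ∃ E' : ℕ, E = (E' : ℤ) := ⟨E.natAbs, by omega⟩
      have hE' : E' ^ 2 = 48 := by exact_mod_cast hE
      have : E' < 7 := by nlinarith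
      interval_cases E' <;> omega
    · rw [hv, hlam0, hmu6, hk] at hz
      push_cast at hz
      omega

end EvenPack

end Cfsg.Agent.Perm.RankThreeFrob
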