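import Cfsg.Agent.Lib.Perm.RankThreeFrob.EvenBase
import Cfsg.Agent.Lib.Perm.RankThreeFrob.Coset
import Cfsg.Agent.Lib.Perm.RankThreeFrob.Arith

/-!
The stabilizer of an edge has even order and no nontrivial kernel element fixes a nonadjacent pair:
either the group has order 60 on ten points or order 320 on sixteen points.
-/

set_option autoImplicit false
set_option linter.unusedSectionVars false

namespace Cfsg.Agent.Perm.RankThreeFrob

open MulAction

universe u v

theorem not_square_between {a b E : ℕ} (h1 : a ^ 2 < b) (h2 : b < (a + 1) ^ 2) : E ^ 2 ≠ b := fun e => by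
  subst e
  have h3 := Nat.pow_lt_pow_iff_left (two_ne_zero) |>.1 h1
  have h4 := Nat.pow_lt_pow_iff_left (two_ne_zero) |>.1 h2
  omega

theorem arith_two_small {M d q q' : ℕ} (hd : 2 ≤ d) (h1 : q = 2 * M * d ∨ 4 * q ≤ 3 * (2 * M * d))
    (h2 : q' = d ∨ 4 * q' ≤ 3 * d) (hq : q ≤ 2 * M * d) (hq' : q' ≤ d)
    (heq : 2 * M * d * (1 + 2 * M) * 2 = (2 + 2 * M) * (q + 2 * M * q')) : M ≤ 3 := by
  by_contra hM
  have h4 : 4 ≤ M := by omega
  have hMd : 0 < M * d := Nat.mul_pos (by omega) (by omega)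
  have key : 4 * (q + 2 * M * q') ≤ 14 * (M * d) := by
    rcases h1 with e | e
    · rcases h2 with e' | e'
      · exfalso
        rw [e, e'] at heq
        have h3 : (M * d) * (4 + 8 * M) = (M * d) * (8 + 8 * M) := by linarith
        have := Nat.eq_of_mul_eq_mul_left hMd h3
        omega
      · have := Nat.mul_le_mul_left (2 * M) e'
        linarith
    · have := Nat.mul_le_mul_left (2 * M) hq'
      linarith
  have h3 : (2 + 2 * M) * (4 * (q + 2 * M * q')) ≤ (2 + 2 * M) * (14 * (M * d)) := Nat.mul_le_mul_left _ key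
  have h5 : (M * d) * (16 + 32 * M) ≤ (M * d) * (28 + 28 * M) := by linarith
  have := Nat.le_of_mul_le_mul_left h5 hMd
  omega

theorem arith_two_one {M d E : ℕ} (hM : 1 ≤ M) (hM3 : M ≤ 3) (hd : 2 ≤ d) (heven : Even d)
    (hE : E ^ 2 + 2 * (2 * M * d) * d + 4 * d = (2 * M * d) ^ 2 + d ^ 2 + 4 * (4 * M * d + 1)) : False := by
  obtain ⟨r, rfl⟩ := heven
  interval_cases M
  · rcases Nat.lt_or_ge r 6 with e | e
    · have hr : 1 ≤ r := by omega
      interval_cases r
      · exact not_square_between (a := 5) (E := E) (b := 32) (by norm_num) (by norm_num) (by linarith)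
      · exact not_square_between (a := 8) (E := E) (b := 68) (by norm_num) (by norm_num) (by linarith)
      · exact not_square_between (a := 10) (E := E) (b := 112) (by norm_num) (by norm_num) (by linarith)
      · exact not_square_between (a := 12) (E := E) (b := 164) (by norm_num) (by norm_num) (by linarith)
      · exact not_square_between (a := 14) (E := E) (b := 224) (by norm_num) (by norm_num) (by linarith)
    · exact not_square_between (a := (r + r) + 5) (E := E) (b := E ^ 2) (by nlinarith) (by nlinarith) rfl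
  · rcases Nat.lt_or_ge r 2 with e | e
    · have : r = 1 := by omega
      subst this
      exact not_square_between (a := 9) (E := E) (b := 96) (by norm_num) (by norm_num) (by linarith)
    · exact not_square_between (a := 3 * (r + r) + 4) (E := E) (b := E ^ 2) (by nlinarith) (by nlinarith) rfl
  · rcases Nat.lt_or_ge r 2 with e | e
    · have : r = 1 := by omega
      subst this
      exact not_square_between (a := 13) (E := E) (b := 192) (by norm_num) (by norm_num) (by linarith)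
    · exact not_square_between (a := 5 * (r + r) + 4) (E := E) (b := E ^ 2) (by nlinarith) (by nlinarith) rfl

theorem arith_two_zero {M d E F : ℕ} (hM : 1 ≤ M) (hM3 : M ≤ 3) (hd : 2 ≤ d) (heven : Even d)
    (hE : E ^ 2 + 8 * d = 4 * d ^ 2 + 4 * (4 * M * d + 1))
    (hF : (E : ℤ) * (2 * F - (4 * M * d + 1) * (1 + 2 * M)) =
      -(2 * (4 * M * d + 1) - 2 * d * ((4 * M * d + 1) * (1 + 2 * M)))) :
    (M = 1 ∧ d = 2 ∧ E = 6 ∧ F = 21) ∨ (M = 3 ∧ d = 2 ∧ E = 10 ∧ F = 120) := by
  obtain ⟨E0, rfl⟩ : ∃ E0, E = 2 * E0 := by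
    have hev : Even (E ^ 2) := by
      have h1 : Even (E ^ 2 + 8 * d) := by rw [hE]; exact ⟨2 * d ^ 2 + 2 * (4 * M * d + 1), by ring⟩
      exact (Nat.even_add.1 h1).2 ⟨4 * d, by ring⟩
    obtain ⟨E0, hE0⟩ := (Nat.even_pow.1 hev).1
    exact ⟨E0, by omega⟩
  have hE' : E0 ^ 2 + 2 * d = d ^ 2 + (4 * M * d + 1) := by linarith [show (2 * E0) ^ 2 = 4 * E0 ^ 2 by ring]
  clear hE
  push_cast at hF
  obtain ⟨r, rfl⟩ := heven
  interval_cases M
  · left
    have hE1 : E0 = r + r + 1 := by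
      have h1 : E0 ^ 2 = (r + r + 1) ^ 2 := by linarith [show (r + r + 1) ^ 2 = (r + r) ^ 2 + 2 * (r + r) + 1 by ring]
      exact Nat.pow_left_injective two_ne_zero h1
    subst hE1
    push_cast at hF
    have h12 : ((r : ℤ) + r + 1) * ((2 * F - 3 * (4 * (r + r) + 1)) - (12 * (r + r) - 13)) = 12 := by
      linarith
    have hle : (r : ℤ) + r + 1 ≤ 12 := Int.le_of_dvd (by norm_num) ⟨_, h12.symm⟩
    have : r ≤ 5 := by omega
    interval_cases r <;> push_cast at h12 <;> omega
  · exfalso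
    exact not_square_between (a := (r + r) + 2) (E := E0) (b := E0 ^ 2) (by nlinarith) (by nlinarith) rfl
  · right
    rcases Nat.lt_or_ge r 4 with e | e
    · have hr : 1 ≤ r := by omega
      interval_cases r
      · have : E0 = 5 := Nat.pow_left_injective two_ne_zero (show E0 ^ 2 = 5 ^ 2 by linarith)
        subst this
        push_cast at hF
        omega
      · exact absurd (show E0 ^ 2 = 57 by linarith) (not_square_between (a := 7) (by norm_num) (by norm_num))
      · exact absurd (show E0 ^ 2 = 97 by linarith) (not_square_between (a := 9) (by norm_num) (by norm_num))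
    · exfalso
      exact not_square_between (a := (r + r) + 4) (E := E0) (b := E0 ^ 2) (by nlinarith) (by nlinarith) rfl

variable {G : Type u} [Group G] {X : Type v} [MulAction G X] [Finite G] [Finite X] [FaithfulSMul G X]
  {A B D : X} {t : G}

namespace EvenPack

variable (h : Setup G A B D) (p : EvenPack A B t)
  (hD : ∀ x ∈ Kf G A B A, x • D = D → x = 1)
include h p hD

theorem fix_only {x : G} (hx : x ∈ Kf G A B A) (hx1 : x ≠ 1) {y : X} (hy : x • y = y) : y = A := by
  by_contra hne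
  obtain ⟨g, gA, gy⟩ := h.far_trans (h.far_of_fix hx hx1 hy hne) h.farD
  have hg := h.Kf_conj (g := g) hx
  rw [gA] at hg
  have := hD _ hg (by rw [← gy, mul_smul, mul_smul, inv_smul_smul, hy])
  exact hx1 (by rw [show x = g⁻¹ * (g * x * g⁻¹) * g by group, this]; group)

theorem dd_dvd : dd G A D ∣ cc G A B := by
  have h1 : dd G A D ∣ kk G A B * cc G A B := by
    rw [← h.card_far_stab]; exact dvd_mul_left _ _
  refine Nat.Coprime.dvd_of_dvd_mul_left ?_ h1
  refine Nat.coprime_of_dvd fun q hq hqd hqk => ?_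
  haveI := Fact.mk hq
  obtain ⟨g, hg⟩ := exists_prime_orderOf_dvd_card' q hqd
  have hgA : (g : G) • A = A := g.2.1
  have hgD : (g : G) • D = D := g.2.2
  have hgK : (g : G) ∈ Kf G A B A := by
    rw [h.mem_Kf_iff_pow hgA, ← orderOf_dvd_iff_pow_eq_one, Subgroup.orderOf_coe, hg]
    exact hqk
  have := hD _ hgK hgD
  rw [← Subgroup.orderOf_coe, this, orderOf_one] at hg
  exact hq.ne_one hg.symm

theorem uniq_far {u w : G} (hu : u • A = A) (hu' : u • D = D) (hw : w • A = A) (hw' : w • D = D)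
    (u2 : u * u = 1) (w2 : w * w = 1) (u1 : u ≠ 1) (w1 : w ≠ 1) : u = w := by
  obtain ⟨x, hx, ex⟩ := p.invol_stab h u2 u1 hu
  obtain ⟨y, hy, ey⟩ := p.invol_stab h w2 w1 hw
  rw [p.conj_tx h hx] at ex
  rw [p.conj_tx h hy] at ey
  have hz : u * w ∈ Kf G A B A := by
    have h1 := p.inverts (y * y) (mul_mem hy hy)
    rw [ex, ey, show x * x * t * (y * y * t) = x * x * (t * (y * y) * t) by group, h1]
    exact mul_mem (mul_mem hx hx) (inv_mem (mul_mem hy hy))
  have := hD _ hz (by rw [mul_smul, hw', hu'])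
  calc u = u * (w * w) := by rw [w2, mul_one]
    _ = (u * w) * w := by rw [mul_assoc]
    _ = w := by rw [this, one_mul]

omit hD in
theorem swap_full (P : X)
    (hone : ∀ a : G, a • A = A → a • P = P → ∀ b : G, b • A = A → b • P = P → a * a = 1 → b * b = 1 → a ≠ 1 → b ≠ 1 → a = b)
    (hbig : 3 * Nat.card ↥(stabilizer G A ⊓ stabilizer G P) < 4 * Nat.card {u : G // u ∈ invT G X ∧ u • A = P}) :
    Nat.card ↥(stabilizer G A ⊓ stabilizer G P) ≤ Nat.card {u : G // u ∈ invT G X ∧ u • A = P} := by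
  have hback : ∀ w : G, w * w = 1 → w • A = P → w • P = A := fun w hw e => by
    rw [← e, ← mul_smul, hw, one_smul]
  refine coset_full (stabilizer G A ⊓ stabilizer G P) {u : G | u ∈ invT G X ∧ u • A = P}
    (fun u hu => hu.1.1) (fun u hu w hw => ⟨?_, ?_⟩) (fun x hx u hu => ⟨invT_conj x u hu.1, ?_⟩)
    (fun a ha b hb => hone a ha.1 ha.2 b hb.1 hb.2) hbig
  · show (u * w) • A = A
    rw [mul_smul, hw.2, hback u hu.1.1 hu.2]
  · show (u * w) • P = P
    rw [mul_smul, hback w hw.1.1 hw.2, hu.2]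
  · have hxA : x • A = A := hx.1
    have hxP : x • P = P := hx.2
    rw [mul_smul, mul_smul, inv_smul_eq_iff.2 hxA.symm, hu.2, hxP]

theorem card_inv_far {n : ℕ} (hn : n = Nat.card {y : X // Far G A B A y ∧ t • y = y}) :
    (n = 0 ∧ Odd (dd G A D)) ∨ (0 < n ∧ kk G A B * n = ll G A B ∧ Even (dd G A D)) := by
  have hinc := p.far_incidence h
  rw [← hn] at hinc
  have hle : Nat.card {u : G // u ∈ invT G X ∧ u • A = A ∧ u • D = D} ≤ 1 := by
    rw [Finite.card_le_one_iff_subsingleton]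
    exact ⟨fun a b => Subtype.ext (p.uniq_far h hD a.2.2.1 a.2.2.2 b.2.2.1 b.2.2.2 a.2.1.1 b.2.1.1
      a.2.1.2.1 b.2.1.2.1)⟩
  have hk := h.one_lt_kk
  rcases Nat.le_one_iff_eq_zero_or_eq_one.1 hle with e | e
  · left
    rw [e, mul_zero] at hinc
    refine ⟨by rcases Nat.mul_eq_zero.1 hinc with e' | e' <;> omega, ?_⟩
    rw [← Nat.not_even_iff_odd, even_iff_two_dvd]
    intro h2
    haveI : Fact (Nat.Prime 2) := ⟨Nat.prime_two⟩
    obtain ⟨g, hg⟩ := exists_prime_orderOf_dvd_card' 2 h2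
    have hg2 : (g : G) * g = 1 := by
      rw [← pow_two, ← Subgroup.coe_pow, ← hg, pow_orderOf_eq_one]; rfl
    have hg1 : (g : G) ≠ 1 := fun e' => by
      rw [← Subgroup.orderOf_coe, e', orderOf_one] at hg; omega
    rw [Nat.card_eq_zero] at e
    rcases e with e | e
    · exact e.false ⟨g, ⟨hg2, hg1, A, g.2.1⟩, g.2.1, g.2.2⟩
    · exact e.not_finite inferInstance
  · right
    rw [e, mul_one] at hinc
    have hl : 0 < ll G A B := by
      obtain ⟨-, -, -, -, -, -, -, -, -, hl⟩ := h.params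
      exact hl
    refine ⟨Nat.pos_of_ne_zero fun e' => by rw [e', mul_zero] at hinc; omega, hinc, ?_⟩
    obtain ⟨u, ⟨u2, u1, -⟩, uA, uD⟩ := (Nat.card_eq_one_iff_unique.1 e).2.some
    rw [even_iff_two_dvd, dd, ← (orderOf_eq_prime (by rw [pow_two, u2]) u1 : orderOf u = 2)]
    exact Subgroup.orderOf_dvd_natCard _ ⟨uA, uD⟩

theorem dichotomy {E : ℤ} (hE : E ^ 2 = disc G A B D) {f : ℕ}
    (hf : E * (2 * (f : ℤ) - ((Nat.card X : ℤ) - 1)) =
      -(2 * (kk G A B : ℤ) + ((Nat.card X : ℤ) - 1) * ((lam G A B : ℤ) - mu G A B D))) :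
    kk G A B ∣ f ∨ 2 * kk G A B < Nat.gcd (kk G A B) E.natAbs ^ 2 := by
  refine h.kernel_dichotomy (p.odd_k h) (fun x hx hx1 y hy => p.fix_only h hD hx hx1 hy) ?_ hE hf
  obtain ⟨-, hab⟩ := h.exists_evenPack (p.even_cc h)
  exact hab A

/-- A single fixed edge. -/
theorem matching_one {q q' : ℕ} (hdodd : Odd (dd G A D)) (hq : q ≤ cc G A B) (hq' : q' ≤ dd G A D)
    (heq : Nat.card X * kk G A B = 2 * (kk G A B + kk G A B * q + ll G A B * q')) :
    Nat.card X = 10 ∧ Nat.card G = 60 := by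
  obtain ⟨e, f, hf1, hlam, hk, hmu, hld, hc2, hd, hl⟩ := h.params
  obtain ⟨w, hw⟩ := p.dd_dvd h hD
  have hkpos : 0 < kk G A B := by have := h.one_lt_kk; omega
  have hlw : ll G A B = kk G A B * w := by
    refine Nat.eq_of_mul_eq_mul_right hd ?_
    rw [hld, hw]; ring
  have hw2 : 2 ≤ w := by
    rcases Nat.lt_or_ge w 2 with e' | e'
    · exfalso
      interval_cases w
      · omega
      · rw [mul_one] at hw
        have := p.even_cc h
        rw [hw] at this
        exact (Nat.not_even_iff_odd.2 hdodd) this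
    · exact e'
  rw [hlw] at heq
  have hv : Nat.card X = 2 * (1 + q + w * q') := by
    refine Nat.eq_of_mul_eq_mul_right hkpos ?_
    rw [heq]; ring
  have hvX := h.card_X
  rw [hlw] at hvX
  have hbound : 1 + kk G A B + kk G A B * w ≤ 2 * (1 + cc G A B + cc G A B) := by
    have : w * q' ≤ w * dd G A D := Nat.mul_le_mul_left w hq'
    have e' : w * dd G A D = cc G A B := by rw [hw]; ring
    omega
  have hF : e + f = 1 := by
    by_contra hne
    have h2 : 2 ≤ e + f := by omega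
    have h3 : cc G A B * 2 ≤ cc G A B * (e + f) := Nat.mul_le_mul_left _ h2
    have h4 : kk G A B * 2 ≤ kk G A B * w := Nat.mul_le_mul_left _ hw2
    omega
  rw [hF, mul_one] at hk
  have hw3 : w = 2 := by
    by_contra hne
    have h4 : kk G A B * 3 ≤ kk G A B * w := Nat.mul_le_mul_left _ (by omega)
    omega
  subst hw3
  have he0 : e = 0 := by omega
  have hf0 : f = 1 := by omega
  rw [he0, mul_zero] at hlam
  rw [hf0, mul_one] at hmu
  have hdisc : ((dd G A D : ℤ) + 2) ^ 2 = disc G A B D := by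
    simp only [disc, hlam, hmu, hk, hw]; push_cast; ring
  obtain ⟨F, -, hF'⟩ := h.mult hdisc
  rw [hlam, hmu, hvX, hk, hw] at hF'
  push_cast at hF'
  have h24 : ((dd G A D : ℤ) + 2) * ((2 * F - (6 * dd G A D + 3)) - (6 * dd G A D - 13)) = 24 := by
    linear_combination hF'
  have hle : (dd G A D : ℤ) + 2 ≤ 24 := Int.le_of_dvd (by norm_num) ⟨_, h24.symm⟩
  have hd1 : dd G A D = 1 := by
    obtain ⟨r, hr⟩ := hdodd
    have : r ≤ 10 := by omega
    rw [hr] at h24
    push_cast at h24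
    interval_cases r <;> omega
  have hc : cc G A B = 2 := by rw [hw, hd1]
  refine ⟨by rw [hvX, hk, hc], ?_⟩
  rw [h.card_G, hvX, hk, hc]

theorem case_F_two {M q q' e f : ℕ} (hM : 1 ≤ M) (hd2 : 2 ≤ dd G A D) (heven : Even (dd G A D))
    (hc : cc G A B = 2 * M * dd G A D) (hl : ll G A B = kk G A B * (2 * M))
    (hk : kk G A B = cc G A B * 2 + 1) (hef : e + f = 2) (hf1 : 1 ≤ f)
    (hlam : lam G A B = cc G A B * e) (hmu : mu G A B D = dd G A D * f)
    (hqd : q = Nat.card {u : G // u ∈ invT G X ∧ u • A = B})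
    (hq'd : q' = Nat.card {u : G // u ∈ invT G X ∧ u • A = D})
    (heq : 2 * M * dd G A D * (1 + 2 * M) * 2 = (2 + 2 * M) * (q + 2 * M * q')) : False := by
  have hqB : Nat.card ↥(stabilizer G A ⊓ stabilizer G B) = 2 * M * dd G A D := hc
  have hqD : Nat.card ↥(stabilizer G A ⊓ stabilizer G D) = dd G A D := rfl
  have hq1 : q ≤ 2 * M * dd G A D := hqd ▸ hqB ▸ p.swap_le h B
  have hq2 : q' ≤ dd G A D := hq'd ▸ p.swap_le h D
  have hM3 : M ≤ 3 := by
    refine arith_two_small hd2 ?_ ?_ hq1 hq2 heq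
    · refine (le_or_gt (4 * q) (3 * (2 * M * dd G A D))).elim Or.inr fun a => Or.inl ?_
      have := p.swap_full h B (fun x xA xB y yA yB x2 y2 x1 y1 =>
        (p.uniq x xA xB x2 x1).trans (p.uniq y yA yB y2 y1).symm) (by rw [← hqd, hqB]; exact a)
      rw [← hqd, hqB] at this
      omega
    · refine (le_or_gt (4 * q') (3 * dd G A D)).elim Or.inr fun a => Or.inl ?_
      have := p.swap_full h D (fun x xA xD y yA yD x2 y2 x1 y1 => p.uniq_far h hD xA xD yA yD x2 y2 x1 y1)
        (by rw [← hq'd, hqD]; exact a)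
      rw [← hq'd, hqD] at this
      omega
  have hvX : (Nat.card X : ℤ) - 1 = (kk G A B : ℤ) * (1 + 2 * M) := by
    rw [h.card_X, hl]; push_cast; ring
  have hk' : (kk G A B : ℤ) = 4 * M * dd G A D + 1 := by rw [hk, hc]; push_cast; ring
  have hkpos : (0 : ℤ) < kk G A B := by rw [hk]; push_cast; positivity
  have hd0 : (2 : ℤ) ≤ dd G A D := by exact_mod_cast hd2
  have hM0 : (1 : ℤ) ≤ M := by exact_mod_cast hM
  rcases (show (e = 0 ∧ f = 2) ∨ (e = 1 ∧ f = 1) by omega) with ⟨he0, hf2⟩ | ⟨he1, hf2⟩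
  · rw [he0, mul_zero] at hlam
    rw [hf2] at hmu
    rcases h.square_or with ⟨E, hE0, hE⟩ | hz
    · obtain ⟨F, -, hF⟩ := h.mult hE
      have hdich := p.dichotomy h hD hE hF
      rw [hvX, hlam, hmu, hk'] at hF
      simp only [disc, hlam, hmu, hk'] at hE
      obtain ⟨E', rfl⟩ : ∃ E' : ℕ, E = (E' : ℤ) := ⟨E.natAbs, by omega⟩
      have hE' : E' ^ 2 + 8 * dd G A D = 4 * dd G A D ^ 2 + 4 * (4 * M * dd G A D + 1) := by
        have h1 : ((E' ^ 2 + 8 * dd G A D : ℕ) : ℤ) =
            ((4 * dd G A D ^ 2 + 4 * (4 * M * dd G A D + 1) : ℕ) : ℤ) := by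
          push_cast at hE ⊢
          linear_combination hE
        exact_mod_cast h1
      push_cast at hF
      rw [Int.natAbs_natCast] at hdich
      rcases arith_two_zero (F := F) hM hM3 hd2 heven hE' (by linear_combination hF) with
        ⟨rfl, hd', rfl, rfl⟩ | ⟨rfl, hd', rfl, rfl⟩
      · rw [hk, hc, hd'] at hdich; norm_num at hdich
      · rw [hk, hc, hd'] at hdich; norm_num at hdich
    · rw [hvX, hlam, hmu] at hz
      push_cast at hz
      have h1 : (kk G A B : ℤ) * (2 - 2 * dd G A D * (1 + 2 * M)) = 0 := by linear_combination hz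
      rcases mul_eq_zero.1 h1 with e' | e'
      · omega
      · nlinarith
  · rw [he1, mul_one] at hlam
    rw [hf2, mul_one] at hmu
    rcases h.square_or with ⟨E, hE0, hE⟩ | hz
    · simp only [disc, hlam, hmu, hk', hc] at hE
      obtain ⟨E', rfl⟩ : ∃ E' : ℕ, E = (E' : ℤ) := ⟨E.natAbs, by omega⟩
      refine arith_two_one (E := E') hM hM3 hd2 heven ?_
      have h1 : ((E' ^ 2 + 2 * (2 * M * dd G A D) * dd G A D + 4 * dd G A D : ℕ) : ℤ) =
          (((2 * M * dd G A D) ^ 2 + dd G A D ^ 2 + 4 * (4 * M * dd G A D + 1) : ℕ) : ℤ) := by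
        push_cast at hE ⊢
        linear_combination hE
      exact_mod_cast h1
    · rw [hvX, hlam, hmu, hc] at hz
      push_cast at hz
      have h2 : 0 ≤ (kk G A B : ℤ) * (1 + 2 * M) * (2 * M * dd G A D - dd G A D) :=
        mul_nonneg (by positivity) (by nlinarith)
      linarith

theorem survivor {q q' : ℕ} (hc : cc G A B = 360) (hd : dd G A D = 20) (hk : kk G A B = 361)
    (hfix : fixN G X t = 20) (hlam : lam G A B = 0) (hmu : mu G A B D = 20) (had : adN G A B t = 20 * q)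
    (hq'd : q' = Nat.card {u : G // u ∈ invT G X ∧ u • A = D})
    (heq : q + 18 * q' = 342) : False := by
  classical
  have hqD : Nat.card ↥(stabilizer G A ⊓ stabilizer G D) = 20 := hd
  have hq2 : q' ≤ 20 := hq'd ▸ hqD ▸ p.swap_le h D
  have hE : (42 : ℤ) ^ 2 = disc G A B D := by simp [disc, hlam, hmu, hk]
  obtain ⟨b, hb⟩ := h.value_int hE t
  rw [hlam, hmu, hfix, had, hk] at hb
  push_cast at hb
  have hcent : Nat.card ↥(Subgroup.centralizer ({t} : Set G)) ≤ 20 * 360 := by
    rw [← hfix, ← hc, fixN, cc, ← Nat.card_prod]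
    have hfx : ∀ g ∈ Subgroup.centralizer ({t} : Set G), t • (g • A) = g • A := by
      intro g hg
      rw [← mul_smul, ← Subgroup.mem_centralizer_singleton_iff.1 hg, mul_smul, p.fixA]
    choose r hrc hrA using fun y : {y : X // t • y = y} => p.cent_trans h y.2
    have hmem : ∀ g : ↥(Subgroup.centralizer ({t} : Set G)),
        (r ⟨(g : G) • A, hfx g g.2⟩)⁻¹ * g ∈ stabilizer G A ⊓ stabilizer G B := by
      intro g
      have h1 : ((r ⟨(g : G) • A, hfx g g.2⟩)⁻¹ * g) • A = A := by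
        rw [mul_smul, inv_smul_eq_iff, hrA]
      have h2 : Commute t ((r ⟨(g : G) • A, hfx g g.2⟩)⁻¹ * g) :=
        ((show Commute t (r ⟨(g : G) • A, hfx g g.2⟩) from (hrc _).symm).inv_right).mul_right
          (Subgroup.mem_centralizer_singleton_iff.1 g.2).symm
      refine ⟨h1, p.fix_nbr h ?_ ?_⟩
      · have := (Adj.base (G := G) (A := A) (B := B)).smul ((r ⟨(g : G) • A, hfx g g.2⟩)⁻¹ * g)
        rwa [h1] at this
      · rw [← mul_smul, h2.eq, mul_smul, p.fixB]
    refine Nat.card_le_card_of_injective (fun g => (⟨(g : G) • A, hfx g g.2⟩,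
      ⟨(r ⟨(g : G) • A, hfx g g.2⟩)⁻¹ * g, hmem g⟩)) ?_
    intro g g' e
    simp only [Prod.mk.injEq, Subtype.mk.injEq] at e
    have e1 : (⟨(g : G) • A, hfx g g.2⟩ : {y : X // t • y = y}) = ⟨(g' : G) • A, hfx g' g'.2⟩ :=
      Subtype.ext e.1
    rw [e1] at e
    exact Subtype.ext (mul_left_cancel e.2)
  have hbd := h.diff_bound t
  rw [diffN, hlam, hmu, hfix, had, hk, ← hE] at hbd
  push_cast at hbd
  have hC : (Nat.card ↥(Subgroup.centralizer ({t} : Set G)) : ℤ) ≤ 7200 := by exact_mod_cast hcent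
  have hb2 : (40 * (q : ℤ) - 342) ^ 2 ≤ (5040 : ℤ) ^ 2 := by nlinarith
  have h5 := abs_le_of_sq_le_sq' hb2 (by norm_num)
  have hq18 : q' = 18 := by omega
  have := p.swap_full h D (fun x xA xD y yA yD x2 y2 x1 y1 => p.uniq_far h hD xA xD yA yD x2 y2 x1 y1)
    (by rw [← hq'd, hqD]; omega)
  rw [← hq'd, hqD] at this
  omega

theorem case_F_one {M q q' : ℕ} (hM : 1 ≤ M) (hd2 : 2 ≤ dd G A D) (heven : Even (dd G A D))
    (hc : cc G A B = 2 * M * dd G A D) (hl : ll G A B = kk G A B * (2 * M))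
    (hk : kk G A B = cc G A B + 1) (hfix : fixN G X t = 2 + 2 * M) (had : adN G A B t = (2 + 2 * M) * q)
    (hlam : lam G A B = 0) (hmu : mu G A B D = dd G A D)
    (hq'd : q' = Nat.card {u : G // u ∈ invT G X ∧ u • A = D})
    (heq : 2 * M * dd G A D * (1 + 2 * M) = (2 + 2 * M) * (q + 2 * M * q')) :
    Nat.card X = 16 ∧ Nat.card G = 320 := by
  obtain ⟨e, he⟩ := heven
  have he1 : 1 ≤ e := by omega
  have hk' : (kk G A B : ℤ) = 4 * M * e + 1 := by rw [hk, hc, he]; push_cast; ring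
  have hvX : (Nat.card X : ℤ) - 1 = (kk G A B : ℤ) * (1 + 2 * M) := by rw [h.card_X, hl]; push_cast; ring
  rcases h.square_or with ⟨E, hEpos, hE⟩ | hz
  swap
  · rw [hvX, hlam, hmu, he] at hz
    push_cast at hz
    have h1 : (kk G A B : ℤ) * (2 - 2 * e * (1 + 2 * M)) = 0 := by linear_combination hz
    rcases mul_eq_zero.1 h1 with e' | e'
    · omega
    · have : (3 : ℤ) ≤ (1 + 2 * M) := by omega
      have : (1 : ℤ) * 3 ≤ (e : ℤ) * (1 + 2 * M) := mul_le_mul (by omega) this (by norm_num) (by omega)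
      linarith
  obtain ⟨E', rfl⟩ : ∃ E' : ℕ, E = (E' : ℤ) := ⟨E.natAbs, by omega⟩
  obtain ⟨F, -, hF⟩ := h.mult hE
  have hdich := p.dichotomy h hD hE hF
  have hodd := p.odd_k h
  rw [Int.natAbs_natCast] at hdich
  rw [hvX, hlam, hmu, he] at hF
  simp only [disc, hlam, hmu, hk', he] at hE
  push_cast at hE hF
  obtain ⟨E0, rfl⟩ : ∃ E0, E' = 2 * E0 := by
    have h1 : E' ^ 2 + 8 * e = 4 * e ^ 2 + 4 * (4 * M * e + 1) := by
      have : ((E' ^ 2 + 8 * e : ℕ) : ℤ) = ((4 * e ^ 2 + 4 * (4 * M * e + 1) : ℕ) : ℤ) := by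
        push_cast; linear_combination hE
      exact_mod_cast this
    have hev : Even (E' ^ 2) := by
      have h2 : Even (E' ^ 2 + 8 * e) := by rw [h1]; exact ⟨2 * e ^ 2 + 2 * (4 * M * e + 1), by ring⟩
      exact (Nat.even_add.1 h2).2 ⟨4 * e, by ring⟩
    obtain ⟨E0, hE0⟩ := (Nat.even_pow.1 hev).1
    exact ⟨E0, by omega⟩
  have hE' : E0 ^ 2 + 2 * e = e ^ 2 + 4 * M * e + 1 := by
    have : ((E0 ^ 2 + 2 * e : ℕ) : ℤ) = ((e ^ 2 + 4 * M * e + 1 : ℕ) : ℤ) := by
      push_cast at hE ⊢; linarith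
    exact_mod_cast this
  push_cast at hF
  rcases hdich with hdvd | hg
  · obtain ⟨n0, hn0⟩ := hdvd
    rw [hn0] at hF
    push_cast at hF
    have hkne : (kk G A B : ℤ) ≠ 0 := by omega
    have h2 : 2 * (E0 : ℤ) * n0 + 1 = (2 * M + 1) * ((E0 : ℤ) + e) := by
      refine mul_left_cancel₀ (mul_ne_zero two_ne_zero hkne) ?_
      linear_combination hF
    have h2' : 2 * E0 * n0 + 1 = (2 * M + 1) * (E0 + e) := by exact_mod_cast h2
    have hdvd' : M + 1 ∣ 2 * M * e * (2 * M + 1) := by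
      refine ⟨q + 2 * M * q', ?_⟩
      rw [he] at heq
      linarith
    rcases arith_zero hM he1 hE' h2' hdvd' with ⟨rfl, rfl⟩ | ⟨rfl, rfl⟩
    · have hc4 : cc G A B = 4 := by rw [hc, he]
      refine ⟨by rw [h.card_X, hl, hk, hc4], ?_⟩
      rw [h.card_G, h.card_X, hl, hk, hc4]
    · exact (p.survivor h hD (q := q) (q' := q') (by rw [hc, he]) he (by rw [hk, hc, he]) hfix hlam
        (hmu.trans he) had hq'd (by rw [he] at heq; omega)).elim
  · exfalso
    have hcop : Nat.gcd (kk G A B) (2 * E0) = Nat.gcd (kk G A B) E0 :=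
      Nat.Coprime.gcd_mul_left_cancel_right _ (Nat.coprime_two_left.2 hodd)
    rw [hcop] at hg
    have hkk : kk G A B = 4 * M * e + 1 := by exact_mod_cast hk'
    rw [hkk] at hg
    exact arith_gcd hM he1 hE' (Nat.gcd_dvd_left _ _) (Nat.gcd_dvd_right _ _) hg

/-- The group when no nontrivial kernel element fixes a nonadjacent pair. -/
theorem simple_case :
    (Nat.card X = 10 ∧ Nat.card G = 60) ∨ (Nat.card X = 16 ∧ Nat.card G = 320) := by
  obtain ⟨n, q, q', hfix, hneven, hn, hq, hq', heq, had⟩ := p.counts h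
  rcases p.card_inv_far h hD hn with ⟨rfl, hdodd⟩ | ⟨hnpos, hkn, hdeven⟩
  · left
    exact p.matching_one h hD (q := q) hdodd (hq ▸ p.swap_le h B) (hq' ▸ p.swap_le h D) (by simpa using heq)
  · obtain ⟨e, f, hf1, hlam, hk, hmu, hld, hc2, hd, hl⟩ := h.params
    obtain ⟨M, rfl⟩ := hneven
    have hM : 1 ≤ M := by omega
    have hkpos : 0 < kk G A B := by have := h.one_lt_kk; omega
    have hd2 : 2 ≤ dd G A D := by
      obtain ⟨r, hr⟩ := hdeven; omega
    have hc : cc G A B = 2 * M * dd G A D := by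
      refine Nat.eq_of_mul_eq_mul_left hkpos ?_
      rw [← hld, ← hkn]; ring
    have hll : ll G A B = kk G A B * (2 * M) := by rw [← hkn]; ring
    have hv : Nat.card X = (2 + 2 * M) * (1 + q + 2 * M * q') := by
      refine Nat.eq_of_mul_eq_mul_right hkpos ?_
      rw [heq, hll]; ring
    have hvX := h.card_X
    rw [hll, hk, hc] at hvX
    have heq' : 2 * M * dd G A D * (1 + 2 * M) * (e + f) = (2 + 2 * M) * (q + 2 * M * q') := by
      linarith
    have hbound : e + f ≤ 2 := by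
      by_contra hcon
      have hqB : q ≤ cc G A B := hq ▸ p.swap_le h B
      have hqD : q' ≤ dd G A D := hq' ▸ p.swap_le h D
      rw [hc] at hqB
      have h1 : (2 + 2 * M) * (q + 2 * M * q') ≤ (2 + 2 * M) * (4 * M * dd G A D) := by
        refine Nat.mul_le_mul_left _ ?_
        have := Nat.mul_le_mul_left (2 * M) hqD
        linarith
      have h2 : 2 * M * dd G A D * (1 + 2 * M) * 3 ≤ 2 * M * dd G A D * (1 + 2 * M) * (e + f) :=
        Nat.mul_le_mul_left _ (by omega)
      have h3 : (M * dd G A D) * (6 + 12 * M) ≤ (M * dd G A D) * (8 + 8 * M) := by linarith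
      have := Nat.le_of_mul_le_mul_left h3 (Nat.mul_pos hM (by omega))
      omega
    rcases (show e + f = 1 ∨ e + f = 2 by omega) with hF | hF
    · right
      have he : e = 0 := by omega
      have hf : f = 1 := by omega
      rw [hF, mul_one] at heq' hk
      refine p.case_F_one h hD hM hd2 hdeven hc hll hk (by rw [hfix]; ring) (by rw [had]; ring)
        (by rw [hlam, he, mul_zero]) (by rw [hmu, hf, mul_one]) hq' heq'
    · rw [hF] at heq' hk
      exact (p.case_F_two h hD hM hd2 hdeven hc hll hk hF hf1 hlam hmu hq hq' heq').elim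

end EvenPack

end Cfsg.Agent.Perm.RankThreeFrob
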