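import Cfsg.Agent.Lib.Perm.RankThreeFrob.Counts

/-!
The adjacency algebra of the orbital graph and the idempotent of an eigenvalue: the character carried by its
range has norm one and integral values. Everything is done with traces of matrices.
-/

set_option autoImplicit false
set_option linter.unusedSectionVars false

namespace Cfsg.Agent.Perm.RankThreeFrob

open MulAction Matrix

universe u v

variable (G : Type u) [Group G] {X : Type v} [MulAction G X] (A B D : X)

/-- The number of fixed points. -/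
noncomputable def fixN (X : Type v) [MulAction G X] (g : G) : ℕ := Nat.card {y : X // g • y = y}

/-- The number of points sent to a neighbour. -/
noncomputable def adN (g : G) : ℕ := Nat.card {y : X // Adj G A B y (g • y)}

/-- The discriminant of the graph. -/
noncomputable def disc : ℤ :=
  ((lam G A B : ℤ) - mu G A B D) ^ 2 + 4 * ((kk G A B : ℤ) - mu G A B D)

variable {G A B D}

open scoped Classical in
/-- The adjacency matrix. -/
noncomputable def adjM (G : Type u) [Group G] {X : Type v} [MulAction G X] (A B : X) : Matrix X X ℂ :=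
  Matrix.of fun x y => if Adj G A B x y then 1 else 0

open scoped Classical in
/-- The permutation matrix. -/
noncomputable def permM (X : Type v) [MulAction G X] (g : G) : Matrix X X ℂ :=
  Matrix.of fun x y => if x = g • y then 1 else 0

/-- The all ones matrix. -/
def oneM (X : Type v) : Matrix X X ℂ := Matrix.of fun _ _ => 1

/-- The candidate idempotent attached to a square root of the discriminant. -/
noncomputable def eigM [Fintype X] [DecidableEq X] (G : Type u) [Group G] [MulAction G X] (A B D : X) (ρ : ℂ) :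
    Matrix X X ℂ :=
  ρ⁻¹ • (adjM G A B - (((lam G A B : ℂ) - mu G A B D - ρ) / 2) • (1 : Matrix X X ℂ)) -
    ((((kk G A B : ℂ) - ((lam G A B : ℂ) - mu G A B D - ρ) / 2) / ((Nat.card X : ℂ) * ρ))) • oneM X

section Trace

variable {m : Type*} [Fintype m] [DecidableEq m]

theorem isIntegral_trace {M : Matrix m m ℂ} {n : ℕ} (hn : 1 ≤ n) (h : M ^ (n + 1) = M) :
    IsIntegral ℤ M.trace := by
  rw [Matrix.trace_eq_sum_roots_charpoly]
  refine IsIntegral.multiset_sum fun x hx => ?_
  have hx' : x ∈ spectrum ℂ M := Matrix.mem_spectrum_iff_isRoot_charpoly.2 (Polynomial.isRoot_of_mem_roots hx)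
  haveI : Nonempty m := by
    by_contra hne
    rw [not_nonempty_iff] at hne
    rw [Matrix.charpoly_isEmpty, Polynomial.roots_one] at hx
    exact absurd hx (Multiset.notMem_zero x)
  have h2 := spectrum.subset_polynomial_aeval M (Polynomial.X ^ (n + 1) - Polynomial.X) ⟨x, hx', rfl⟩
  simp only [Polynomial.eval_sub, Polynomial.eval_pow, Polynomial.eval_X, map_sub, map_pow,
    Polynomial.aeval_X, h, sub_self, spectrum.zero_eq, Set.mem_singleton_iff] at h2
  refine ⟨Polynomial.X ^ (n + 1) - Polynomial.X, Polynomial.monic_X_pow_sub (by rw [Polynomial.degree_X]; exact_mod_cast (by omega : 1 < n + 1)), ?_⟩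
  simp [sub_eq_zero.1 h2]

theorem trace_natural {M : Matrix m m ℂ} (h : M * M = M) : ∃ n : ℕ, M.trace = n := by
  have he : IsIdempotentElem M.toLin' := by
    show M.toLin' * M.toLin' = M.toLin'
    rw [Module.End.mul_eq_comp, ← Matrix.toLin'_mul, h]
  exact ⟨_, (Matrix.trace_toLin'_eq M).symm.trans (LinearMap.IsIdempotentElem.isProj_range _ he).trace⟩

theorem eq_zero_of_trace {M : Matrix m m ℂ} (h : M * M = M) (h0 : M.trace = 0) : M = 0 := by
  have he : IsIdempotentElem M.toLin' := by
    show M.toLin' * M.toLin' = M.toLin'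
    rw [Module.End.mul_eq_comp, ← Matrix.toLin'_mul, h]
  have := LinearMap.IsIdempotentElem.eq_zero_of_trace_eq_zero he ((Matrix.trace_toLin'_eq M).trans h0)
  exact Matrix.toLin'.injective (this.trans (map_zero _).symm)

end Trace

section Perm

variable [Fintype X] [DecidableEq X]

theorem permM_mul_apply (g : G) (M : Matrix X X ℂ) (x y : X) :
    (permM X g * M) x y = M (g⁻¹ • x) y := by
  rw [Matrix.mul_apply, Finset.sum_eq_single (g⁻¹ • x)]
  · simp [permM]
  · intro b _ hb
    have : x ≠ g • b := fun e => hb (by rw [e, inv_smul_smul])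
    simp [permM, this]
  · simp

theorem mul_permM_apply (g : G) (M : Matrix X X ℂ) (x y : X) :
    (M * permM X g) x y = M x (g • y) := by
  rw [Matrix.mul_apply, Finset.sum_eq_single (g • y)]
  · simp [permM]
  · intro b _ hb
    simp [permM, hb]
  · simp

theorem permM_one : permM X (1 : G) = 1 := by
  ext x y
  simp [permM, Matrix.one_apply]

theorem permM_mul (g g' : G) : permM X (g * g') = permM X g * permM X g' := by
  ext x y
  rw [permM_mul_apply]
  simp [permM, mul_smul, inv_smul_eq_iff]

theorem permM_pow (g : G) (n : ℕ) : permM X g ^ n = permM X (g ^ n) := by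
  induction n with
  | zero => simp [permM_one]
  | succ n ih => rw [pow_succ, pow_succ, permM_mul, ih]

theorem trace_permM_mul (g : G) (M : Matrix X X ℂ) :
    (permM X g * M).trace = ∑ y : X, M y (g • y) := by
  rw [Matrix.trace_mul_comm, Matrix.trace]
  exact Finset.sum_congr rfl fun y _ => mul_permM_apply g M y y

theorem permM_comm {g : G} {M : Matrix X X ℂ} (hM : ∀ x y, M (g • x) (g • y) = M x y) :
    permM X g * M = M * permM X g := by
  ext x y
  rw [permM_mul_apply, mul_permM_apply, ← hM (g⁻¹ • x) y, smul_inv_smul]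

theorem adjM_inv (g : G) (x y : X) : adjM G A B (g • x) (g • y) = adjM G A B x y := by
  by_cases h : Adj G A B x y
  · simp [adjM, h, (adj_smul_iff g).2 h]
  · have h' : ¬ Adj G A B (g • x) (g • y) := fun h' => h ((adj_smul_iff g).1 h')
    simp [adjM, h, h']

theorem eigM_inv (ρ : ℂ) (g : G) (x y : X) :
    eigM G A B D ρ (g • x) (g • y) = eigM G A B D ρ x y := by
  simp only [eigM, Matrix.sub_apply, Matrix.smul_apply, adjM_inv, Matrix.one_apply,
    (MulAction.injective g).eq_iff]
  rfl

end Perm

variable [Finite G] [Fintype X] [DecidableEq X] [FaithfulSMul G X]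

namespace Setup

variable (h : Setup G A B D)
include h

theorem adjM_mul_oneM : adjM G A B * oneM X = (kk G A B : ℂ) • oneM X := by
  classical
  ext x y
  simp only [Matrix.mul_apply, adjM, oneM, Matrix.of_apply, mul_one, Matrix.smul_apply, smul_eq_mul]
  rw [Finset.sum_boole, ← h.card_adj x, Nat.card_eq_fintype_card, Fintype.card_subtype]

theorem oneM_mul_adjM : oneM X * adjM G A B = (kk G A B : ℂ) • oneM X := by
  classical
  ext x y
  simp only [Matrix.mul_apply, adjM, oneM, Matrix.of_apply, one_mul, mul_one, Matrix.smul_apply, smul_eq_mul]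
  rw [Finset.sum_boole, ← h.card_adj y, Nat.card_eq_fintype_card, Fintype.card_subtype]
  congr 2
  ext z
  simp only [Finset.mem_filter, Finset.mem_univ, true_and]
  exact ⟨h.adj_symm, h.adj_symm⟩

theorem oneM_sq : oneM X * oneM X = (Nat.card X : ℂ) • oneM X := by
  ext x y
  simp [Matrix.mul_apply, oneM]

theorem adjM_sq : adjM G A B * adjM G A B =
    ((kk G A B : ℂ) - mu G A B D) • 1 + ((lam G A B : ℂ) - mu G A B D) • adjM G A B +
      (mu G A B D : ℂ) • oneM X := by
  classical
  ext x y
  have hc : (adjM G A B * adjM G A B) x y = (Nat.card {z : X // Adj G A B x z ∧ Adj G A B y z} : ℂ) := by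
    rw [Matrix.mul_apply, Nat.card_eq_fintype_card, Fintype.card_subtype, ← Finset.sum_boole]
    refine Finset.sum_congr rfl fun z _ => ?_
    have hb : Adj G A B z y ↔ Adj G A B y z := ⟨h.adj_symm, h.adj_symm⟩
    by_cases a : Adj G A B x z <;> by_cases b : Adj G A B y z <;> simp [adjM, a, b, hb]
  rw [hc]
  simp only [Matrix.add_apply, Matrix.smul_apply, Matrix.one_apply, adjM, oneM, Matrix.of_apply, smul_eq_mul]
  rcases h.trichotomy x y with rfl | e | e
  · rw [← h.card_adj x]
    simp [h.not_adj_self]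
  · rw [h.common_adj e]
    simp [e, h.ne_of_adj e]
  · rw [h.common_far e]
    simp [e.1, e.2]

theorem edge_countC :
    (kk G A B : ℂ) * (kk G A B - 1 - lam G A B) = ll G A B * mu G A B D := by
  have h1 : lam G A B + 1 ≤ kk G A B := by
    obtain ⟨e, f, hf, hl, hk, -, -, hc, -⟩ := h.params
    rw [hl, hk]
    nlinarith
  have := congrArg (Nat.cast : ℕ → ℂ) h.edge_count
  push_cast [Nat.sub_sub, Nat.cast_sub (show 1 + lam G A B ≤ kk G A B by omega)] at this
  linear_combination this

theorem prod_eig {ρ : ℂ} (hρ : ρ ^ 2 = (disc G A B D : ℂ)) :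
    ((kk G A B : ℂ) - ((lam G A B : ℂ) - mu G A B D - ρ) / 2) *
      ((kk G A B : ℂ) - ((lam G A B : ℂ) - mu G A B D + ρ) / 2) =
        (mu G A B D : ℂ) * Nat.card X := by
  have hv := congrArg (Nat.cast : ℕ → ℂ) h.card_X
  push_cast at hv
  simp only [disc] at hρ
  push_cast at hρ
  linear_combination h.edge_countC - (mu G A B D : ℂ) * hv - (1 / 4 : ℂ) * hρ

variable {ρ : ℂ}

theorem card_X_ne : (Nat.card X : ℂ) ≠ 0 := by
  rw [h.card_X]; norm_cast; omega

theorem eigM_sq (hρ : ρ ^ 2 = (disc G A B D : ℂ)) (hρ0 : ρ ≠ 0) :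
    eigM G A B D ρ * eigM G A B D ρ = eigM G A B D ρ := by
  have hp := h.prod_eig hρ
  have hv := h.card_X_ne
  simp only [disc] at hρ
  push_cast at hρ
  simp only [eigM, mul_sub, sub_mul, Matrix.smul_mul, Matrix.mul_smul, h.adjM_mul_oneM, h.oneM_mul_adjM,
    h.oneM_sq, h.adjM_sq, one_mul, mul_one]
  match_scalars
  all_goals field_simp
  all_goals first
    | ring1
    | linear_combination hρ
    | linear_combination (-1 : ℂ) * hρ
    | linear_combination 4 * hp
    | linear_combination (-4 : ℂ) * hp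


theorem eigM_mul_neg (hρ : ρ ^ 2 = (disc G A B D : ℂ)) (hρ0 : ρ ≠ 0) :
    eigM G A B D ρ * eigM G A B D (-ρ) = 0 := by
  have hp := h.prod_eig hρ
  have hv := h.card_X_ne
  simp only [disc] at hρ
  push_cast at hρ
  simp only [eigM, mul_sub, sub_mul, Matrix.smul_mul, Matrix.mul_smul, h.adjM_mul_oneM, h.oneM_mul_adjM,
    h.oneM_sq, h.adjM_sq, one_mul, mul_one]
  match_scalars
  all_goals field_simp
  all_goals first
    | ring1
    | linear_combination hρ
    | linear_combination (-1 : ℂ) * hρ
    | linear_combination 4 * hp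
    | linear_combination (-4 : ℂ) * hp


theorem eigM_adjM (hρ : ρ ^ 2 = (disc G A B D : ℂ)) (hρ0 : ρ ≠ 0) :
    eigM G A B D ρ * adjM G A B = (((lam G A B : ℂ) - mu G A B D + ρ) / 2) • eigM G A B D ρ := by
  have hp := h.prod_eig hρ
  have hv := h.card_X_ne
  simp only [disc] at hρ
  push_cast at hρ
  simp only [eigM, mul_sub, sub_mul, Matrix.smul_mul, Matrix.mul_smul, h.oneM_mul_adjM,
    h.adjM_sq, one_mul, mul_one]
  match_scalars
  all_goals field_simp
  all_goals first
    | ring1
    | linear_combination hρ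
    | linear_combination (-1 : ℂ) * hρ
    | linear_combination 4 * hp
    | linear_combination (-4 : ℂ) * hp


theorem eigM_oneM (hρ0 : ρ ≠ 0) : eigM G A B D ρ * oneM X = 0 := by
  have hv := h.card_X_ne
  simp only [eigM, sub_mul, Matrix.smul_mul, h.adjM_mul_oneM, h.oneM_sq, one_mul]
  match_scalars
  all_goals field_simp
  all_goals ring

theorem eigM_invariant (hρ : ρ ^ 2 = (disc G A B D : ℂ)) (hρ0 : ρ ≠ 0) {M : Matrix X X ℂ}
    (hM : ∀ (g : G) x y, M (g • x) (g • y) = M x y) :
    ∃ c : ℂ, eigM G A B D ρ * M = c • eigM G A B D ρ := by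
  have hdec : M = (M A A - M A D) • (1 : Matrix X X ℂ) + (M A B - M A D) • adjM G A B + (M A D) • oneM X := by
    ext x y
    simp only [Matrix.add_apply, Matrix.smul_apply, Matrix.one_apply, adjM, oneM, Matrix.of_apply, smul_eq_mul]
    rcases h.trichotomy x y with rfl | e | e
    · obtain ⟨g, rfl⟩ := h.exists_smul A x
      simp [hM, h.not_adj_self]
    · obtain ⟨g, rfl, rfl⟩ := e
      simp [hM, h.ne.symm, adj_smul_iff, Adj.base]
    · obtain ⟨g, rfl, rfl⟩ := h.far_trans h.farD e
      have h1 := h.farD.1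
      have h2 := h.farD.2
      simp [hM, e.1, e.2, h1, h2]
  refine ⟨(M A A - M A D) + (M A B - M A D) * (((lam G A B : ℂ) - mu G A B D + ρ) / 2), ?_⟩
  conv_lhs => rw [hdec]
  rw [mul_add, mul_add, Matrix.mul_smul, Matrix.mul_smul, Matrix.mul_smul, mul_one, h.eigM_adjM hρ hρ0,
    h.eigM_oneM hρ0]
  module

theorem eigM_trace_ne (hρ : ρ ^ 2 = (disc G A B D : ℂ)) (hρ0 : ρ ≠ 0) :
    (eigM G A B D ρ).trace ≠ 0 := by
  intro h0
  have he := eq_zero_of_trace (h.eigM_sq hρ hρ0) h0
  have h1 := congrFun (congrFun he A) D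
  have h2 := congrFun (congrFun he A) B
  have hv : (Fintype.card X : ℂ) ≠ 0 := by rw [← Nat.card_eq_fintype_card]; exact h.card_X_ne
  simp [eigM, adjM, oneM, h.farD.1, h.farD.2, hv, hρ0] at h1
  simp [eigM, adjM, oneM, h.ne.symm, Adj.base (G := G) (A := A) (B := B), hρ0, h1] at h2

/-- The character of the range. -/
theorem trace_perm_eig (g : G) :
    (permM X g * eigM G A B D ρ).trace =
      ((adN G A B g : ℂ) - ((lam G A B : ℂ) - mu G A B D - ρ) / 2 * fixN G X g -
        ((kk G A B : ℂ) - ((lam G A B : ℂ) - mu G A B D - ρ) / 2)) / ρ := by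
  classical
  have hv := h.card_X_ne
  rw [trace_permM_mul]
  have e1 : ∑ y : X, (if Adj G A B y (g • y) then (1 : ℂ) else 0) = adN G A B g := by
    rw [Finset.sum_boole, adN, Nat.card_eq_fintype_card, Fintype.card_subtype]
  have e2 : ∑ y : X, (if y = g • y then (1 : ℂ) else 0) = fixN G X g := by
    rw [Finset.sum_boole, fixN, Nat.card_eq_fintype_card, Fintype.card_subtype]
    congr 2
    ext z
    simp [eq_comm]
  simp only [eigM, Matrix.sub_apply, Matrix.smul_apply, Matrix.one_apply, adjM, oneM, Matrix.of_apply,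
    smul_eq_mul, mul_one, Finset.sum_sub_distrib, ← Finset.mul_sum, Finset.sum_const, Finset.card_univ,
    nsmul_eq_mul, e1, e2]
  rw [← Nat.card_eq_fintype_card (α := X)]
  field_simp

theorem fixN_inv (g : G) : fixN G X g⁻¹ = fixN G X g :=
  Nat.card_congr (Equiv.subtypeEquivRight fun y => by rw [inv_smul_eq_iff, eq_comm])

theorem adN_inv (g : G) : adN G A B g⁻¹ = adN G A B g := by
  refine Nat.card_congr ((MulAction.toPerm g⁻¹).subtypeEquiv fun y => ?_)
  show Adj G A B y (g⁻¹ • y) ↔ Adj G A B (g⁻¹ • y) (g • g⁻¹ • y)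
  rw [smul_inv_smul]
  exact ⟨h.adj_symm, h.adj_symm⟩

theorem trace_perm_inv (g : G) :
    (permM X g⁻¹ * eigM G A B D ρ).trace = (permM X g * eigM G A B D ρ).trace := by
  rw [h.trace_perm_eig, h.trace_perm_eig, h.adN_inv, h.fixN_inv]

/-- Schur orthogonality for the two idempotents. -/
theorem sum_trace_mul (hρ : ρ ^ 2 = (disc G A B D : ℂ)) (hρ0 : ρ ≠ 0) [Fintype G] :
    (∑ g : G, (permM X g * eigM G A B D ρ).trace * (permM X g * eigM G A B D ρ).trace = Fintype.card G) ∧
    (∑ g : G, (permM X g * eigM G A B D ρ).trace * (permM X g * eigM G A B D (-ρ)).trace = 0) := by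
  classical
  set E := eigM G A B D ρ with hE
  let W : X → X → Matrix X X ℂ := fun y z =>
    Matrix.of fun a b => ∑ g : G, if g • y = a ∧ g • z = b then (1 : ℂ) else 0
  have hW : ∀ y z, ∀ (g : G) a b, W y z (g • a) (g • b) = W y z a b := by
    intro y z g a b
    simp only [W, Matrix.of_apply]
    rw [← Equiv.sum_comp (Equiv.mulLeft g)]
    simp [mul_smul]
  have key : ∀ F : Matrix X X ℂ, (∀ (g : G) x y, F (g • x) (g • y) = F x y) →
      ∑ g : G, (permM X g * E).trace * (permM X g⁻¹ * F).trace =
        ∑ y : X, ∑ z : X, (E * W y z * F) y z := by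
    intro F hF
    simp only [trace_permM_mul, Finset.sum_mul_sum]
    rw [Finset.sum_comm]
    refine Finset.sum_congr rfl fun y _ => ?_
    rw [Finset.sum_comm]
    refine Finset.sum_congr rfl fun z _ => ?_
    simp only [Matrix.mul_apply, W, Matrix.of_apply, Finset.mul_sum, Finset.sum_mul]
    rw [Finset.sum_comm (s := (Finset.univ : Finset X)), ]
    conv_rhs => arg 2; ext a; rw [Finset.sum_comm]
    rw [Finset.sum_comm]
    refine Finset.sum_congr rfl fun g _ => ?_
    rw [Finset.sum_eq_single (g • y) (fun a _ ha => Finset.sum_eq_zero fun b _ => by simp [Ne.symm ha])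
        (by simp), Finset.sum_eq_single (g • z) (fun b _ hb => by simp [Ne.symm hb]) (by simp)]
    rw [← hF g z (g⁻¹ • z), smul_inv_smul]
    simp
  have hEinv : ∀ (g : G) x y, E (g • x) (g • y) = E x y := fun g x y => eigM_inv ρ g x y
  have hf : E.trace ≠ 0 := h.eigM_trace_ne hρ hρ0
  constructor
  · have hc : ∀ y z, E * W y z * E = ((Fintype.card G : ℂ) * E z y / E.trace) • E := by
      intro y z
      obtain ⟨c, hc⟩ := h.eigM_invariant hρ hρ0 (hW y z)
      have h1 : E * W y z * E = c • E := by rw [hc, Matrix.smul_mul, hE, h.eigM_sq hρ hρ0]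
      have h2 : (E * W y z).trace = (Fintype.card G : ℂ) * E z y := by
        have h3 : ∀ g : G, ∑ a, ∑ b, E b a * (if g • y = a ∧ g • z = b then (1 : ℂ) else 0) = E z y := by
          intro g
          rw [Finset.sum_eq_single (g • y) (fun a _ ha => Finset.sum_eq_zero fun b _ => by simp [Ne.symm ha])
            (by simp), Finset.sum_eq_single (g • z) (fun b _ hb => by simp [Ne.symm hb]) (by simp)]
          simp [hEinv]
        rw [Matrix.trace]
        simp only [Matrix.diag_apply, Matrix.mul_apply, W, Matrix.of_apply, Finset.mul_sum]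
        rw [Finset.sum_comm]
        conv_lhs => arg 2; ext a; rw [Finset.sum_comm]; 
        rw [Finset.sum_comm, ← Finset.sum_congr rfl (fun g _ => (h3 g).symm)]
        simp
      rw [hc, Matrix.trace_smul, smul_eq_mul] at h2
      rw [h1, ← h2, mul_div_assoc, div_self hf, mul_one]
    have := key E hEinv
    have hi : ∀ g : G, (permM X g⁻¹ * E).trace = (permM X g * E).trace := fun g => h.trace_perm_inv g
    simp only [hi] at this
    rw [this]
    simp only [hc, Matrix.smul_apply, smul_eq_mul]
    have h4 : ∑ y : X, ∑ z : X, E z y * E y z = E.trace := by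
      conv_rhs => rw [← (show E * E = E from h.eigM_sq hρ hρ0)]
      simp [Matrix.trace, Matrix.mul_apply, mul_comm]
    calc ∑ y : X, ∑ z : X, (Fintype.card G : ℂ) * E z y / E.trace * E y z
        = (Fintype.card G : ℂ) / E.trace * ∑ y : X, ∑ z : X, E z y * E y z := by
          simp only [Finset.mul_sum]
          exact Finset.sum_congr rfl fun y _ => Finset.sum_congr rfl fun z _ => by ring
      _ = Fintype.card G := by rw [h4]; field_simp
  · have := key (eigM G A B D (-ρ)) (fun g x y => eigM_inv (-ρ) g x y)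
    simp only [h.trace_perm_inv] at this
    rw [this]
    refine Finset.sum_eq_zero fun y _ => Finset.sum_eq_zero fun z _ => ?_
    obtain ⟨c, hc⟩ := h.eigM_invariant hρ hρ0 (hW y z)
    rw [hc, Matrix.smul_mul, h.eigM_mul_neg hρ hρ0]
    simp

theorem integral_trace_perm (hρ : ρ ^ 2 = (disc G A B D : ℂ)) (hρ0 : ρ ≠ 0) (g : G) :
    IsIntegral ℤ (permM X g * eigM G A B D ρ).trace := by
  have hc : Commute (permM X g) (eigM G A B D ρ) := permM_comm fun x y => eigM_inv ρ g x y
  refine isIntegral_trace (n := orderOf g) (orderOf_pos g) ?_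
  rw [hc.mul_pow, permM_pow, pow_succ g, pow_orderOf_eq_one, one_mul,
    IsIdempotentElem.pow_succ_eq _ (h.eigM_sq hρ hρ0)]

theorem sum_trace_subgroup (hρ : ρ ^ 2 = (disc G A B D : ℂ)) (hρ0 : ρ ≠ 0) (U : Subgroup G) [Fintype U] :
    ∃ n : ℕ, ∑ g : U, (permM X (g : G) * eigM G A B D ρ).trace = (Fintype.card U : ℂ) * n := by
  set E := eigM G A B D ρ with hE
  set S := ∑ g : U, permM X (g : G) with hS
  have hU : (Fintype.card U : ℂ) ≠ 0 := by simp
  have hSS : S * S = (Fintype.card U : ℂ) • S := by
    rw [hS, Finset.sum_mul]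
    have : ∀ a : U, permM X (a : G) * (∑ g : U, permM X (g : G)) = ∑ g : U, permM X (g : G) := by
      intro a
      rw [Finset.mul_sum]
      simp only [← permM_mul, ← Subgroup.coe_mul]
      exact Equiv.sum_comp (Equiv.mulLeft a) fun g : U => permM X (g : G)
    simp [this, Nat.cast_smul_eq_nsmul]
  have hSE : S * E = E * S := by
    rw [hS, Finset.sum_mul, Finset.mul_sum]
    exact Finset.sum_congr rfl fun g _ => permM_comm fun x y => eigM_inv ρ (g : G) x y
  obtain ⟨n, hn⟩ := trace_natural (M := ((Fintype.card U : ℂ)⁻¹ • S) * E) (by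
    rw [Matrix.smul_mul, Matrix.smul_mul, Matrix.mul_smul, mul_assoc, ← mul_assoc E, ← hSE, mul_assoc S E E,
      h.eigM_sq hρ hρ0, ← hE, ← mul_assoc, hSS, Matrix.smul_mul, smul_smul (M := ℂ) _ (Fintype.card U : ℂ),
      inv_mul_cancel₀ hU, one_smul])
  refine ⟨n, ?_⟩
  rw [Matrix.smul_mul, Matrix.trace_smul, smul_eq_mul, hS, Finset.sum_mul, Matrix.trace_sum] at hn
  rw [← hn, ← mul_assoc, mul_inv_cancel₀ hU, one_mul]

end Setup

end Cfsg.Agent.Perm.RankThreeFrob
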