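import Cfsg.Agent.Lib.Perm.RankThreeFrob.Orbits
import Cfsg.Agent.Lib.Perm.RankThreeFrob.Character
import Cfsg.Agent.Lib.Block.ThreeP.FourCount
import Cfsg.Agent.S0215

/-!
The stabilizer of an edge has odd order: the Sylow 2-subgroup lies in the kernel, and the odd cores of the
centralizers of its central involutions are transitive on their fixed points.
-/

set_option autoImplicit false
set_option linter.unusedSectionVars false
set_option linter.style.haveILetI false

namespace Cfsg.Agent.Perm.RankThreeFrob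

open MulAction

universe u v

/-- In a finite nilpotent group elements of coprime orders commute. -/
theorem commute_coprime {E : Type u} [Group E] [Finite E] (hE : Group.IsNilpotent E) {x y : E}
    (h : (orderOf x).Coprime (orderOf y)) : x * y = y * x := by
  obtain ⟨e⟩ := (Group.isNilpotent_of_finite_tfae.out 0 4).1 hE
  have key : e.symm x * e.symm y = e.symm y * e.symm x := by
    funext r P
    rcases r with ⟨r, hr⟩
    haveI : Fact r.Prime := ⟨Nat.prime_of_mem_primeFactors hr⟩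
    have ho : ∀ z : E, orderOf (e.symm z ⟨r, hr⟩ P) ∣ orderOf z := fun z => by
      refine orderOf_dvd_of_pow_eq_one ?_
      have h1 := congrFun (congrFun (congrArg e.symm (pow_orderOf_eq_one z)) ⟨r, hr⟩) P
      rwa [map_pow, map_one, Pi.pow_apply, Pi.pow_apply, Pi.one_apply, Pi.one_apply] at h1
    obtain ⟨a, ha⟩ := IsPGroup.iff_orderOf.1 P.isPGroup' (e.symm x ⟨r, hr⟩ P)
    obtain ⟨b, hb⟩ := IsPGroup.iff_orderOf.1 P.isPGroup' (e.symm y ⟨r, hr⟩ P)
    have hcop := (h.coprime_dvd_left (ho x)).coprime_dvd_right (ho y)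
    rw [ha, hb] at hcop
    simp only [Pi.mul_apply]
    rcases Nat.eq_zero_or_pos a with rfl | ha0
    · rw [pow_zero, orderOf_eq_one_iff] at ha
      rw [ha, one_mul, mul_one]
    rcases Nat.eq_zero_or_pos b with rfl | hb0
    · rw [pow_zero, orderOf_eq_one_iff] at hb
      rw [hb, one_mul, mul_one]
    exact absurd hcop (Nat.Prime.not_coprime_iff_dvd.2
      ⟨r, Fact.out, dvd_pow_self r ha0.ne', dvd_pow_self r hb0.ne'⟩)
  exact e.symm.injective (by rw [map_mul, map_mul, key])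

/-- A largest normal subgroup of odd order contains all of them. -/
theorem exists_odd_top (L : Type u) [Group L] [Finite L] : ∃ N : Subgroup L, N.Normal ∧ Odd (Nat.card N) ∧
    ∀ M : Subgroup L, M.Normal → Odd (Nat.card M) → M ≤ N := by
  classical
  haveI : Fintype (Subgroup L) := Fintype.ofFinite _
  obtain ⟨N, hN, hmax⟩ := Finset.exists_max_image
    (Finset.univ.filter fun N : Subgroup L => N.Normal ∧ Odd (Nat.card N)) (fun N => Nat.card N)
    ⟨⊥, by simp only [Finset.mem_filter, Finset.mem_univ, true_and]; exact ⟨inferInstance, by simp⟩⟩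
  obtain ⟨hNn, hNo⟩ := (Finset.mem_filter.1 hN).2
  refine ⟨N, hNn, hNo, fun M hMn hMo => ?_⟩
  haveI := hNn
  haveI := hMn
  have hodd : Odd (Nat.card ↥(N ⊔ M)) := by
    have h1 := Subgroup.card_mul_index ((N.subgroupOf (N ⊔ M)))
    rw [Nat.card_congr (Subgroup.subgroupOfEquivOfLe (le_sup_left : N ≤ N ⊔ M)).toEquiv] at h1
    rw [← h1, Nat.odd_mul]
    refine ⟨hNo, hMo.of_dvd_nat ?_⟩
    show N.relIndex (N ⊔ M) ∣ Nat.card M
    rw [Subgroup.relIndex_sup_left]
    exact Subgroup.relIndex_dvd_card N M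
  have := hmax (N ⊔ M) (by
    simp only [Finset.mem_filter, Finset.mem_univ, true_and]
    exact ⟨inferInstance, hodd⟩)
  exact le_sup_right.trans (Subgroup.eq_of_le_of_card_ge le_sup_left this).ge

variable {G : Type u} [Group G] {X : Type v} [MulAction G X] [Finite G] [Finite X] [FaithfulSMul G X]
  {A B D : X}

/-- The Sylow 2-subgroup in the kernel. -/
structure OddPack (A B : X) (S : Subgroup G) : Prop where
  le : S ≤ Kf G A B A
  isP : IsPGroup 2 S
  sylow : ∃ P : Sylow 2 G, (P : Subgroup G) = S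
  contains : ∀ x : G, x • A = A → (∃ n, x ^ 2 ^ n = 1) → x ∈ S
  oddX : Odd (Nat.card X)

/-- The involutions of the Sylow 2-subgroup central in the kernel, with the identity. -/
def A0 (A B : X) (S : Subgroup G) : Subgroup G where
  carrier := {x | x ∈ S ∧ x ∈ Kf G A B A ∧ x * x = 1 ∧ ∀ y ∈ Kf G A B A, x * y = y * x}
  one_mem' := ⟨one_mem _, one_mem _, one_mul 1, fun y _ => by rw [one_mul, mul_one]⟩
  mul_mem' := by
    rintro a b ⟨ha, haK, ha2, hac⟩ ⟨hb, hbK, hb2, hbc⟩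
    refine ⟨mul_mem ha hb, mul_mem haK hbK, ?_,
      fun y hy => by rw [mul_assoc, hbc y hy, ← mul_assoc, hac y hy, mul_assoc]⟩
    calc a * b * (a * b) = a * (b * a) * b := by group
      _ = a * a * (b * b) := by rw [← hac b hbK]; group
      _ = 1 := by rw [ha2, hb2, one_mul]
  inv_mem' := by
    rintro a ⟨ha, haK, ha2, hac⟩
    rw [inv_eq_of_mul_eq_one_right ha2]
    exact ⟨ha, haK, ha2, hac⟩

namespace Setup

variable (h : Setup G A B D)
include h

theorem even_kk (hc : Odd (cc G A B)) : Even (kk G A B) := by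
  by_contra hk
  rw [Nat.not_even_iff_odd] at hk
  obtain ⟨-, -, -, -, -, -, hld, -, -, -⟩ := h.params
  have hl : Odd (ll G A B) := (hk.mul hc).of_dvd_nat ⟨_, hld.symm⟩
  have hv : Odd (Nat.card X) := by
    rw [h.card_X]
    obtain ⟨a, ha⟩ := hk
    obtain ⟨b, hb⟩ := hl
    exact ⟨a + b + 1, by omega⟩
  have := hv.mul (hk.mul hc)
  rw [← h.card_G] at this
  exact Nat.not_even_iff_odd.2 this h.even

theorem exists_oddPack (hc : Odd (cc G A B)) : ∃ S : Subgroup G, OddPack A B S := by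
  classical
  haveI : Fact (Nat.Prime 2) := ⟨Nat.prime_two⟩
  set K := Kf G A B A with hK
  haveI hnil : Group.IsNilpotent ↥K := h.card_Kf_base.2.2.2.2
  obtain ⟨P⟩ : Nonempty (Sylow 2 ↥K) := inferInstance
  have hsyl : ∀ (p : ℕ) (_ : Fact p.Prime) (Q : Sylow p ↥K), (Q : Subgroup ↥K).Normal :=
    (Group.isNilpotent_of_finite_tfae.out 0 3).1 hnil
  haveI : (P : Subgroup ↥K).Normal := hsyl 2 ⟨Nat.prime_two⟩ P
  set S : Subgroup G := (P : Subgroup ↥K).map K.subtype with hS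
  have hSK : S ≤ K := Subgroup.map_subtype_le _
  have hSp : IsPGroup 2 ↥S := P.isPGroup'.map _
  have hcontK : ∀ x ∈ K, (∃ n, x ^ 2 ^ n = 1) → x ∈ S := by
    intro x hx hn
    obtain ⟨n, hn⟩ := hn
    have hp : IsPGroup 2 ↥(Subgroup.zpowers (⟨x, hx⟩ : ↥K)) := by
      rintro ⟨_, j, rfl⟩
      refine ⟨n, Subtype.ext ?_⟩
      rw [Subgroup.coe_pow, Subgroup.coe_one, ← zpow_natCast, ← zpow_mul, mul_comm, zpow_mul,
        zpow_natCast, show (⟨x, hx⟩ : ↥K) ^ 2 ^ n = 1 from Subtype.ext hn, one_zpow]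
    obtain ⟨Q, hQ⟩ := hp.exists_le_sylow
    obtain ⟨g, hg⟩ := MulAction.exists_smul_eq ↥K P Q
    have hPQ : (Q : Subgroup ↥K) = (P : Subgroup ↥K) := by
      rw [← hg]
      exact congrArg Sylow.toSubgroup (Sylow.smul_eq_of_normal (g := g) (P := P))
    exact ⟨⟨x, hx⟩, hPQ ▸ hQ (Subgroup.mem_zpowers _), rfl⟩
  have hcont : ∀ x : G, x • A = A → (∃ n, x ^ 2 ^ n = 1) → x ∈ S := by
    intro x hxA hn
    refine hcontK x ((h.mem_Kf_iff_pow hxA).2 ?_) hn
    obtain ⟨n, hn⟩ := hn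
    rw [← orderOf_dvd_iff_pow_eq_one]
    have h1 : orderOf x ∣ kk G A B * cc G A B := by
      rw [← h.card_stab]; exact Subgroup.orderOf_dvd_natCard _ hxA
    refine Nat.Coprime.dvd_of_dvd_mul_right ?_ h1
    exact Nat.Coprime.coprime_dvd_left (orderOf_dvd_of_pow_eq_one hn)
      (Nat.Coprime.pow_left n (Nat.coprime_two_left.2 hc))
  have hSne : S ≠ ⊥ := by
    intro e
    obtain ⟨x, hx⟩ := exists_prime_orderOf_dvd_card' 2
      (show 2 ∣ Nat.card ↥K by rw [h.card_Kf A]; exact (h.even_kk hc).two_dvd)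
    have := hcontK x x.2 ⟨1, by rw [pow_one, ← Subgroup.coe_pow, ← hx, pow_orderOf_eq_one]; rfl⟩
    rw [e, Subgroup.mem_bot] at this
    rw [show x = 1 from Subtype.ext this, orderOf_one] at hx
    omega
  have hconj : ∀ g : G, g • A = A → ∀ x ∈ S, g * x * g⁻¹ ∈ S := by
    intro g hg x hx
    obtain ⟨n, hn⟩ := hSp ⟨x, hx⟩
    refine hcontK _ (h.Kf_normal hg (hSK hx)) ⟨n, ?_⟩
    rw [conj_pow, show x ^ 2 ^ n = 1 from congrArg Subtype.val hn]; group
  have hfix : ∀ y : X, (∀ x ∈ S, x • y = y) → y = A := fun y hy => h.normal_fix_only hSK hSne hconj hy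
  obtain ⟨P2, hP2⟩ := hSp.exists_le_sylow
  have heq : (P2 : Subgroup G) = S := by
    refine le_antisymm ?_ hP2
    by_contra hlt
    have hlt' : S.subgroupOf (P2 : Subgroup G) < ⊤ := lt_top_iff_ne_top.2 fun e =>
      hlt (Subgroup.subgroupOf_eq_top.1 e)
    haveI : Group.IsNilpotent ↥(P2 : Subgroup G) := P2.isPGroup'.isNilpotent
    obtain ⟨n, hn, hnS⟩ := SetLike.exists_of_lt (Group.normalizerCondition_of_isNilpotent _ hlt')
    refine hnS (hcont (n : G) (hfix _ fun x hx => ?_) (Exists.imp (fun j e => congrArg Subtype.val e) (P2.isPGroup' n)))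
    have h1 := (Subgroup.mem_normalizer_iff''.1 hn ⟨x, hP2 hx⟩).1 hx
    have h2 := h.Kf_fix (hSK (show (n : G)⁻¹ * x * n ∈ S from h1))
    rw [mul_smul, mul_smul, inv_smul_eq_iff] at h2
    exact h2
  refine ⟨S, hSK, hSp, ⟨P2, heq⟩, hcont, ?_⟩
  have hidx := P2.not_dvd_index
  rw [heq] at hidx
  rw [← Nat.not_even_iff_odd, even_iff_two_dvd]
  intro h2
  refine hidx ?_
  have hmul := S.card_mul_index
  have hrel := Subgroup.relIndex_mul_index (show S ≤ stabilizer G A from fun x hx => h.Kf_fix (hSK hx))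
  rw [← hrel]
  haveI := h.pretrans
  rw [MulAction.index_stabilizer_of_transitive]
  exact Dvd.dvd.mul_left h2 _

end Setup

namespace OddPack

variable (h : Setup G A B D) {S : Subgroup G} (q : OddPack A B S)
include h q

theorem conj_mem {g x : G} (hg : g • A = A) (hx : x ∈ S) : g * x * g⁻¹ ∈ S := by
  obtain ⟨n, hn⟩ := q.isP ⟨x, hx⟩
  refine q.contains _ (h.Kf_fix (h.Kf_normal hg (q.le hx))) ⟨n, ?_⟩
  rw [conj_pow, show x ^ 2 ^ n = 1 from congrArg Subtype.val hn]; group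

omit h q in
theorem A0_le : A0 A B S ≤ S := fun _ hx => hx.1

omit h in
theorem fixA {x : G} (hx : x ∈ S) (h : Setup G A B D) : x • A = A := h.Kf_fix (q.le hx)

theorem A0_conj {g x : G} (hg : g • A = A) (hx : x ∈ A0 A B S) : g * x * g⁻¹ ∈ A0 A B S := by
  obtain ⟨h1, h2, h3, h4⟩ := hx
  refine ⟨q.conj_mem h hg h1, h.Kf_normal hg h2, ?_, fun y hy => ?_⟩
  · rw [show g * x * g⁻¹ * (g * x * g⁻¹) = g * (x * x) * g⁻¹ by group, h3]; group
  · have hg' : g⁻¹ • A = A := inv_smul_eq_iff.2 hg.symm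
    have hy' := h4 _ (h.Kf_normal hg' hy)
    rw [inv_inv] at hy'
    calc g * x * g⁻¹ * y = g * (x * (g⁻¹ * y * g)) * g⁻¹ := by group
      _ = g * ((g⁻¹ * y * g) * x) * g⁻¹ := by rw [hy']
      _ = y * (g * x * g⁻¹) := by group

/-- An element of the kernel of odd order commutes with the Sylow 2-subgroup. -/
theorem commute_odd {x y : G} (hx : x ∈ S) (hy : y ∈ Kf G A B A) (ho : Odd (orderOf y)) :
    x * y = y * x := by
  obtain ⟨n, hn⟩ := q.isP ⟨x, hx⟩
  haveI : Group.IsNilpotent ↥(Kf G A B A) := h.card_Kf_base.2.2.2.2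
  have hc : (orderOf (⟨x, q.le hx⟩ : ↥(Kf G A B A))).Coprime (orderOf (⟨y, hy⟩ : ↥(Kf G A B A))) := by
    rw [← Subgroup.orderOf_coe, ← Subgroup.orderOf_coe]
    exact Nat.Coprime.coprime_dvd_left (orderOf_dvd_of_pow_eq_one (congrArg Subtype.val hn))
      (Nat.Coprime.pow_left n (Nat.coprime_two_left.2 ho))
  exact congrArg Subtype.val (commute_coprime (E := ↥(Kf G A B A)) inferInstance hc)

theorem central_of_commute {x : G} (hx : x ∈ S) (hc : ∀ y ∈ S, x * y = y * x) {y : G}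
    (hy : y ∈ Kf G A B A) : x * y = y * x := by
  haveI : Fact (Nat.Prime 2) := ⟨Nat.prime_two⟩
  obtain ⟨a, m, hm, hn⟩ := Nat.exists_eq_two_pow_mul_odd (orderOf_pos y).ne'
  have h1 : y ^ m ∈ Subgroup.centralizer ({x} : Set G) := by
    rw [Subgroup.mem_centralizer_singleton_iff]
    refine (hc _ (q.contains _ (h.Kf_fix (pow_mem hy m)) ⟨a, ?_⟩)).symm
    rw [← pow_mul, mul_comm, ← hn, pow_orderOf_eq_one]
  have h2 : y ^ 2 ^ a ∈ Subgroup.centralizer ({x} : Set G) := by
    rw [Subgroup.mem_centralizer_singleton_iff]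
    refine (q.commute_odd h hx (pow_mem hy _) (hm.of_dvd_nat (orderOf_dvd_of_pow_eq_one ?_))).symm
    rw [← pow_mul, ← hn, pow_orderOf_eq_one]
  have hcop : Nat.gcd (2 ^ a) m = 1 := Nat.Coprime.pow_left a (Nat.coprime_two_left.2 hm)
  have h3 : y ∈ Subgroup.centralizer ({x} : Set G) := by
    have e : y = (y ^ 2 ^ a) ^ Nat.gcdA (2 ^ a) m * (y ^ m) ^ Nat.gcdB (2 ^ a) m := by
      rw [← zpow_natCast y (2 ^ a), ← zpow_natCast y m, ← zpow_mul, ← zpow_mul, ← zpow_add,
        ← Nat.gcd_eq_gcd_ab, hcop, Nat.cast_one, zpow_one]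
    rw [e]
    exact mul_mem (zpow_mem h2 _) (zpow_mem h1 _)
  exact (Subgroup.mem_centralizer_singleton_iff.1 h3).symm

theorem exists_A0 : ∃ z ∈ A0 A B S, z ≠ 1 := by
  haveI : Fact (Nat.Prime 2) := ⟨Nat.prime_two⟩
  have hne : Nontrivial ↥S := by
    obtain ⟨P, hP⟩ := q.sylow
    have h2 : 2 ∣ Nat.card ↥(P : Subgroup G) :=
      P.dvd_card_of_dvd_card h.even.two_dvd
    rw [hP] at h2
    exact Finite.one_lt_card_iff_nontrivial.1 (lt_of_lt_of_le one_lt_two (Nat.le_of_dvd Nat.card_pos h2))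
  haveI := hne
  haveI : Nontrivial (Subgroup.center ↥S) := q.isP.center_nontrivial
  have h2 : 2 ∣ Nat.card (Subgroup.center ↥S) := by
    obtain ⟨n, hn⟩ := IsPGroup.iff_card.1 (q.isP.to_subgroup (Subgroup.center ↥S))
    rw [hn]
    refine dvd_pow_self 2 fun e => ?_
    rw [e, pow_zero] at hn
    exact absurd hn (ne_of_gt Finite.one_lt_card)
  obtain ⟨z, hz⟩ := exists_prime_orderOf_dvd_card' 2 h2
  refine ⟨((z : ↥S) : G), ⟨(z : ↥S).2, q.le (z : ↥S).2, ?_,
    fun y hy => q.central_of_commute h (z : ↥S).2 (fun w hw => ?_) hy⟩, fun e => ?_⟩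
  · have h3 := pow_orderOf_eq_one z
    rw [hz, pow_two] at h3
    exact congrArg (fun w : Subgroup.center ↥S => ((w : ↥S) : G)) h3
  · exact congrArg Subtype.val (Subgroup.mem_center_iff.1 z.2 ⟨w, hw⟩).symm
  · rw [show z = 1 from Subtype.ext (Subtype.ext e), orderOf_one] at hz
    omega

theorem A0_fix_only {y : X} (hy : ∀ x ∈ A0 A B S, x • y = y) : y = A := by
  obtain ⟨z, hz, hz1⟩ := q.exists_A0 h
  refine h.normal_fix_only (N := A0 A B S) (fun x hx => hx.2.1) ?_ (fun g hg x hx => q.A0_conj h hg hx) hy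
  exact fun e => hz1 (by rw [e, Subgroup.mem_bot] at hz; exact hz)

theorem invol_fix {u : G} (hu : u * u = 1) : ∃ y : X, u • y = y := by
  haveI : Fact (Nat.Prime 2) := ⟨Nat.prime_two⟩
  obtain ⟨P, hP⟩ := q.sylow
  have hp : IsPGroup 2 ↥(Subgroup.zpowers u) := by
    rintro ⟨_, j, rfl⟩
    refine ⟨1, Subtype.ext ?_⟩
    rw [Subgroup.coe_pow, Subgroup.coe_one, ← zpow_natCast, ← zpow_mul, mul_comm, zpow_mul, zpow_natCast,
      pow_one, pow_two, hu, one_zpow]
  obtain ⟨Q, hQ⟩ := hp.exists_le_sylow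
  obtain ⟨g, hg⟩ := MulAction.exists_smul_eq G P Q
  refine ⟨g • A, ?_⟩
  have hmem : u ∈ (Q : Subgroup G) := hQ (Subgroup.mem_zpowers u)
  rw [← hg, Sylow.coe_subgroup_smul, Subgroup.mem_pointwise_smul_iff_inv_smul_mem, hP] at hmem
  have hmem' : g⁻¹ * u * g ∈ S := by simpa using hmem
  have h1 : (g⁻¹ * u * g) • A = A := h.Kf_fix (q.le hmem')
  rw [mul_smul, mul_smul, inv_smul_eq_iff] at h1
  exact h1

/-- A normal subgroup of odd order of the centralizer of some central involutions is transitive on their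
common fixed points, and the elements carrying `A` to a point can be chosen to commute with the part of the
Sylow 2-subgroup fixing it. -/
theorem exists_core (Bs : Subgroup G) (hB : Bs ≤ A0 A B S) (hne : Bs ≠ ⊥) :
    ∃ N : Subgroup G, Odd (Nat.card N) ∧ (∀ n ∈ N, ∀ b ∈ Bs, n * b = b * n) ∧
      (∀ u ∈ S, u ∈ Subgroup.normalizer (N : Set G)) ∧
      (∀ n ∈ N, n • A = A → ∀ u ∈ S, n * u = u * n) ∧
      ∀ y : X, (∀ b ∈ Bs, b • y = y) → ∃ g ∈ N, g • A = y ∧ ∀ u ∈ S, u • y = y → g * u = u * g := by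
  classical
  haveI : Fact (Nat.Prime 2) := ⟨Nat.prime_two⟩
  set C := Subgroup.centralizer (Bs : Set G) with hC
  have hmemC : ∀ g : G, g ∈ C ↔ ∀ b ∈ Bs, b * g = g * b := fun g => Subgroup.mem_centralizer_iff
  obtain ⟨b0, hb01⟩ := Subgroup.ne_bot_iff_exists_ne_one.1 hne
  have hb0 : ((b0 : G)) ≠ 1 := fun e => hb01 (Subtype.ext e)
  have hKC : Kf G A B A ≤ C := fun x hx => (hmemC x).2 fun b hb => (hB hb).2.2.2 x hx
  have hSC : S ≤ C := fun x hx => hKC (q.le hx)
  have hinK : ∀ g ∈ C, g • A = A → g ∈ Kf G A B A := fun g hg hgA =>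
    h.cent_le (hB b0.2).2.1 hb0 hgA ((hmemC g).1 hg b0 b0.2).symm
  obtain ⟨N0, hN0n, hN0o, hN0max⟩ := exists_odd_top ↥C
  -- transitivity of centralizers
  have htrans : ∀ U : Subgroup G, U ≤ A0 A B S → Bs ≤ U → ∀ y : X, (∀ x ∈ U, x • y = y) →
      ∃ g ∈ Subgroup.centralizer (U : Set G), g • A = y := by
    intro U hU hBU y hy
    refine transitive_of_unique_fix (p := 2) _ {r : X | ∀ x ∈ U, x • r = r}
      (fun g hg r hr x hx => ?_) (fun R hR => ?_) (fun x hx => h.Kf_fix (hU hx).2.1) hy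
    · rw [← mul_smul, Subgroup.mem_centralizer_iff.1 hg x hx, mul_smul, hr x hx]
    · obtain ⟨g, rfl⟩ := h.exists_smul A R
      refine ⟨(A0 A B S).map (MulAut.conj g).toMonoidHom, ?_,
        (q.isP.to_le (show A0 A B S ≤ S from A0_le)).map _, ?_, ?_⟩
      · rintro _ ⟨a, ha, rfl⟩
        rw [Subgroup.mem_centralizer_iff]
        intro x hx
        show x * (g * a * g⁻¹) = g * a * g⁻¹ * x
        have hx2 : x * x = 1 := (hU hx).2.2.1
        have hgA : (g⁻¹ * x * g) • A = A := by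
          rw [mul_smul, mul_smul, hR x hx, inv_smul_smul]
        have hxS := q.contains _ hgA ⟨1, by
          rw [pow_one, pow_two, show g⁻¹ * x * g * (g⁻¹ * x * g) = g⁻¹ * (x * x) * g by group, hx2]; group⟩
        have h4 := ha.2.2.2 _ (q.le hxS)
        calc x * (g * a * g⁻¹) = g * ((g⁻¹ * x * g) * a) * g⁻¹ := by group
          _ = g * (a * (g⁻¹ * x * g)) * g⁻¹ := by rw [h4]
          _ = _ := by group
      · rintro _ ⟨a, ha, rfl⟩
        show (g * a * g⁻¹) • (g • A) = g • A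
        rw [mul_smul, mul_smul, inv_smul_smul, h.Kf_fix ha.2.1]
      · intro r _ hr
        have h5 := q.A0_fix_only h (y := g⁻¹ • r) fun a ha => by
          have h6 := hr _ ⟨a, ha, rfl⟩
          change (g * a * g⁻¹) • r = r at h6
          rw [mul_smul, mul_smul] at h6
          exact smul_eq_iff_eq_inv_smul g |>.1 h6
        rw [← h5, smul_inv_smul]
  -- the central elements are central modulo the odd core
  have hstar : ∀ a ∈ A0 A B S, ∀ g ∈ C, ∃ n : ↥C, n ∈ N0 ∧ (n : G) = a * g * a⁻¹ * g⁻¹ := by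
    intro a ha g hg
    by_cases ha1 : a = 1
    · exact ⟨1, one_mem _, by rw [OneMemClass.coe_one, ha1]; group⟩
    obtain ⟨P, hP⟩ := q.sylow
    let P' : Sylow 2 ↥C := P.subtype (hP ▸ hSC)
    have hP' : ∀ x : ↥C, x ∈ P' ↔ (x : G) ∈ S := fun x => by
      rw [← hP]; exact Iff.rfl
    have haC : a ∈ C := hSC ha.1
    have hiso : ∀ x : ↥C, x * ⟨a, haC⟩ * x⁻¹ ∈ P' → x * ⟨a, haC⟩ * x⁻¹ = ⟨a, haC⟩ := by
      intro x hx
      have hx' : (x : G) * a * (x : G)⁻¹ ∈ S := (hP' _).1 hx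
      set R := (x : G)⁻¹ • A with hR
      have hfixR : ∀ z ∈ Bs ⊔ Subgroup.zpowers a, z • R = R := by
        intro z hz
        have hle : Bs ⊔ Subgroup.zpowers a ≤ stabilizer G R := by
          refine sup_le (fun b hb => ?_) ((Subgroup.zpowers_le).2 ?_)
          · show b • R = R
            rw [hR, ← mul_smul, (show Commute b (x : G) from (hmemC x).1 x.2 b hb).inv_right.eq, mul_smul,
              h.Kf_fix (hB hb).2.1]
          · show a • R = R
            have h7 := h.Kf_fix (q.le hx')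
            rw [mul_smul, mul_smul] at h7
            exact smul_eq_iff_eq_inv_smul _ |>.1 h7
        exact hle hz
      have hUle : Bs ⊔ Subgroup.zpowers a ≤ A0 A B S := sup_le hB ((Subgroup.zpowers_le).2 ha)
      obtain ⟨c, hc, hcA⟩ := htrans _ hUle le_sup_left R hfixR
      have hca : a * c = c * a := Subgroup.mem_centralizer_iff.1 hc a
        (le_sup_right (a := Bs) (Subgroup.mem_zpowers a))
      have hxc : (x : G) * c ∈ Kf G A B A := by
        refine hinK _ (mul_mem x.2 ((hmemC c).2 fun b hb =>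
          Subgroup.mem_centralizer_iff.1 hc b (le_sup_left (b := Subgroup.zpowers a) hb))) ?_
        rw [mul_smul, hcA, hR, smul_inv_smul]
      refine Subtype.ext ?_
      show (x : G) * a * (x : G)⁻¹ = a
      calc (x : G) * a * (x : G)⁻¹ = ((x : G) * (a * c)) * c⁻¹ * (x : G)⁻¹ := by group
        _ = ((x : G) * c * a) * c⁻¹ * (x : G)⁻¹ := by rw [hca]; group
        _ = (a * ((x : G) * c)) * c⁻¹ * (x : G)⁻¹ := by rw [ha.2.2.2 _ hxc]
        _ = a := by group
    obtain ⟨N, hNn, hNo, hcomm⟩ := Cfsg.Agent.S0215.result P' (⟨a, haC⟩ : ↥C)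
      (orderOf_eq_prime (Subtype.ext (by rw [Subgroup.coe_pow, pow_two]; exact ha.2.2.1))
        fun e => ha1 (congrArg Subtype.val e))
      ((hP' _).2 ha.1) hiso
    exact ⟨⟨a, haC⟩ * ⟨g, hg⟩ * (⟨a, haC⟩ : ↥C)⁻¹ * (⟨g, hg⟩ : ↥C)⁻¹, hN0max N hNn hNo (hcomm ⟨g, hg⟩), rfl⟩
  set N : Subgroup G := N0.map C.subtype with hN
  have hNC : ∀ n ∈ N, n ∈ C := fun n hn => Subgroup.map_subtype_le _ hn
  have hNodd : Odd (Nat.card N) := by
    rwa [Nat.card_congr (N0.equivMapOfInjective _ (Subgroup.subtype_injective C)).toEquiv.symm]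
  have hNconj : ∀ g ∈ C, ∀ n ∈ N, g * n * g⁻¹ ∈ N := by
    rintro g hg _ ⟨n, hn, rfl⟩
    exact ⟨⟨g, hg⟩ * n * (⟨g, hg⟩ : ↥C)⁻¹, hN0n.conj_mem n hn _, rfl⟩
  have hnorm : ∀ u ∈ S, u ∈ Subgroup.normalizer (N : Set G) := fun u hu =>
    Subgroup.mem_normalizer_fintype fun n hn => hNconj u (hSC hu) n hn
  have hcentA : ∀ n ∈ N, n • A = A → ∀ u ∈ S, n * u = u * n := fun n hn hnA u hu =>
    (q.commute_odd h hu (hinK n (hNC n hn) hnA)
      (hNodd.of_dvd_nat (Subgroup.orderOf_dvd_natCard _ hn))).symm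
  refine ⟨N, hNodd, fun n hn b hb => ((hmemC n).1 (hNC n hn) b hb).symm, hnorm, hcentA, fun y hy => ?_⟩
  -- every orbit of the core is fixed by every central element
  obtain ⟨w, hw, hwA⟩ := htrans Bs hB le_rfl y hy
  let O : Set X := orbit ↥N y
  have hinO : ∀ a ∈ A0 A B S, ∀ r ∈ O, a • r ∈ O := by
    rintro a ha _ ⟨n, rfl⟩
    obtain ⟨m, hm, hme⟩ := hstar a ha w hw
    have hm' : a * w * a⁻¹ * w⁻¹ ∈ N := ⟨m, hm, hme⟩
    refine ⟨⟨a * n * a⁻¹ * (a * w * a⁻¹ * w⁻¹), mul_mem (hNconj a (hSC ha.1) n n.2) hm'⟩, ?_⟩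
    show (a * (n : G) * a⁻¹ * (a * w * a⁻¹ * w⁻¹)) • y = a • (n : G) • y
    rw [← hwA]
    simp only [mul_smul, inv_smul_smul, inv_smul_eq_iff.2 (h.Kf_fix ha.2.1).symm]
  obtain ⟨r, hrO, hr⟩ : ∃ r ∈ O, ∀ a ∈ A0 A B S, a • r = r := by
    letI : MulAction ↥(A0 A B S) O :=
      { smul := fun a r => ⟨(a : G) • (r : X), hinO a a.2 r r.2⟩
        one_smul := fun r => Subtype.ext (one_smul G (r : X))
        mul_smul := fun a a' r => Subtype.ext (mul_smul (a : G) (a' : G) (r : X)) }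
    have hOodd : Odd (Nat.card O) := by
      refine hNodd.of_dvd_nat ?_
      rw [← Nat.card_congr (orbitProdStabilizerEquivGroup (↥N) y), Nat.card_prod]
      exact dvd_mul_right _ _
    have hP : IsPGroup 2 ↥(A0 A B S) := q.isP.to_le fun x hx => hx.1
    obtain ⟨r, hr⟩ := hP.nonempty_fixed_point_of_prime_not_dvd_card O
      (fun e => Nat.not_even_iff_odd.2 hOodd (even_iff_two_dvd.2 e))
    exact ⟨r, r.2, fun a ha => congrArg Subtype.val (hr ⟨a, ha⟩)⟩
  rw [q.A0_fix_only h hr] at hrO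
  obtain ⟨n, hn⟩ := hrO
  refine ⟨(n : G)⁻¹, inv_mem n.2, ?_, fun u hu huy => ?_⟩
  · rw [inv_smul_eq_iff]; exact hn.symm
  · set g : G := (n : G)⁻¹ with hg
    have hgA : g • A = y := by rw [hg, inv_smul_eq_iff]; exact hn.symm
    have hgN : g ∈ N := inv_mem n.2
    set r' := g⁻¹ * u * g * u⁻¹ with hr'
    have hr'N : r' ∈ N := by
      rw [hr', show g⁻¹ * u * g * u⁻¹ = g⁻¹ * (u * g * u⁻¹) by group]
      exact mul_mem (inv_mem hgN) (hNconj u (hSC hu) g hgN)
    have hr'A : r' • A = A := by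
      rw [hr', mul_smul, mul_smul, mul_smul, inv_smul_eq_iff.2 (q.fixA hu h).symm, hgA, huy, inv_smul_eq_iff,
        hgA]
    have hcu : r' * u = u * r' := hcentA r' hr'N hr'A u hu
    have hord : orderOf (g⁻¹ * u * g) = orderOf u := by
      have := (MulAut.conj g⁻¹).orderOf_eq u
      simpa using this
    have hru : g⁻¹ * u * g = r' * u := by rw [hr']; group
    have hcop : (orderOf r').Coprime (orderOf u) := by
      obtain ⟨j, hj⟩ := q.isP ⟨u, hu⟩
      refine Nat.Coprime.coprime_dvd_right (orderOf_dvd_of_pow_eq_one (congrArg Subtype.val hj)) ?_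
      exact Nat.Coprime.pow_right j
        (Nat.coprime_two_right.2 (hNodd.of_dvd_nat (Subgroup.orderOf_dvd_natCard _ hr'N)))
    rw [hru, (show Commute r' u from hcu).orderOf_mul_eq_mul_orderOf_of_coprime hcop] at hord
    have h1 : orderOf r' = 1 := by
      have := orderOf_pos u
      exact Nat.eq_of_mul_eq_mul_right this (by rw [one_mul]; exact hord)
    rw [orderOf_eq_one_iff.1 h1, one_mul] at hru
    calc g * u = g * (g⁻¹ * u * g) := by rw [hru]
      _ = u * g := by group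

end OddPack

end Cfsg.Agent.Perm.RankThreeFrob
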