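import Cfsg.Agent.Lib.Perm.RankThreeFrob.OddRank
import Cfsg.Agent.Lib.Perm.RankThreeFrob.EvenDelta
import Cfsg.Agent.S3779

/-!
The stabilizer of an edge cannot have odd order.
-/

set_option autoImplicit false
set_option linter.unusedSectionVars false
set_option linter.style.haveILetI false

namespace Cfsg.Agent.Perm.RankThreeFrob

open MulAction
open scoped commutatorElement

universe u v

variable {G : Type u} [Group G] {X : Type v} [MulAction G X] [Finite G] [Finite X] [FaithfulSMul G X]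
  {A B D : X}

namespace OddPack

variable (h : Setup G A B D) {S : Subgroup G} (q : OddPack A B S)
include h q

theorem fixer_unique {z a : G} {y : X} (hz : z ∈ A0 A B S) (hz1 : z ≠ 1) (ha : a ∈ A0 A B S) (ha1 : a ≠ 1)
    (hne : z ≠ a) (hzy : z • y = y) (hay : a • y = y) : y = A := by
  refine q.A0_fix_only h fun w hw => ?_
  rcases q.rank_two h hz hz1 ha ha1 hne hw with rfl | rfl | rfl | rfl
  · exact one_smul G y
  · exact hzy
  · exact hay
  · rw [mul_smul, hay, hzy]

theorem card_nontriv : Nat.card ({w : G | w ∈ A0 A B S ∧ w ≠ 1} : Set G) = 3 := by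
  classical
  haveI := Fintype.ofFinite G
  obtain ⟨z, hz, hz1⟩ := q.exists_A0 h
  obtain ⟨a, ha, ha1, hne⟩ := q.A0_not_unique h hz hz1
  have hza1 : z * a ≠ 1 := fun e => hne
    (by rw [← one_mul a, ← hz.2.2.1, mul_assoc, e, mul_one])
  have e : (Finset.univ.filter fun w : G => w ∈ A0 A B S ∧ w ≠ 1) = {z, a, z * a} := by
    ext w
    simp only [Finset.mem_filter, Finset.mem_univ, true_and, Finset.mem_insert, Finset.mem_singleton]
    constructor
    · rintro ⟨hw, hw1⟩
      exact (q.rank_two h hz hz1 ha ha1 hne.symm hw).resolve_left hw1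
    · rintro (rfl | rfl | rfl)
      exacts [⟨hz, hz1⟩, ⟨ha, ha1⟩, ⟨mul_mem hz ha, hza1⟩]
  show Nat.card {w : G // w ∈ A0 A B S ∧ w ≠ 1} = 3
  rw [Nat.card_eq_fintype_card, Fintype.card_subtype, e, Finset.card_insert_of_notMem (by
    simp only [Finset.mem_insert, Finset.mem_singleton, not_or]
    exact ⟨hne.symm, fun e' => ha1 (mul_left_cancel ((mul_one z).trans e')).symm⟩),
    Finset.card_pair fun e' => hz1 (mul_right_cancel ((one_mul a).trans e')).symm]

omit q in
theorem edge_free {g x : G} (hg : g ∈ stabilizer G A ⊓ stabilizer G B) (hx : x ∈ Kf G A B A) (hx1 : x ≠ 1)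
    (e : g * x * g⁻¹ = x) : g = 1 :=
  h.Kf_move (h.cent_le hx hx1 hg.1 (by
    calc g * x = g * x * g⁻¹ * g := by group
      _ = x * g := by rw [e])) Adj.base hg.2

theorem cc_eq : cc G A B = 3 := by
  have h1 : cc G A B ∣ 3 := by
    rw [← q.card_nontriv h]
    refine card_dvd_of_free_conj (stabilizer G A ⊓ stabilizer G B) _
      (fun g hg x hx => ⟨q.A0_conj h hg.1 hx.1, fun e => hx.2 ?_⟩)
      fun g hg x hx e => edge_free h hg hx.1.2.1 hx.2 e
    rw [show x = g⁻¹ * (g * x * g⁻¹) * g by group, e]; group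
  obtain ⟨-, -, -, -, -, -, -, hc2, -, -⟩ := h.params
  exact ((Nat.dvd_prime Nat.prime_three).1 h1).resolve_left (by omega)

theorem conj_trans {z a : G} (hz : z ∈ A0 A B S) (hz1 : z ≠ 1) (ha : a ∈ A0 A B S) (ha1 : a ≠ 1) :
    ∃ g : G, g • A = A ∧ g * z * g⁻¹ = a := by
  let φ : ↥(stabilizer G A ⊓ stabilizer G B) → ({w : G | w ∈ A0 A B S ∧ w ≠ 1} : Set G) := fun g =>
    ⟨(g : G) * z * (g : G)⁻¹, q.A0_conj h g.2.1 hz, fun e => hz1 (by
      rw [show z = (g : G)⁻¹ * ((g : G) * z * (g : G)⁻¹) * g by group, e]; group)⟩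
  have hinj : Function.Injective φ := by
    intro g g' e
    have e' : (g : G) * z * (g : G)⁻¹ = g' * z * (g' : G)⁻¹ := congrArg Subtype.val e
    have := edge_free h (g := (g' : G)⁻¹ * g) (mul_mem (inv_mem g'.2) g.2) hz.2.1 hz1 (by
      calc (g' : G)⁻¹ * g * z * ((g' : G)⁻¹ * g)⁻¹ = (g' : G)⁻¹ * (g * z * (g : G)⁻¹) * g' := by group
        _ = (g' : G)⁻¹ * (g' * z * (g' : G)⁻¹) * g' := by rw [e']
        _ = z := by group)
    exact Subtype.ext (inv_mul_eq_one.1 this).symm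
  have hb := hinj.bijective_of_nat_card_le (le_of_eq ((q.card_nontriv h).trans (q.cc_eq h).symm))
  obtain ⟨g, hg⟩ := hb.2 ⟨a, ha, ha1⟩
  exact ⟨g, g.2.1, congrArg Subtype.val hg⟩

theorem exists_far {z : G} (hz : z ∈ A0 A B S) (hz1 : z ≠ 1) : ∃ y, Far G A B A y ∧ z • y = y := by
  obtain ⟨a, ha, ha1, haD⟩ := q.far_fixed h h.farD
  obtain ⟨g, gA, e⟩ := q.conj_trans h ha ha1 hz hz1
  refine ⟨g • D, ?_, ?_⟩
  · have := (far_smul_iff (A := A) (B := B) g).2 h.farD
    rwa [gA] at this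
  · rw [← e, mul_smul, mul_smul, inv_smul_smul, haD]

omit q in
theorem kernel_class_two {e : G} (heA : e • A = A) (heB : e • B = B) (he : orderOf e = 3) {s u x : G}
    (hs : s ∈ Kf G A B A) (hu : u ∈ Kf G A B A) (hx : x ∈ Kf G A B A) :
    s * u * s⁻¹ * u⁻¹ * x = x * (s * u * s⁻¹ * u⁻¹) := by
  let f : ↥(Kf G A B A) → ↥(Kf G A B A) := fun k => ⟨e * (k : G) * e⁻¹, h.Kf_normal heA k.2⟩
  have hbij : Function.Bijective f := Finite.injective_iff_bijective.1 fun a b e' =>
    Subtype.ext (mul_left_cancel (mul_right_cancel (congrArg Subtype.val e')))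
  let α : MulAut ↥(Kf G A B A) := MulEquiv.mk (Equiv.ofBijective f hbij) fun a b => Subtype.ext
    (show e * ((a : G) * b) * e⁻¹ = e * a * e⁻¹ * (e * b * e⁻¹) by group)
  have hα : ∀ k : ↥(Kf G A B A), ((α k : ↥(Kf G A B A)) : G) = e * (k : G) * e⁻¹ := fun k => rfl
  have hpow : ∀ (n : ℕ) (k : ↥(Kf G A B A)), (((α ^ n) k : ↥(Kf G A B A)) : G) = e ^ n * (k : G) * (e ^ n)⁻¹ := by
    intro n
    induction n with
    | zero => intro k; simp
    | succ n ih =>
      intro k
      rw [pow_succ, MulAut.mul_apply, ih, hα, pow_succ]; group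
  have he1 : e ≠ 1 := fun e' => by rw [e', orderOf_one] at he; omega
  have hfpf : ∀ k : ↥(Kf G A B A), α k = k → k = 1 := by
    intro k hk
    by_contra hk1
    have h1 := congrArg Subtype.val hk
    rw [hα] at h1
    exact he1 (edge_free h ⟨heA, heB⟩ k.2 (fun e' => hk1 (Subtype.ext e')) h1)
  haveI : Fact (Nat.Prime 3) := ⟨Nat.prime_three⟩
  have hord : orderOf α = 3 := by
    refine orderOf_eq_prime (MulEquiv.ext fun k => Subtype.ext ?_) fun hα1 => ?_
    · rw [hpow, show e ^ 3 = 1 from he ▸ pow_orderOf_eq_one e]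
      show (1 : G) * k * 1⁻¹ = k
      group
    · obtain ⟨z, hz1⟩ : ∃ k : ↥(Kf G A B A), k ≠ 1 := by
        have hk := h.one_lt_kk
        rw [← h.card_Kf A] at hk
        haveI := Finite.one_lt_card_iff_nontrivial.1 hk
        exact exists_ne 1
      exact hz1 (hfpf z (by rw [hα1]; rfl))
  have h3 := (Cfsg.Agent.S3779.result (G := ↥(Kf G A B A)) Nat.prime_three α hord hfpf).2.1 rfl
  let sK : ↥(Kf G A B A) := ⟨s, hs⟩
  let uK : ↥(Kf G A B A) := ⟨u, hu⟩
  let xK : ↥(Kf G A B A) := ⟨x, hx⟩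
  have hmem : ⁅sK, uK⁆ ∈ (⊤ : Subgroup ↥(Kf G A B A)).lowerCentralSeries 1 := by
    rw [Subgroup.lowerCentralSeries_succ, Subgroup.lowerCentralSeries_zero]
    exact Subgroup.commutator_mem_commutator (Subgroup.mem_top _) (Subgroup.mem_top _)
  have h4 : ⁅⁅sK, uK⁆, xK⁆ = 1 := by
    rw [← Subgroup.mem_bot, ← h3, Subgroup.lowerCentralSeries_succ]
    exact Subgroup.commutator_mem_commutator hmem (Subgroup.mem_top _)
  exact congrArg Subtype.val (commutatorElement_eq_one_iff_mul_comm.1 h4)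

/-- A conjugate of an involution under the kernel differs from it by a central involution. -/
theorem conj_diff {s u : G} (hs : s ∈ Kf G A B A) (hu : u ∈ S) (hu2 : u * u = 1) :
    s * u * s⁻¹ * u ∈ A0 A B S := by
  haveI : Fact (Nat.Prime 3) := ⟨Nat.prime_three⟩
  obtain ⟨e, he⟩ := exists_prime_orderOf_dvd_card' 3
    (show 3 ∣ Nat.card ↥(stabilizer G A ⊓ stabilizer G B) by rw [← q.cc_eq h]; rfl)
  rw [← Subgroup.orderOf_coe] at he
  have hu' : u⁻¹ = u := inv_eq_of_mul_eq_one_right hu2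
  have hc : ∀ x ∈ Kf G A B A, s * u * s⁻¹ * u * x = x * (s * u * s⁻¹ * u) := fun x hx => by
    have := kernel_class_two h e.2.1 e.2.2 he hs (q.le hu) hx
    rwa [hu'] at this
  have hwS : s * u * s⁻¹ * u ∈ S := mul_mem (q.conj_mem h (h.Kf_fix hs) hu) hu
  refine ⟨hwS, q.le hwS, ?_, hc⟩
  have h1 := hc u (q.le hu)
  set w := s * u * s⁻¹ * u with hw
  calc w * w = w * w * (u * u) := by rw [hu2, mul_one]
    _ = w * (w * u) * u := by group
    _ = w * (u * w) * u := by rw [h1]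
    _ = (w * u) * (w * u) := by group
    _ = 1 := by
      rw [show w * u = s * u * s⁻¹ by rw [hw, mul_assoc, hu2, mul_one]]
      rw [show s * u * s⁻¹ * (s * u * s⁻¹) = s * (u * u) * s⁻¹ by group, hu2]; group

theorem kf_trans {z : G} (hz : z ∈ A0 A B S) (hz1 : z ≠ 1) {y y' : X} (hzy : z • y = y) (hy : y ≠ A)
    (hzy' : z • y' = y') (hy' : y' ≠ A) : ∃ s ∈ Kf G A B A, s • y = y' := by
  obtain ⟨g, gA, gy⟩ := h.far_trans (h.far_of_fix hz.2.1 hz1 hzy hy) (h.far_of_fix hz.2.1 hz1 hzy' hy')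
  refine ⟨g, h.cent_le hz.2.1 hz1 gA ?_, gy⟩
  by_contra hne
  refine hy' (q.fixer_unique h hz hz1 (q.A0_conj h gA hz)
    (fun e => hz1 (by rw [show z = g⁻¹ * (g * z * g⁻¹) * g by group, e]; group)) (fun e => hne ?_) hzy'
    (by rw [← gy, mul_smul, mul_smul, inv_smul_smul, hzy]))
  calc g * z = g * z * g⁻¹ * g := by group
    _ = z * g := by rw [← e]

theorem fix_or {z a u : G} (hz : z ∈ A0 A B S) (hz1 : z ≠ 1) (ha : a ∈ A0 A B S) (ha1 : a ≠ 1) (hne : z ≠ a)
    (hu : u ∈ S) (hu2 : u * u = 1) :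
    (∀ y : X, z • y = y → u • y = y) ∨ ∀ y : X, z • y = y → (a * u) • y = y := by
  classical
  haveI := Fintype.ofFinite X
  by_cases hu1 : u = 1
  · exact Or.inl fun y _ => by rw [hu1, one_smul]
  by_cases hua : u = a
  · exact Or.inr fun y _ => by rw [hua, ha.2.2.1, one_smul]
  have hBle : Subgroup.zpowers z ≤ A0 A B S := Subgroup.zpowers_le.2 hz
  have hBne : Subgroup.zpowers z ≠ ⊥ := by rwa [ne_eq, Subgroup.zpowers_eq_bot]
  have hiff : ∀ y : X, (∀ w ∈ Subgroup.zpowers z, w • y = y) ↔ z • y = y := fun y =>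
    ⟨fun e => e z (Subgroup.mem_zpowers z), fun e w hw => by
      obtain ⟨j, rfl⟩ := hw
      exact (Subgroup.zpowers_le.2 (show z ∈ stabilizer G y from e)) ⟨j, rfl⟩⟩
  have h4 := q.four_fix h _ hBle hBne ha.1 hu ha.2.2.1 ha1 hu2 hu1 (ha.2.2.2 u (q.le hu)) (Ne.symm hua)
  rw [q.card_fix_one h hBle (P := fun r => a • r = r ∧ u • r = r) ⟨h.Kf_fix ha.2.1, q.fixA hu h⟩
      (fun r hr e => q.fixer_unique h hz hz1 ha ha1 hne ((hiff r).1 hr) e.1),
    q.card_fix_one h hBle (P := fun r => a • r = r) (h.Kf_fix ha.2.1)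
      (fun r hr e => q.fixer_unique h hz hz1 ha ha1 hne ((hiff r).1 hr) e), one_pow, mul_one, one_mul] at h4
  simp only [hiff, Nat.card_eq_fintype_card, Fintype.card_subtype] at h4
  set Y := Finset.univ.filter fun r : X => z • r = r with hY
  set Fu := Finset.univ.filter fun r : X => z • r = r ∧ u • r = r with hFu
  set Fv := Finset.univ.filter fun r : X => z • r = r ∧ (a * u) • r = r with hFv
  have hsubu : Fu ⊆ Y := fun r hr => by
    simp only [hY, hFu, Finset.mem_filter, Finset.mem_univ, true_and] at hr ⊢; exact hr.1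
  have hsubv : Fv ⊆ Y := fun r hr => by
    simp only [hY, hFv, Finset.mem_filter, Finset.mem_univ, true_and] at hr ⊢; exact hr.1
  have hAu : A ∈ Fu := by simp [hFu, h.Kf_fix hz.2.1, q.fixA hu h]
  have hAv : A ∈ Fv := by simp [hFv, h.Kf_fix hz.2.1, mul_smul, q.fixA hu h, h.Kf_fix ha.2.1]
  have hallu : Y.card ≤ Fu.card → ∀ y : X, z • y = y → u • y = y := fun e y hy => by
    have : y ∈ Fu := Finset.eq_of_subset_of_card_le hsubu e ▸ (by simp [hY, hy])
    exact (Finset.mem_filter.1 this).2.2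
  have hallv : Y.card ≤ Fv.card → ∀ y : X, z • y = y → (a * u) • y = y := fun e y hy => by
    have : y ∈ Fv := Finset.eq_of_subset_of_card_le hsubv e ▸ (by simp [hY, hy])
    exact (Finset.mem_filter.1 this).2.2
  by_cases hone : Fu.card = 1
  · exact Or.inr (hallv (by rw [h4, hone, one_mul]))
  · refine Or.inl (hallu ?_)
    obtain ⟨y0, hy0, hy0A⟩ : ∃ y0 ∈ Fu, y0 ≠ A := by
      by_contra hc
      push Not at hc
      exact hone (Finset.card_eq_one.2 ⟨A, Finset.eq_singleton_iff_unique_mem.2 ⟨hAu, hc⟩⟩)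
    obtain ⟨hzy0, huy0⟩ := (Finset.mem_filter.1 hy0).2
    have hcov : Y ⊆ Fu ∪ Fv := by
      intro y hy
      simp only [hY, Finset.mem_filter, Finset.mem_univ, true_and] at hy
      simp only [hFu, hFv, Finset.mem_union, Finset.mem_filter, Finset.mem_univ, true_and]
      by_cases hyA : y = A
      · exact Or.inl ⟨hy, by rw [hyA, q.fixA hu h]⟩
      obtain ⟨s, hs, hsy⟩ := q.kf_trans h hz hz1 hzy0 hy0A hy hyA
      have hw := q.conj_diff h hs hu hu2
      have hfix : (s * u * s⁻¹ * u) • u • y = y := by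
        rw [← mul_smul, mul_assoc _ u u, hu2, mul_one, ← hsy, mul_smul, mul_smul, inv_smul_smul, huy0]
      have hzu : ∀ r : X, z • r = y → r = y := fun r e => MulAction.injective z (e.trans hy.symm)
      rcases q.rank_two h hz hz1 ha ha1 hne hw with e | e | e | e <;> rw [e] at hfix
      · exact Or.inl ⟨hy, by rwa [one_smul] at hfix⟩
      · exact Or.inl ⟨hy, hzu _ hfix⟩
      · exact Or.inr ⟨hy, by rwa [mul_smul]⟩
      · rw [mul_smul] at hfix
        exact Or.inr ⟨hy, by rw [mul_smul]; exact hzu _ hfix⟩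
    have hinterA : A ∈ Fu ∩ Fv := Finset.mem_inter.2 ⟨hAu, hAv⟩
    have hc1 := Finset.card_union_add_card_inter Fu Fv
    have hc2 := Finset.card_le_card hcov
    have hc3 := Finset.card_pos.2 ⟨A, hinterA⟩
    have hu2' : 2 ≤ Fu.card := Finset.one_lt_card.2 ⟨A, hAu, y0, hy0, hy0A.symm⟩
    have hv1 : 1 ≤ Fv.card := Finset.card_pos.2 ⟨A, hAv⟩
    rcases Nat.lt_or_ge Fv.card 2 with e | e
    · rw [h4, show Fv.card = 1 by omega, mul_one]
    · exfalso; nlinarith

theorem fix_two_trivial {z a u : G} (hz : z ∈ A0 A B S) (hz1 : z ≠ 1) (ha : a ∈ A0 A B S) (ha1 : a ≠ 1)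
    (hne : z ≠ a) (hu : u ∈ S) (hu2 : u * u = 1) (h1 : ∀ y : X, z • y = y → u • y = y)
    (h2 : ∀ y : X, a • y = y → u • y = y) : u = 1 := by
  obtain ⟨y1, hy1, e1⟩ := q.exists_far h hz hz1
  obtain ⟨y2, hy2, e2⟩ := q.exists_far h ha ha1
  have hone : ∀ w ∈ A0 A B S, w • y1 = y1 → w • y2 = y2 → w = 1 := by
    intro w hw w1 w2
    by_contra hw1
    by_cases hwz : w = z
    · exact hy2.1 (q.fixer_unique h hz hz1 ha ha1 hne (hwz ▸ w2) e2).symm
    · exact hy1.1 (q.fixer_unique h hw hw1 hz hz1 hwz w1 e1).symm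
  have hconj : ∀ (b : G), b ∈ A0 A B S → ∀ y : X, b • y = y → (∀ r : X, b • r = r → u • r = r) →
      ∀ s ∈ Kf G A B A, (s * u * s⁻¹ * u) • y = y := by
    intro b hb y hby hall s hs
    have hb' : b • (s⁻¹ • y) = s⁻¹ • y := by
      rw [← mul_smul, (show Commute b s from hb.2.2.2 s hs).inv_right.eq, mul_smul, hby]
    rw [mul_smul, hall y hby, mul_smul, mul_smul, hall _ hb', smul_inv_smul]
  have hcomm : ∀ s ∈ Kf G A B A, u * s = s * u := by
    intro s hs
    have hw := hone _ (q.conj_diff h hs hu hu2) (hconj z hz y1 e1 h1 s hs) (hconj a ha y2 e2 h2 s hs)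
    calc u * s = s * u * s⁻¹ * u * (u * s) := by rw [hw, one_mul]
      _ = s * u * s⁻¹ * (u * u) * s := by group
      _ = s * u := by rw [hu2]; group
  exact hone u ⟨hu, q.le hu, hu2, hcomm⟩ (h1 y1 e1) (h2 y2 e2)

/-- All involutions of the stabilizer of `A` are central in the kernel. -/
theorem invol_A0 {u : G} (hu2 : u * u = 1) (hA : u • A = A) : u ∈ A0 A B S := by
  have hu : u ∈ S := q.contains u hA ⟨1, by rw [pow_one, pow_two, hu2]⟩
  obtain ⟨z, hz, hz1⟩ := q.exists_A0 h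
  obtain ⟨a, ha, ha1, hne⟩ := q.A0_not_unique h hz hz1
  set c := z * a with hc
  have hcm : c ∈ A0 A B S := mul_mem hz ha
  have hc1 : c ≠ 1 := fun e => hne (by rw [← one_mul a, ← hz.2.2.1, mul_assoc, ← hc, e, mul_one])
  have hcz : z ≠ c := fun e' => ha1 (mul_left_cancel ((mul_one z).trans e')).symm
  have hca : a ≠ c := fun e' => hz1 (mul_right_cancel ((one_mul a).trans e')).symm
  have hmul : ∀ {b : G}, b ∈ A0 A B S → b * u ∈ S ∧ b * u * (b * u) = 1 := fun {b} hb => by
    refine ⟨mul_mem hb.1 hu, ?_⟩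
    calc b * u * (b * u) = b * (u * b) * u := by group
      _ = b * b * (u * u) := by rw [← hb.2.2.2 u (q.le hu)]; group
      _ = 1 := by rw [hb.2.2.1, hu2, one_mul]
  have hback : ∀ {b : G}, b ∈ A0 A B S → b * u = 1 → u ∈ A0 A B S := fun {b} hb e => by
    rw [show u = b⁻¹ * (b * u) by group, e, mul_one]; exact inv_mem hb
  have happly : ∀ {b v : G} {P : X → Prop}, (∀ y, P y → b • y = y) → (∀ y, P y → v • y = y) →
      ∀ y, P y → (b * v) • y = y := fun {b v P} h1 h2 y hy => by rw [mul_smul, h2 y hy, h1 y hy]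
  rcases q.fix_or h hz hz1 hcm hc1 hcz hu hu2 with e1 | e1 <;>
    rcases q.fix_or h ha ha1 hcm hc1 hca hu hu2 with e2 | e2
  · rw [q.fix_two_trivial h hz hz1 ha ha1 hne.symm hu hu2 e1 e2]; exact one_mem _
  · rcases q.fix_or h hcm hc1 hz hz1 hcz.symm hu hu2 with e3 | e3
    · rw [q.fix_two_trivial h hz hz1 hcm hc1 hcz hu hu2 e1 e3]; exact one_mem _
    · exact hback hz (q.fix_two_trivial h hz hz1 hcm hc1 hcz (hmul hz).1 (hmul hz).2
        (happly (fun y hy => hy) e1) e3)
  · rcases q.fix_or h hcm hc1 ha ha1 hca.symm hu hu2 with e3 | e3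
    · rw [q.fix_two_trivial h ha ha1 hcm hc1 hca hu hu2 e2 e3]; exact one_mem _
    · exact hback ha (q.fix_two_trivial h ha ha1 hcm hc1 hca (hmul ha).1 (hmul ha).2
        (happly (fun y hy => hy) e2) e3)
  · exact hback hcm (q.fix_two_trivial h hz hz1 ha ha1 hne.symm (hmul hcm).1 (hmul hcm).2 e1 e2)

/-- The edge stabilizer has even order. -/
theorem absurd_odd : False := by
  classical
  haveI := Fintype.ofFinite X
  haveI := Fintype.ofFinite G
  set T : Set G := {u : G | u * u = 1 ∧ u ≠ 1} with hTdef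
  have hT : ∀ g : G, ∀ u ∈ T, g * u * g⁻¹ ∈ T := by
    rintro g u ⟨h1, h2⟩
    exact ⟨by rw [show g * u * g⁻¹ * (g * u * g⁻¹) = g * (u * u) * g⁻¹ by group, h1]; group,
      fun e => h2 (by rw [show u = g⁻¹ * (g * u * g⁻¹) * g by group, e]; group)⟩
  obtain ⟨z, hz, hz1⟩ := q.exists_A0 h
  have hfconj : ∀ g x : G, fixN G X (g * x * g⁻¹) = fixN G X x := fun g x => by
    refine (Nat.card_congr ((MulAction.toPerm g).subtypeEquiv fun y => ?_)).symm
    show x • y = y ↔ (g * x * g⁻¹) • (g • y) = g • y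
    rw [mul_smul, mul_smul, inv_smul_smul, (MulAction.injective g).eq_iff]
  have hfix : ∀ u ∈ T, Nat.card {y : X // u • y = y} = fixN G X z := by
    rintro u ⟨u1, u2⟩
    obtain ⟨y, hy⟩ := q.invol_fix h u1
    obtain ⟨g, rfl⟩ := h.exists_smul A y
    obtain ⟨h1, h2⟩ := hT g⁻¹ u ⟨u1, u2⟩
    have hm := q.invol_A0 h h1 (by rw [inv_inv, mul_smul, mul_smul, hy, inv_smul_smul])
    obtain ⟨g', -, e⟩ := q.conj_trans h hz hz1 hm h2
    have := hfconj g' z
    rw [e, hfconj] at this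
    exact this
  have hTA : Nat.card {u : G // u ∈ T ∧ u • A = A} = 3 := by
    rw [← q.card_nontriv h]
    exact Nat.card_congr (Equiv.subtypeEquivRight fun u =>
      ⟨fun hu => ⟨q.invol_A0 h hu.1.1 hu.2, hu.1.2⟩, fun hu => ⟨⟨hu.1.2.2.1, hu.2⟩, h.Kf_fix hu.1.2.1⟩⟩)
  -- the points fixed by a central involution
  set Jz := Finset.univ.filter fun y : X => y ≠ A ∧ z • y = y with hJz
  set h0 := Jz.card with hh0
  have hN : fixN G X z = h0 + 1 := by
    rw [fixN, Nat.card_eq_fintype_card, Fintype.card_subtype,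
      show (Finset.univ.filter fun y : X => z • y = y) = insert A Jz by
        ext y
        simp only [hJz, Finset.mem_filter, Finset.mem_univ, true_and, Finset.mem_insert]
        refine ⟨fun e => (em (y = A)).imp id fun e' => ⟨e', e⟩, ?_⟩
        rintro (rfl | e)
        · exact h.Kf_fix hz.2.1
        · exact e.2,
      Finset.card_insert_of_notMem (by simp [hJz])]
  obtain ⟨y0, hy0, ezy0⟩ := q.exists_far h hz hz1
  have hy0J : y0 ∈ Jz := by simp [hJz, ezy0, hy0.1.symm]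
  have hh0pos : 0 < h0 := Finset.card_pos.2 ⟨y0, hy0J⟩
  have hk : h0 ∣ kk G A B := by
    rw [← h.card_Kf A, ← Nat.card_congr (orbitProdStabilizerEquivGroup ↥(Kf G A B A) y0), Nat.card_prod]
    refine Dvd.intro _ (congrArg₂ (· * ·) ?_ rfl)
    rw [hh0, ← Fintype.card_subtype, ← Nat.card_eq_fintype_card]
    refine Nat.card_congr (Equiv.subtypeEquivRight fun y => ?_)
    constructor
    · rintro ⟨hy, ezy⟩
      obtain ⟨s, hs, e⟩ := q.kf_trans h hz hz1 ezy0 hy0.1.symm ezy hy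
      exact ⟨⟨s, hs⟩, e⟩
    · rintro ⟨s, rfl⟩
      refine ⟨fun e => hy0.1.symm (MulAction.injective (s : G) (e.trans (h.Kf_fix s.2).symm)), ?_⟩
      show z • (s : G) • y0 = (s : G) • y0
      rw [← mul_smul, hz.2.2.2 _ s.2, mul_smul, ezy0]
  have hl : ll G A B = 3 * h0 := by
    set W := Finset.univ.filter fun w : G => w ∈ A0 A B S ∧ w ≠ 1 with hW
    set J := Finset.univ.filter fun y : X => Far G A B A y with hJ
    have hWc : W.card = 3 := by
      rw [← q.card_nontriv h]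
      show _ = Nat.card {w : G // w ∈ A0 A B S ∧ w ≠ 1}
      rw [Nat.card_eq_fintype_card, Fintype.card_subtype]
    have h1 : ∀ w ∈ W, (J.filter fun y => w • y = y).card = h0 := by
      intro w hw
      obtain ⟨hw, hw1⟩ := (Finset.mem_filter.1 hw).2
      obtain ⟨g, gA, e⟩ := q.conj_trans h hz hz1 hw hw1
      rw [hh0, hJz, hJ, Finset.filter_filter, ← Fintype.card_subtype, ← Fintype.card_subtype,
        ← Nat.card_eq_fintype_card, ← Nat.card_eq_fintype_card]
      refine (Nat.card_congr ((MulAction.toPerm g).subtypeEquiv fun y => ?_)).symm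
      show (y ≠ A ∧ z • y = y) ↔ Far G A B A (g • y) ∧ w • g • y = g • y
      rw [← e, mul_smul, mul_smul, inv_smul_smul, (MulAction.injective g).eq_iff]
      refine and_congr_left fun ezy => ⟨fun hne => ?_, fun hf e' => hf.1 (by rw [e', gA])⟩
      have := (far_smul_iff (A := A) (B := B) g).2 (h.far_of_fix hz.2.1 hz1 ezy hne)
      rwa [gA] at this
    have h2 : ∀ y ∈ J, (W.filter fun w => w • y = y).card = 1 := by
      intro y hy
      have hy' := (Finset.mem_filter.1 hy).2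
      obtain ⟨w, hw, hw1, hwy⟩ := q.far_fixed h hy'
      refine Finset.card_eq_one.2 ⟨w, Finset.eq_singleton_iff_unique_mem.2 ⟨by simp [hW, hw, hw1, hwy], ?_⟩⟩
      intro w' hw'
      simp only [hW, Finset.mem_filter, Finset.mem_univ, true_and] at hw'
      by_contra hne
      exact hy'.1 (q.fixer_unique h hw'.1.1 hw'.1.2 hw hw1 hne hw'.2 hwy).symm
    have := Finset.sum_card_bipartiteAbove_eq_sum_card_bipartiteBelow (fun (w : G) (y : X) => w • y = y)
      (s := W) (t := J)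
    simp only [Finset.bipartiteAbove, Finset.bipartiteBelow] at this
    rw [Finset.sum_const_nat (m := h0) h1, Finset.sum_const_nat (m := 1) h2, hWc, mul_one] at this
    rw [this, ll, Nat.card_eq_fintype_card, Fintype.card_subtype]
  have hev : Even h0 := by
    have hodd := q.oddX
    have hkev := h.even_kk (by rw [q.cc_eq h]; decide)
    rw [h.card_X, hl] at hodd
    obtain ⟨i, hi⟩ := hkev
    obtain ⟨j, hj⟩ := hodd
    rw [even_iff_two_dvd]
    omega
  -- an involution interchanging the edge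
  have hqpos : 0 < Nat.card {u : G // u ∈ T ∧ u • A = B} := by
    obtain ⟨g, gA, gB⟩ := h.adj_swap (Adj.base (G := G) (A := A) (B := B))
    have hmem : g ^ 2 ∈ stabilizer G A ⊓ stabilizer G B := by
      rw [pow_two]
      exact ⟨by show (g * g) • A = A; rw [mul_smul, gA, gB], by show (g * g) • B = B; rw [mul_smul, gB, gA]⟩
    have hc : (g ^ 2) ^ 3 = 1 := by
      have hdvd := Subgroup.orderOf_dvd_natCard _ hmem
      rw [show Nat.card ↥(stabilizer G A ⊓ stabilizer G B) = 3 from q.cc_eq h] at hdvd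
      exact orderOf_dvd_iff_pow_eq_one.1 hdvd
    have e : (g ^ 3) • A = B := by
      rw [show g ^ 3 = g * (g * g) by rw [pow_succ' g 2, pow_two], mul_smul, mul_smul, gA, gB, gA]
    exact Nat.card_pos_iff.2 ⟨⟨⟨g ^ 3, ⟨by rw [← pow_add, show 3 + 3 = 2 * 3 from rfl, pow_mul, hc],
      fun e' => h.ne (by rw [← e, e', one_smul])⟩, e⟩⟩, inferInstance⟩
  obtain ⟨e0, f0, hf1, hlam, hkk, hmu, hld, -, hd, -⟩ := h.params
  rw [q.cc_eq h] at hkk hld hlam
  have h1 := h.fix_count hT hfix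
  rw [h.set_count hT, hTA, hN, hl, h.card_X, hl] at h1
  set q1 := Nat.card {u : G // u ∈ T ∧ u • A = B} with hq1
  set q2 := Nat.card {u : G // u ∈ T ∧ u • A = D} with hq2
  have hkpos := h.one_lt_kk
  rcases Nat.eq_zero_or_pos q2 with e2 | e2
  · rw [e2, mul_zero, add_zero] at h1
    obtain ⟨j, hj⟩ := hk
    obtain ⟨i, hi⟩ := hev
    rw [hj] at h1 hkk hld hkpos
    have hsix : h0 * (j * (q1 * (h0 + 1))) = h0 * (j * 3 + 6) := by linarith
    have h6 : j * (q1 * (h0 + 1)) = j * 3 + 6 := Nat.eq_of_mul_eq_mul_left hh0pos hsix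
    have hj6 : j ∣ 6 := (Nat.dvd_add_right (dvd_mul_right j 3)).1 (h6 ▸ dvd_mul_right j _)
    have hjle := Nat.le_of_dvd (by norm_num) hj6
    have hj1 : 1 ≤ j := Nat.pos_of_ne_zero fun e => by rw [e, zero_mul] at h6; omega
    have hh9 : h0 + 1 ≤ 9 := by
      by_contra hc'
      have h7 : j * 10 ≤ j * (q1 * (h0 + 1)) := Nat.mul_le_mul_left _
        ((show 10 ≤ 1 * (h0 + 1) by omega).trans (Nat.mul_le_mul_right _ hqpos))
      omega
    obtain ⟨rfl, rfl⟩ : j = 2 ∧ i = 1 := by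
      have hi4 : i ≤ 4 := by omega
      have hi1 : 1 ≤ i := by omega
      rw [hi] at h6 hkk hkpos
      interval_cases j <;> interval_cases i <;> omega
    -- the parameters (4, 6)
    have hk4 : kk G A B = 4 := by rw [hj, hi]
    rw [hi] at hkk hld
    rw [show ll G A B = 6 by rw [hl, hi]] at hld
    rw [show e0 = 0 by omega, mul_zero] at hlam
    rw [show f0 = 1 by omega, mul_one, show dd G A D = 2 by omega] at hmu
    rcases h.square_or with ⟨E, hE0, hE⟩ | hz'
    · simp only [disc, hlam, hmu, hk4] at hE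
      norm_num at hE
      have : E < 4 := by nlinarith
      interval_cases E <;> omega
    · rw [h.card_X, hl, hlam, hmu, hk4, hi] at hz'
      omega
  · have hh2 : 2 ≤ h0 := by obtain ⟨i, hi⟩ := hev; omega
    have h5 : kk G A B * 3 ≤ kk G A B * q1 * (h0 + 1) := by
      rw [mul_assoc]
      exact Nat.mul_le_mul_left _ ((show 3 ≤ 1 * (h0 + 1) by omega).trans (Nat.mul_le_mul_right _ hqpos))
    have h6 : 3 * h0 * 3 ≤ 3 * h0 * q2 * (h0 + 1) := by
      rw [mul_assoc _ q2]
      exact Nat.mul_le_mul_left _ ((show 3 ≤ 1 * (h0 + 1) by omega).trans (Nat.mul_le_mul_right _ e2))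
    linarith

end OddPack

end Cfsg.Agent.Perm.RankThreeFrob
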