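import Cfsg.Agent.Lib.Perm.RankThreeFrob.OddBase
import Cfsg.Agent.S3289
import Cfsg.Agent.S1220

/-!
The stabilizer of an edge has odd order: some central involution fixes a second point, the central involutions
fixing a nonadjacent point form a subgroup of index two, and there are three of them.
-/

set_option autoImplicit false
set_option linter.unusedSectionVars false
set_option linter.style.haveILetI false

namespace Cfsg.Agent.Perm.RankThreeFrob

open MulAction

universe u v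

theorem quaternion_invol {m : ℕ} [NeZero m] {x : QuaternionGroup m} (hx : x ^ 2 = 1) :
    x = 1 ∨ x = QuaternionGroup.a (m : ZMod (2 * m)) := by
  cases x with
  | a i =>
    rw [pow_two, QuaternionGroup.a_mul_a, QuaternionGroup.one_def] at hx
    have h2 : i + i = 0 := QuaternionGroup.a.inj hx
    have h3 := congrArg ZMod.val h2
    rw [ZMod.val_add, ZMod.val_zero] at h3
    have h4 := ZMod.val_lt i
    have h5 : i.val = 0 ∨ i.val = m := by
      obtain ⟨c, hc⟩ := Nat.dvd_of_mod_eq_zero h3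
      rcases c with _ | _ | c
      · left; omega
      · right; omega
      · exfalso; nlinarith
    rcases h5 with e | e
    · left
      rw [QuaternionGroup.one_def]
      congr 1
      exact (ZMod.val_eq_zero i).1 e
    · right
      congr 1
      exact ((ZMod.natCast_zmod_val i).symm.trans (congrArg Nat.cast e))
  | xa i =>
    exfalso
    have h1 := QuaternionGroup.orderOf_xa (n := m) i
    have h2 := orderOf_dvd_of_pow_eq_one hx
    rw [h1] at h2
    norm_num at h2

theorem cyclic_invol {L : Type u} [Group L] [Finite L] [IsCyclic L] {x y : L} (hx : x ^ 2 = 1) (hx1 : x ≠ 1)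
    (hy : y ^ 2 = 1) (hy1 : y ≠ 1) : x = y := by
  classical
  haveI := Fintype.ofFinite L
  by_contra hne
  have hle := IsCyclic.card_pow_eq_one_le (α := L) (n := 2) two_pos
  have hsub : ({1, x, y} : Finset L) ⊆ Finset.univ.filter fun a : L => a ^ 2 = 1 := by
    intro z hz
    simp only [Finset.mem_insert, Finset.mem_singleton] at hz
    rcases hz with rfl | rfl | rfl <;> simp [hx, hy]
  have := (Finset.card_le_card hsub).trans hle
  rw [Finset.card_insert_of_notMem (by simp [hx1.symm, hy1.symm]), Finset.card_pair hne] at this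
  omega

variable {G : Type u} [Group G] {X : Type v} [MulAction G X] [Finite G] [Finite X] [FaithfulSMul G X]
  {A B D : X}

namespace OddPack

variable (h : Setup G A B D) {S : Subgroup G} (q : OddPack A B S)
include h q

omit q in
theorem exists_outside : ∃ g : G, g • A = A ∧ g ∉ Kf G A B A := by
  by_contra hne
  push Not at hne
  have h1 : stabilizer G A ≤ Kf G A B A := fun g hg => hne g hg
  have h2 := Subgroup.card_le_of_le h1
  rw [h.card_stab, h.card_Kf A] at h2
  have h3 := h.one_lt_kk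
  obtain ⟨-, -, -, -, -, -, -, hc2, -, -⟩ := h.params
  nlinarith

/-- A central involution is not normalized by the whole stabilizer. -/
theorem A0_not_unique {z : G} (hz : z ∈ A0 A B S) (hz1 : z ≠ 1) :
    ∃ z' ∈ A0 A B S, z' ≠ 1 ∧ z' ≠ z := by
  obtain ⟨g, hg, hgK⟩ := exists_outside (D := D) h
  refine ⟨g * z * g⁻¹, q.A0_conj h hg hz, fun e => hz1 ?_, fun e => hgK ?_⟩
  · rw [show z = g⁻¹ * (g * z * g⁻¹) * g by group, e]; group
  · refine h.cent_le hz.2.1 hz1 hg ?_
    calc g * z = g * z * g⁻¹ * g := by group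
      _ = z * g := by rw [e]

/-- Some central involution fixes a second point. -/
theorem exists_fix_far : ∃ z ∈ A0 A B S, z ≠ 1 ∧ ∃ y, y ≠ A ∧ z • y = y := by
  classical
  by_contra hno
  push Not at hno
  obtain ⟨T, hT⟩ := q.sylow
  obtain ⟨z, hz, hz1⟩ := q.exists_A0 h
  set A' := A0 A B S with hA'
  have hne : A' ≠ ⊥ := fun e => hz1 (by rw [e, Subgroup.mem_bot] at hz; exact hz)
  have hfix : ∀ x ∈ A', x ≠ 1 → ∀ y, x • y = y → y = A := fun x hx hx1 y hy => by
    by_contra hy'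
    exact hno x hx hx1 y hy' hy
  have homega : Cfsg.omegaOne 2 A' = A' := by
    refine le_antisymm ((Subgroup.closure_le _).2 fun x hx => hx.1) fun x hx => Subgroup.subset_closure ⟨hx, ?_⟩
    rw [pow_two]; exact hx.2.2.1
  have hH : stabilizer G A ≠ ⊤ := by
    intro e
    obtain ⟨g, hg⟩ := h.exists_smul A B
    have hgA : g • A = A := show g ∈ stabilizer G A by rw [e]; trivial
    exact h.ne (hg.symm.trans hgA)
  obtain ⟨hse, -, -⟩ := Cfsg.Agent.S3289.result T A' hne
    ⟨fun x hx => hT ▸ hx.1, fun x hx g hg => by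
      by_cases hx1 : x = 1
      · rw [hx1, mul_one, mul_inv_cancel]; exact one_mem _
      have h1 : (g * x * g⁻¹) • A = A := h.Kf_fix (q.le (hT ▸ hg))
      rw [mul_smul, mul_smul, smul_eq_iff_eq_inv_smul] at h1
      exact q.A0_conj h (smul_eq_iff_eq_inv_smul g |>.2 (hfix x hx hx1 _ h1).symm) hx⟩
    (stabilizer G A) hH
    (fun s hs hs1 g hg => hfix s hs hs1 _ (by
      rw [← mul_smul, ← Subgroup.mem_centralizer_singleton_iff.1 hg, mul_smul, h.Kf_fix hs.2.1]))
    (by
      rw [homega]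
      intro g hg
      refine q.A0_fix_only h fun x hx => ?_
      have h1 := h.Kf_fix ((Subgroup.mem_normalizer_iff''.1 hg x).1 hx).2.1
      rw [mul_smul, mul_smul, inv_smul_eq_iff] at h1
      exact h1)
  set L := Subgroup.normalClosure (A' : Set G) with hL
  have hLne : L ≠ ⊥ := fun e => hz1 (by
    have : z ∈ L := Subgroup.subset_normalClosure hz
    rw [e, Subgroup.mem_bot] at this; exact this)
  set HL : Subgroup ↥L := (stabilizer G A ⊓ L).subgroupOf L with hHL
  have hmemHL : ∀ g : ↥L, g ∈ HL ↔ (g : G) • A = A := fun g => by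
    rw [hHL, Subgroup.mem_subgroupOf, Subgroup.mem_inf, mem_stabilizer_iff]
    exact ⟨fun e => e.1, fun e => ⟨e, g.2⟩⟩
  rcases Cfsg.Agent.S1220.result HL hse with hd | ⟨hcyc, -⟩
  · obtain ⟨g1, hg1, e1⟩ := h.normal_transitive L hLne A B
    obtain ⟨g2, hg2, e2⟩ := h.normal_transitive L hLne A D
    obtain ⟨x, hx, hx'⟩ := hd ⟨g1, hg1⟩ ⟨g2, hg2⟩ (fun e => h.ne (e1.symm.trans ((hmemHL _).1 e)))
      (fun e => h.farD.1 (e2.symm.trans ((hmemHL _).1 e)).symm)
    have hxA := (hmemHL x).1 hx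
    have h2 := (hmemHL _).1 hx'
    rw [Subgroup.coe_mul, Subgroup.coe_mul, Subgroup.coe_inv, mul_smul, mul_smul, inv_smul_eq_iff, e1, e2] at h2
    have h3 := (Adj.base (G := G) (A := A) (B := B)).smul (x : G)
    rw [hxA, h2] at h3
    exact h.farD.2 h3
  · haveI : Fact (Nat.Prime 2) := ⟨Nat.prime_two⟩
    have hA'L : A' ≤ L := fun x hx => Subgroup.subset_normalClosure hx
    have hp : IsPGroup 2 ↥(A'.subgroupOf L) :=
      (q.isP.to_le (show A' ≤ S from A0_le)).of_equiv (Subgroup.subgroupOfEquivOfLe hA'L).symm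
    obtain ⟨P, hP⟩ := hp.exists_le_sylow
    obtain ⟨z', hz', hz'1, hne'⟩ := q.A0_not_unique h hz hz1
    let a : ↥(P : Subgroup ↥L) := ⟨⟨z, hA'L hz⟩, hP hz⟩
    let b : ↥(P : Subgroup ↥L) := ⟨⟨z', hA'L hz'⟩, hP hz'⟩
    have ha : a ^ 2 = 1 := Subtype.ext (Subtype.ext (show z ^ 2 = 1 by rw [pow_two]; exact hz.2.2.1))
    have hb : b ^ 2 = 1 := Subtype.ext (Subtype.ext (show z' ^ 2 = 1 by rw [pow_two]; exact hz'.2.2.1))
    have ha1 : a ≠ 1 := fun e => hz1 (congrArg (fun w : ↥(P : Subgroup ↥L) => ((w : ↥L) : G)) e)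
    have hb1 : b ≠ 1 := fun e => hz'1 (congrArg (fun w : ↥(P : Subgroup ↥L) => ((w : ↥L) : G)) e)
    have hab : a ≠ b := fun e => hne' (congrArg (fun w : ↥(P : Subgroup ↥L) => ((w : ↥L) : G)) e).symm
    rcases hcyc P with hc | ⟨m, -, ⟨e⟩⟩
    · haveI := hc
      exact hab (cyclic_invol ha ha1 hb hb1)
    · haveI : NeZero (2 ^ m) := ⟨by positivity⟩
      have h1 := (quaternion_invol (show e a ^ 2 = 1 by rw [← map_pow, ha, map_one])).resolve_left
        (fun e' => ha1 (e.injective (e'.trans (map_one e).symm)))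
      have h2 := (quaternion_invol (show e b ^ 2 = 1 by rw [← map_pow, hb, map_one])).resolve_left
        (fun e' => hb1 (e.injective (e'.trans (map_one e).symm)))
      exact hab (e.injective (h1.trans h2.symm))

/-- Every nonadjacent point is fixed by some central involution. -/
theorem far_fixed {y : X} (hy : Far G A B A y) : ∃ z ∈ A0 A B S, z ≠ 1 ∧ z • y = y := by
  obtain ⟨z, hz, hz1, y0, hy0, hzy⟩ := q.exists_fix_far h
  obtain ⟨g, gA, gy⟩ := h.far_trans (h.far_of_fix hz.2.1 hz1 hzy hy0) hy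
  refine ⟨g * z * g⁻¹, q.A0_conj h gA hz, fun e => hz1 ?_, ?_⟩
  · rw [show z = g⁻¹ * (g * z * g⁻¹) * g by group, e]; group
  · rw [← gy, mul_smul, mul_smul, inv_smul_smul, hzy]

/-- The count of a centralizer in a core by fixed points. -/
theorem core_card {Bs N : Subgroup G} (hNB : ∀ n ∈ N, ∀ b ∈ Bs, n * b = b * n)
    (hBfix : ∀ b ∈ Bs, b • A = A)
    (hcentA : ∀ n ∈ N, n • A = A → ∀ u ∈ S, n * u = u * n)
    (hex : ∀ y : X, (∀ b ∈ Bs, b • y = y) → ∃ g ∈ N, g • A = y ∧ ∀ u ∈ S, u • y = y → g * u = u * g)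
    (U : Set G) (hU : U ⊆ S) :
    Nat.card ↥(N ⊓ Subgroup.centralizer U) =
      Nat.card {y : X // (∀ b ∈ Bs, b • y = y) ∧ ∀ u ∈ U, u • y = y} * Nat.card ↥(N ⊓ stabilizer G A) := by
  choose g hgN hgA hgc using hex
  rw [← Nat.card_prod]
  refine (Nat.card_congr (Equiv.ofBijective
    (fun w : {y : X // (∀ b ∈ Bs, b • y = y) ∧ ∀ u ∈ U, u • y = y} × ↥(N ⊓ stabilizer G A) =>
      (⟨g w.1 w.1.2.1 * w.2, mul_mem (hgN _ _) w.2.2.1, ?_⟩ : ↥(N ⊓ Subgroup.centralizer U))) ⟨?_, ?_⟩)).symm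
  · refine Subgroup.mem_centralizer_iff.2 fun u hu => ?_
    exact (Commute.mul_left (hgc w.1 w.1.2.1 u (hU hu) (w.1.2.2 u hu))
      (hcentA _ w.2.2.1 w.2.2.2 u (hU hu))).symm
  · rintro ⟨⟨y, hy⟩, r⟩ ⟨⟨y', hy'⟩, r'⟩ e
    have e' : g y hy.1 * (r : G) = g y' hy'.1 * r' := congrArg Subtype.val e
    have hyy : y = y' := by
      have := congrArg (fun w : G => w • A) e'
      simp only [mul_smul] at this
      rwa [show (r : G) • A = A from r.2.2, show (r' : G) • A = A from r'.2.2, hgA, hgA] at this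
    subst hyy
    exact Prod.ext rfl (Subtype.ext (mul_left_cancel e'))
  · rintro ⟨n, hn, hnU⟩
    have hB' : ∀ b ∈ Bs, b • (n • A) = n • A := fun b hb => by
      rw [← mul_smul, ← hNB n hn b hb, mul_smul, hBfix b hb]
    have hU' : ∀ u ∈ U, u • (n • A) = n • A := fun u hu => by
      rw [← mul_smul, Subgroup.mem_centralizer_iff.1 hnU u hu, mul_smul, q.fixA (hU hu) h]
    refine ⟨(⟨n • A, hB', hU'⟩, ⟨(g _ hB')⁻¹ * n, show (g _ hB')⁻¹ * n ∈ N from mul_mem (inv_mem (hgN _ _)) hn, ?_⟩), Subtype.ext ?_⟩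
    · show ((g _ hB')⁻¹ * n) • A = A
      rw [mul_smul, inv_smul_eq_iff, hgA]
    · show g _ hB' * ((g _ hB')⁻¹ * n) = n
      rw [mul_inv_cancel_left]

/-- The fixed point formula of a four group on the common fixed points of some central involutions. -/
theorem four_fix (Bs : Subgroup G) (hB : Bs ≤ A0 A B S) (hne : Bs ≠ ⊥) {a b : G} (ha : a ∈ S) (hb : b ∈ S)
    (ha2 : a * a = 1) (ha1 : a ≠ 1) (hb2 : b * b = 1) (hb1 : b ≠ 1) (hab : a * b = b * a) (hne' : a ≠ b) :
    Nat.card {y : X // ∀ z ∈ Bs, z • y = y} *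
        Nat.card {y : X // (∀ z ∈ Bs, z • y = y) ∧ a • y = y ∧ b • y = y} ^ 2 =
      Nat.card {y : X // (∀ z ∈ Bs, z • y = y) ∧ a • y = y} *
        Nat.card {y : X // (∀ z ∈ Bs, z • y = y) ∧ b • y = y} *
        Nat.card {y : X // (∀ z ∈ Bs, z • y = y) ∧ (a * b) • y = y} := by
  classical
  haveI := Fintype.ofFinite G
  obtain ⟨N, hodd, hNB, hnorm, hcentA, hex⟩ := q.exists_core h Bs hB hne
  have key := fun U hU => q.core_card h hNB (fun z hz => h.Kf_fix (hB hz).2.1) hcentA hex U hU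
  have h4 := Cfsg.Agent.Block.ThreeP.four_count N hodd (orderOf_eq_prime (by rw [pow_two, ha2]) ha1)
    (orderOf_eq_prime (by rw [pow_two, hb2]) hb1) hab hne' (hnorm a ha) (hnorm b hb)
  have e0 : Nat.card N = Nat.card {y : X // ∀ z ∈ Bs, z • y = y} * Nat.card ↥(N ⊓ stabilizer G A) := by
    have := key ∅ (Set.empty_subset _)
    rw [show N ⊓ Subgroup.centralizer (∅ : Set G) = N from inf_eq_left.2 fun n _ =>
      Subgroup.mem_centralizer_iff.2 fun u hu => absurd hu (Set.notMem_empty u)] at this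
    rw [this]
    congr 1
    exact Nat.card_congr (Equiv.subtypeEquivRight fun y => ⟨fun e => e.1, fun e => ⟨e, fun u hu => absurd hu (Set.notMem_empty u)⟩⟩)
  have e1 : ∀ u ∈ S, Nat.card ↥(N ⊓ Subgroup.centralizer ({u} : Set G)) =
      Nat.card {y : X // (∀ z ∈ Bs, z • y = y) ∧ u • y = y} * Nat.card ↥(N ⊓ stabilizer G A) := fun u hu => by
    rw [key {u} (Set.singleton_subset_iff.2 hu)]
    congr 1
    exact Nat.card_congr (Equiv.subtypeEquivRight fun y =>
      and_congr_right fun _ => ⟨fun e => e u rfl, fun e w hw => by rw [Set.mem_singleton_iff.1 hw]; exact e⟩)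
  have e2 : Nat.card ↥(N ⊓ Subgroup.centralizer ({a} : Set G) ⊓ Subgroup.centralizer ({b} : Set G)) =
      Nat.card {y : X // (∀ z ∈ Bs, z • y = y) ∧ a • y = y ∧ b • y = y} *
        Nat.card ↥(N ⊓ stabilizer G A) := by
    have hset : N ⊓ Subgroup.centralizer ({a} : Set G) ⊓ Subgroup.centralizer ({b} : Set G) =
        N ⊓ Subgroup.centralizer ({a, b} : Set G) := by
      ext n
      simp only [Subgroup.mem_inf, Subgroup.mem_centralizer_iff, Set.mem_insert_iff, Set.mem_singleton_iff]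
      exact ⟨fun e => ⟨e.1.1, fun w hw => by
        rcases hw with rfl | rfl
        · exact e.1.2 _ rfl
        · exact e.2 _ rfl⟩, fun e => ⟨⟨e.1, fun w hw => e.2 w (Or.inl hw)⟩, fun w hw => e.2 w (Or.inr hw)⟩⟩
    rw [hset, key {a, b} (Set.insert_subset_iff.2 ⟨ha, Set.singleton_subset_iff.2 hb⟩)]
    congr 1
    exact Nat.card_congr (Equiv.subtypeEquivRight fun y => and_congr_right fun _ =>
      ⟨fun e => ⟨e a (Or.inl rfl), e b (Or.inr rfl)⟩, fun e w hw => by
        rcases hw with rfl | rfl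
        · exact e.1
        · exact e.2⟩)
  rw [e0, e1 a ha, e1 b hb, e1 (a * b) (mul_mem ha hb), e2] at h4
  set r := Nat.card ↥(N ⊓ stabilizer G A) with hr
  have hrpos : 0 < r := Nat.card_pos
  refine Nat.eq_of_mul_eq_mul_right (pow_pos hrpos 3) ?_
  linarith

/-- The central involutions fixing a given point. -/
def fixSub (A B : X) (S : Subgroup G) (y : X) : Subgroup G := A0 A B S ⊓ stabilizer G y

theorem fixSub_card {y y' : X} (hy : Far G A B A y) (hy' : Far G A B A y') :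
    Nat.card ↥(fixSub A B S y) = Nat.card ↥(fixSub A B S y') := by
  obtain ⟨g, gA, gy⟩ := h.far_trans hy hy'
  refine Nat.card_congr ((MulAut.conj g).toEquiv.subtypeEquiv fun x => ?_)
  show x ∈ A0 A B S ⊓ stabilizer G y ↔ g * x * g⁻¹ ∈ A0 A B S ⊓ stabilizer G y'
  rw [Subgroup.mem_inf, Subgroup.mem_inf, mem_stabilizer_iff, mem_stabilizer_iff, ← gy, mul_smul, mul_smul,
    inv_smul_smul, (MulAction.injective g).eq_iff]
  refine and_congr_left fun _ => ⟨q.A0_conj h gA, fun hx => ?_⟩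
  have := q.A0_conj h (inv_smul_eq_iff.2 gA.symm) hx
  rwa [show g⁻¹ * (g * x * g⁻¹) * g⁻¹⁻¹ = x by group] at this

theorem card_fix_one {Bs : Subgroup G} (hB : Bs ≤ A0 A B S) {P : X → Prop} (hP : P A)
    (honly : ∀ y, (∀ z ∈ Bs, z • y = y) → P y → y = A) :
    Nat.card {y : X // (∀ z ∈ Bs, z • y = y) ∧ P y} = 1 := by
  rw [Nat.card_eq_one_iff_unique]
  exact ⟨⟨fun r r' => Subtype.ext ((honly r r.2.1 r.2.2).trans (honly r' r'.2.1 r'.2.2).symm)⟩,
    ⟨A, fun z hz => h.Kf_fix (hB hz).2.1, hP⟩⟩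

/-- The central involutions fixing a nonadjacent point have index two. -/
theorem fixSub_index {y : X} (hy : Far G A B A y) {a b : G} (ha : a ∈ A0 A B S) (hb : b ∈ A0 A B S)
    (hay : a • y ≠ y) (hby : b • y ≠ y) : (a * b) • y = y := by
  classical
  by_contra hab
  obtain ⟨z, hz, hz1, hzy⟩ := q.far_fixed h hy
  have hBle : fixSub A B S y ≤ A0 A B S := inf_le_left
  have hBne : fixSub A B S y ≠ ⊥ := fun e => hz1 (by
    have : z ∈ fixSub A B S y := ⟨hz, hzy⟩
    rw [e, Subgroup.mem_bot] at this; exact this)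
  have hsame : ∀ r, (∀ w ∈ fixSub A B S y, w • r = r) → ∀ u ∈ A0 A B S, u • y ≠ y → u • r = r → r = A := by
    intro r hr u hu huy hur
    by_contra hrA
    have hfar : Far G A B A r := h.far_of_fix hz.2.1 hz1 (hr z ⟨hz, hzy⟩) hrA
    have hle : fixSub A B S y ≤ fixSub A B S r := fun w hw => ⟨hw.1, hr w hw⟩
    have heq := Subgroup.eq_of_le_of_card_ge hle (q.fixSub_card h hfar hy).le
    have : u ∈ fixSub A B S y := heq ▸ ⟨hu, hur⟩
    exact huy this.2
  have ha1 : a ≠ 1 := fun e => hay (by rw [e, one_smul])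
  have hb1 : b ≠ 1 := fun e => hby (by rw [e, one_smul])
  have hne : a ≠ b := fun e => hab (by rw [← e, ha.2.2.1, one_smul])
  have h4 := q.four_fix h _ hBle hBne ha.1 hb.1 ha.2.2.1 ha1 hb.2.2.1 hb1 (ha.2.2.2 b hb.2.1) hne
  rw [q.card_fix_one h hBle (P := fun r => a • r = r ∧ b • r = r) ⟨h.Kf_fix ha.2.1, h.Kf_fix hb.2.1⟩
      (fun r hr e => hsame r hr a ha hay e.1),
    q.card_fix_one h hBle (P := fun r => a • r = r) (h.Kf_fix ha.2.1) (fun r hr e => hsame r hr a ha hay e),
    q.card_fix_one h hBle (P := fun r => b • r = r) (h.Kf_fix hb.2.1) (fun r hr e => hsame r hr b hb hby e),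
    q.card_fix_one h hBle (P := fun r => (a * b) • r = r) (h.Kf_fix (mul_mem ha.2.1 hb.2.1))
      (fun r hr e => hsame r hr _ (mul_mem ha hb) hab e), one_pow, mul_one, mul_one,
    Nat.card_eq_one_iff_unique] at h4
  exact hy.1 (congrArg Subtype.val (h4.1.elim
    (⟨A, fun w hw => h.Kf_fix (hBle hw).2.1⟩ : {r : X // ∀ w ∈ fixSub A B S y, w • r = r})
    ⟨y, fun w hw => hw.2⟩))

/-- There are exactly three central involutions. -/
theorem rank_two {z z' : G} (hz : z ∈ A0 A B S) (hz1 : z ≠ 1) (hz' : z' ∈ A0 A B S) (hz'1 : z' ≠ 1)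
    (hne : z ≠ z') {w : G} (hw : w ∈ A0 A B S) : w = 1 ∨ w = z ∨ w = z' ∨ w = z * z' := by
  classical
  haveI := Fintype.ofFinite X
  by_contra hbad
  push Not at hbad
  obtain ⟨hw1, hwz, hwz', hwzz⟩ := hbad
  -- two different hyperplanes
  obtain ⟨y1, y2, hy1, hy2, b, hb, hb1, hb2⟩ :
      ∃ y1 y2 : X, Far G A B A y1 ∧ Far G A B A y2 ∧ ∃ b ∈ A0 A B S, b • y1 = y1 ∧ b • y2 ≠ y2 := by
    obtain ⟨b, hb, hb1, hbD⟩ := q.far_fixed h h.farD
    obtain ⟨y, hy, hby⟩ := h.not_fix_all_far hb.2.1 hb1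
    exact ⟨D, y, h.farD, hy, b, hb, hbD, hby⟩
  obtain ⟨a, ha, ha1, ha2⟩ : ∃ a ∈ A0 A B S, a • y1 ≠ y1 ∧ a • y2 = y2 := by
    by_contra hc
    push Not at hc
    have hle : fixSub A B S y2 ≤ fixSub A B S y1 := fun u hu => ⟨hu.1, by
      by_contra e; exact hc u hu.1 e hu.2⟩
    have heq := Subgroup.eq_of_le_of_card_ge hle (q.fixSub_card h hy1 hy2).le
    have : b ∈ fixSub A B S y2 := heq ▸ ⟨hb, hb1⟩
    exact hb2 this.2
  set Bs := fixSub A B S y1 ⊓ fixSub A B S y2 with hBs
  have hBle : Bs ≤ A0 A B S := fun u hu => hu.1.1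
  have hinv : ∀ {u : G}, u ∈ A0 A B S → ∀ {r : X}, u • r = r → u⁻¹ • r = r := fun {u} _ {r} e => by
    rw [inv_smul_eq_iff, e]
  -- every element is in one of four cosets
  have hdec : ∀ u ∈ A0 A B S, u ∈ Bs ∨ u * a ∈ Bs ∨ u * b ∈ Bs ∨ u * (a * b) ∈ Bs := by
    intro u hu
    by_cases e1 : u • y1 = y1 <;> by_cases e2 : u • y2 = y2
    · exact Or.inl ⟨⟨hu, e1⟩, hu, e2⟩
    · refine Or.inr (Or.inr (Or.inl ⟨⟨mul_mem hu hb, ?_⟩, mul_mem hu hb, q.fixSub_index h hy2 hu hb e2 hb2⟩))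
      show (u * b) • y1 = y1
      rw [mul_smul, hb1, e1]
    · refine Or.inr (Or.inl ⟨⟨mul_mem hu ha, q.fixSub_index h hy1 hu ha e1 ha1⟩, mul_mem hu ha, ?_⟩)
      show (u * a) • y2 = y2
      rw [mul_smul, ha2, e2]
    · refine Or.inr (Or.inr (Or.inr ⟨⟨mul_mem hu (mul_mem ha hb), ?_⟩, mul_mem hu (mul_mem ha hb), ?_⟩))
      · show (u * (a * b)) • y1 = y1
        rw [← mul_assoc, mul_smul, hb1]
        exact q.fixSub_index h hy1 hu ha e1 ha1
      · show (u * (a * b)) • y2 = y2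
        rw [ha.2.2.2 b hb.2.1, ← mul_assoc, mul_smul, ha2]
        exact q.fixSub_index h hy2 hu hb e2 hb2
  have hBne : Bs ≠ ⊥ := by
    intro e
    have hfour : ∀ u ∈ A0 A B S, u = 1 ∨ u = a ∨ u = b ∨ u = a * b := fun u hu => by
      have hm : ∀ {r : G}, r ∈ A0 A B S → u * r ∈ Bs → u = r := fun {r} hr hm => by
        rw [e, Subgroup.mem_bot] at hm
        rw [← mul_one u, ← hr.2.2.1, ← mul_assoc, hm, one_mul]
      rcases hdec u hu with e' | e' | e' | e'
      · rw [e, Subgroup.mem_bot] at e'; exact Or.inl e'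
      · exact Or.inr (Or.inl (hm ha e'))
      · exact Or.inr (Or.inr (Or.inl (hm hb e')))
      · exact Or.inr (Or.inr (Or.inr (hm (mul_mem ha hb) e')))
    let s : Finset G := {1, z, z', w, z * z'}
    have hsub : s ⊆ {1, a, b, a * b} := fun u hu => by
      have hu' : u ∈ A0 A B S := by
        simp only [s, Finset.mem_insert, Finset.mem_singleton] at hu
        rcases hu with rfl | rfl | rfl | rfl | rfl
        exacts [one_mem _, hz, hz', hw, mul_mem hz hz']
      simpa using hfour u hu'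
    have hzz1 : z * z' ≠ 1 := fun e' => hne (by rw [← mul_one z, ← hz'.2.2.1, ← mul_assoc, e', one_mul])
    have hcard : s.card = 5 := by
      simp only [s]
      rw [Finset.card_insert_of_notMem (by
          simp only [Finset.mem_insert, Finset.mem_singleton, not_or]
          exact ⟨hz1.symm, hz'1.symm, hw1.symm, hzz1.symm⟩),
        Finset.card_insert_of_notMem (by
          simp only [Finset.mem_insert, Finset.mem_singleton, not_or]
          exact ⟨hne, hwz.symm, fun e' => hz'1 (mul_left_cancel ((mul_one z).trans e')).symm⟩),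
        Finset.card_insert_of_notMem (by
          simp only [Finset.mem_insert, Finset.mem_singleton, not_or]
          exact ⟨hwz'.symm, fun e' => hz1 (mul_right_cancel ((one_mul z').trans e')).symm⟩),
        Finset.card_pair hwzz]
    have := (Finset.card_le_card hsub).trans Finset.card_le_four
    omega
  obtain ⟨⟨c, hc⟩, hc1⟩ := Subgroup.ne_bot_iff_exists_ne_one.1 hBne
  have hc1' : c ≠ 1 := fun e => hc1 (Subtype.ext e)
  have hall : ∀ r, (∀ u ∈ Bs, u • r = r) → a • r = r → b • r = r → r = A := by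
    intro r hr har hbr
    refine q.A0_fix_only h fun u hu => ?_
    have hst : ∀ {x : G}, x ∈ A0 A B S → x • r = r → (u * x) ∈ Bs → u • r = r := fun {x} hx hxr hm => by
      have := hr _ hm
      rwa [mul_smul, hxr] at this
    rcases hdec u hu with e | e | e | e
    · exact hr u e
    · exact hst ha har e
    · exact hst hb hbr e
    · exact hst (mul_mem ha hb) (by rw [mul_smul, hbr, har]) e
  have hAfix : ∀ u ∈ Bs, u • A = A := fun u hu => h.Kf_fix (hBle hu).2.1
  have h4 := q.four_fix h Bs hBle hBne ha.1 hb.1 ha.2.2.1 (fun e => ha1 (by rw [e, one_smul])) hb.2.2.1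
    (fun e => hb2 (by rw [e, one_smul])) (ha.2.2.2 b hb.2.1) (fun e => ha1 (e ▸ hb1))
  rw [q.card_fix_one h hBle (P := fun r => a • r = r ∧ b • r = r) ⟨h.Kf_fix ha.2.1, h.Kf_fix hb.2.1⟩
      (fun r hr e => hall r hr e.1 e.2), one_pow, mul_one] at h4
  simp only [Nat.card_eq_fintype_card, Fintype.card_subtype] at h4
  set F0 := Finset.univ.filter fun r : X => ∀ u ∈ Bs, u • r = r with hF0
  set Fa := Finset.univ.filter fun r : X => (∀ u ∈ Bs, u • r = r) ∧ a • r = r with hFa
  set Fb := Finset.univ.filter fun r : X => (∀ u ∈ Bs, u • r = r) ∧ b • r = r with hFb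
  set Fc := Finset.univ.filter fun r : X => (∀ u ∈ Bs, u • r = r) ∧ (a * b) • r = r with hFc
  have hA_a : A ∈ Fa := by simp [hFa, h.Kf_fix ha.2.1]; exact hAfix
  have hA_b : A ∈ Fb := by simp [hFb, h.Kf_fix hb.2.1]; exact hAfix
  have hA_c : A ∈ Fc := by simp [hFc, h.Kf_fix (mul_mem ha.2.1 hb.2.1)]; exact hAfix
  have hya : y2 ∈ Fa := by simp [hFa, ha2]; exact fun u hu => hu.2.2
  have hyb : y1 ∈ Fb := by simp [hFb, hb1]; exact fun u hu => hu.1.2
  have hcover : F0 = insert A ((Fa.erase A) ∪ ((Fb.erase A) ∪ (Fc.erase A))) := by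
    ext r
    simp only [hF0, hFa, hFb, hFc, Finset.mem_filter, Finset.mem_univ, true_and, Finset.mem_insert,
      Finset.mem_union, Finset.mem_erase]
    constructor
    · intro hr
      by_cases e : r = A
      · exact Or.inl e
      refine Or.inr ?_
      have hfar : Far G A B A r := h.far_of_fix (hBle hc).2.1 hc1' (hr c hc) e
      by_cases e1 : a • r = r
      · exact Or.inl ⟨e, hr, e1⟩
      by_cases e2 : b • r = r
      · exact Or.inr (Or.inl ⟨e, hr, e2⟩)
      exact Or.inr (Or.inr ⟨e, hr, q.fixSub_index h hfar ha hb e1 e2⟩)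
    · rintro (rfl | ⟨-, hr, -⟩ | ⟨-, hr, -⟩ | ⟨-, hr, -⟩)
      exacts [hAfix, hr, hr, hr]
  have hcount : F0.card + 2 = Fa.card + Fb.card + Fc.card := by
    rw [hcover, Finset.card_insert_of_notMem (by simp), Finset.card_union_of_disjoint, Finset.card_union_of_disjoint]
    · rw [Finset.card_erase_of_mem hA_a, Finset.card_erase_of_mem hA_b, Finset.card_erase_of_mem hA_c]
      have h5 := Finset.card_pos.2 ⟨A, hA_a⟩
      have h6 := Finset.card_pos.2 ⟨A, hA_b⟩
      have h7 := Finset.card_pos.2 ⟨A, hA_c⟩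
      omega
    · rw [Finset.disjoint_left]
      intro r r1 r2
      simp only [hFb, hFc, Finset.mem_erase, Finset.mem_filter, Finset.mem_univ, true_and] at r1 r2
      obtain ⟨rA, rB, rb⟩ := r1
      refine rA (hall r rB ?_ rb)
      have := r2.2.2
      rwa [mul_smul, rb] at this
    · rw [Finset.disjoint_left]
      intro r r1 r2
      simp only [hFa, hFb, hFc, Finset.mem_union, Finset.mem_erase, Finset.mem_filter, Finset.mem_univ,
        true_and] at r1 r2
      obtain ⟨rA, rB, ra⟩ := r1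
      refine rA (hall r rB ra ?_)
      rcases r2 with ⟨-, -, rb⟩ | ⟨-, -, rc⟩
      · exact rb
      · rw [ha.2.2.2 b hb.2.1, mul_smul, ra] at rc
        exact rc
  have h2a : 2 ≤ Fa.card := Finset.one_lt_card.2 ⟨A, hA_a, y2, hya, hy2.1⟩
  have h2b : 2 ≤ Fb.card := Finset.one_lt_card.2 ⟨A, hA_b, y1, hyb, hy1.1⟩
  have h1c : 1 ≤ Fc.card := Finset.card_pos.2 ⟨A, hA_c⟩
  rw [h4] at hcount
  nlinarith [Nat.mul_le_mul (Nat.mul_le_mul h2a h2b) h1c, Nat.mul_le_mul h2a h2b,
    Nat.mul_le_mul_left (Fa.card * Fb.card) h1c]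

end OddPack

end Cfsg.Agent.Perm.RankThreeFrob
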