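import Mathlib
import Cfsg.Agent.S0035
import Cfsg.Agent.S0042
import Cfsg.Agent.S4252
import Cfsg.Agent.Lib.Recog.Frobenius

/-!
Primitive groups of rank three whose point stabilizer is a Frobenius group on a suborbit: the orbital graph,
the kernel attached to each point and its elementary properties.
-/

set_option autoImplicit false
set_option linter.unusedSectionVars false
set_option linter.style.haveILetI false

namespace Cfsg.Agent.Perm.RankThreeFrob

open MulAction

universe u v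

variable (G : Type u) [Group G] {X : Type v} [MulAction G X]

/-- Adjacency in the orbital graph of `(A, B)`. -/
def Adj (A B x y : X) : Prop := ∃ g : G, g • A = x ∧ g • B = y

/-- Distinct and not adjacent. -/
def Far (A B x y : X) : Prop := x ≠ y ∧ ¬ Adj G A B x y

/-- The elements fixing `P` which are trivial or move every neighbour of `P`. -/
def Kset (A B P : X) : Set G :=
  {g : G | g • P = P ∧ (g = 1 ∨ ∀ Q, Adj G A B P Q → g • Q ≠ Q)}

/-- The subgroup attached to a point. -/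
def Kf (A B P : X) : Subgroup G := Subgroup.closure (Kset G A B P)

/-- The setting: a primitive group of rank three with a Frobenius suborbit. -/
structure Setup (A B D : X) : Prop where
  even : Even (Nat.card G)
  prim : IsPreprimitive G X
  rank : Nat.card (orbitRel.Quotient ↥(stabilizer G A) X) = 3
  ne : B ≠ A
  faith : ∀ g ∈ stabilizer G A, (∀ h ∈ stabilizer G A, g • (h • B) = h • B) → g = 1
  nsr : ∃ g ∈ stabilizer G A, g ≠ 1 ∧ g • B = B
  frob : ∀ g ∈ stabilizer G A, ∀ h ∈ stabilizer G A,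
    g • B = B → g • (h • B) = h • B → h • B ≠ B → g = 1
  farD : Far G A B A D

variable {G} {A B D : X} {P Q R P' Q' : X}

theorem Adj.base : Adj G A B A B := ⟨1, one_smul G A, one_smul G B⟩

theorem Adj.smul (g : G) (h : Adj G A B P Q) : Adj G A B (g • P) (g • Q) := by
  obtain ⟨a, rfl, rfl⟩ := h
  exact ⟨g * a, mul_smul g a A, mul_smul g a B⟩

theorem adj_smul_iff (g : G) : Adj G A B (g • P) (g • Q) ↔ Adj G A B P Q :=
  ⟨fun h => by simpa using h.smul g⁻¹, fun h => h.smul g⟩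

theorem far_smul_iff (g : G) : Far G A B (g • P) (g • Q) ↔ Far G A B P Q := by
  rw [Far, Far, adj_smul_iff, (MulAction.injective g).ne_iff]

theorem Adj.trans' (h : Adj G A B P Q) (h' : Adj G A B P' Q') : ∃ g : G, g • P = P' ∧ g • Q = Q' := by
  obtain ⟨a, rfl, rfl⟩ := h
  obtain ⟨b, rfl, rfl⟩ := h'
  exact ⟨b * a⁻¹, by rw [mul_smul, inv_smul_smul], by rw [mul_smul, inv_smul_smul]⟩

theorem adj_left_iff : Adj G A B A Q ↔ Q ∈ orbit ↥(stabilizer G A) B :=
  ⟨fun ⟨g, h1, h2⟩ => ⟨⟨g, h1⟩, h2⟩, fun ⟨g, hg⟩ => ⟨g, g.2, hg⟩⟩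

theorem mem_Kset_iff {g : G} :
    g ∈ Kset G A B P ↔ g • P = P ∧ (g = 1 ∨ ∀ Q, Adj G A B P Q → g • Q ≠ Q) := Iff.rfl

theorem conj_mem_Kset {g x : G} (hx : x ∈ Kset G A B P) : g * x * g⁻¹ ∈ Kset G A B (g • P) := by
  obtain ⟨h1, h2⟩ := hx
  refine ⟨by rw [mul_smul, mul_smul, inv_smul_smul, h1], ?_⟩
  rcases h2 with rfl | h2
  · left; group
  · right
    intro Q hQ e
    refine h2 (g⁻¹ • Q) (by simpa using hQ.smul g⁻¹) ?_
    have := congrArg (fun z => g⁻¹ • z) e
    simpa [mul_smul] using this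

variable [Finite G] [Finite X] [FaithfulSMul G X]

namespace Setup

variable (h : Setup G A B D)
include h

theorem pretrans : IsPretransitive G X := h.prim.toIsPretransitive

theorem exists_smul (P Q : X) : ∃ g : G, g • P = Q := by
  haveI := h.pretrans
  exact MulAction.exists_smul_eq G P Q

theorem mk_ne : (⟦B⟧ : orbitRel.Quotient ↥(stabilizer G A) X) ≠ ⟦A⟧ := fun e => by
  obtain ⟨g, hg⟩ := Quotient.exact e
  have hg' : (g : G) • A = B := hg
  exact h.ne (hg'.symm.trans g.2)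

theorem mk_of_far (hy : Far G A B A Q) :
    (⟦Q⟧ : orbitRel.Quotient ↥(stabilizer G A) X) ≠ ⟦A⟧ ∧
      (⟦Q⟧ : orbitRel.Quotient ↥(stabilizer G A) X) ≠ ⟦B⟧ := by
  constructor
  · intro e
    obtain ⟨g, hg⟩ := Quotient.exact e
    have hg' : (g : G) • A = Q := hg
    exact hy.1 (g.2.symm.trans hg')
  · intro e
    exact hy.2 (adj_left_iff.2 (Quotient.exact e))

theorem far_orbit (hy : Far G A B A Q) (hy' : Far G A B A R) :
    ∃ g ∈ stabilizer G A, g • Q = R := by
  classical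
  haveI := Fintype.ofFinite (orbitRel.Quotient ↥(stabilizer G A) X)
  obtain ⟨a1, b1⟩ := h.mk_of_far hy
  obtain ⟨a2, b2⟩ := h.mk_of_far hy'
  have e : (⟦R⟧ : orbitRel.Quotient ↥(stabilizer G A) X) = ⟦Q⟧ := by
    by_contra hne
    have hc := (Finset.card_le_univ
      ({⟦A⟧, ⟦B⟧, ⟦Q⟧, ⟦R⟧} : Finset (orbitRel.Quotient ↥(stabilizer G A) X)))
    rw [← Nat.card_eq_fintype_card, h.rank, Finset.card_insert_of_notMem (by
        simp [h.mk_ne.symm, a1.symm, a2.symm]),
      Finset.card_insert_of_notMem (by simp [b1.symm, b2.symm]), Finset.card_pair (Ne.symm hne)] at hc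
    omega
  obtain ⟨g, hg⟩ := Quotient.exact e
  exact ⟨g, g.2, hg⟩

theorem ne_of_adj (ha : Adj G A B P Q) : P ≠ Q := by
  obtain ⟨g, rfl, rfl⟩ := ha
  exact fun e => h.ne (MulAction.injective g e).symm

theorem trichotomy (P Q : X) : P = Q ∨ Adj G A B P Q ∨ Far G A B P Q := by
  by_cases e : P = Q
  · exact Or.inl e
  · by_cases a : Adj G A B P Q
    · exact Or.inr (Or.inl a)
    · exact Or.inr (Or.inr ⟨e, a⟩)

theorem far_trans (hy : Far G A B P Q) (hy' : Far G A B P' Q') : ∃ g : G, g • P = P' ∧ g • Q = Q' := by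
  obtain ⟨a, rfl⟩ := h.exists_smul A P
  obtain ⟨b, rfl⟩ := h.exists_smul A P'
  have h1 : Far G A B A (a⁻¹ • Q) := by
    have := (far_smul_iff (A := A) (B := B) a⁻¹).2 hy
    rwa [inv_smul_smul] at this
  have h2 : Far G A B A (b⁻¹ • Q') := by
    have := (far_smul_iff (A := A) (B := B) b⁻¹).2 hy'
    rwa [inv_smul_smul] at this
  obtain ⟨g, hg, hgQ⟩ := h.far_orbit h1 h2
  have hgA : g • A = A := hg
  refine ⟨b * g * a⁻¹, ?_, ?_⟩
  · rw [mul_smul, mul_smul, inv_smul_smul, hgA]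
  · rw [mul_smul, mul_smul, hgQ, smul_inv_smul]

theorem adj_symm (ha : Adj G A B P Q) : Adj G A B Q P := by
  haveI : Fact (Nat.Prime 2) := ⟨Nat.prime_two⟩
  obtain ⟨s, hs⟩ := exists_prime_orderOf_dvd_card' 2 (G := G) h.even.two_dvd
  have hs1 : s ≠ 1 := fun e => by rw [e, orderOf_one] at hs; omega
  obtain ⟨x, hx⟩ : ∃ x : X, s • x ≠ x := by
    by_contra hc
    push Not at hc
    exact hs1 (FaithfulSMul.eq_of_smul_eq_smul fun x : X => by rw [hc x, one_smul])
  have hss : s • (s • x) = x := by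
    rw [← mul_smul, ← pow_two, ← hs, pow_orderOf_eq_one, one_smul]
  by_contra hn
  have hfar : Far G A B Q P := ⟨(h.ne_of_adj ha).symm, hn⟩
  rcases h.trichotomy x (s • x) with e | e | e
  · exact hx e.symm
  · obtain ⟨g, g1, g2⟩ := ha.trans' e
    refine hn ((adj_smul_iff g).1 ?_)
    rw [g2, g1]
    have := e.smul s
    rwa [hss] at this
  · obtain ⟨g, g1, g2⟩ := h.far_trans hfar e
    have e' := (far_smul_iff (A := A) (B := B) s).2 e
    rw [hss] at e'
    refine e'.2 ?_
    have := ha.smul g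
    rwa [g1, g2] at this

theorem far_symm (hy : Far G A B P Q) : Far G A B Q P := ⟨hy.1.symm, fun a => hy.2 (h.adj_symm a)⟩

theorem adj_swap (ha : Adj G A B P Q) : ∃ g : G, g • P = Q ∧ g • Q = P := ha.trans' (h.adj_symm ha)

theorem far_swap (hy : Far G A B P Q) : ∃ g : G, g • P = Q ∧ g • Q = P := h.far_trans hy (h.far_symm hy)

/-- Only the identity fixes a point and two of its neighbours. -/
theorem fix_two {g : G} (hP : g • P = P) (hQ : Adj G A B P Q) (hR : Adj G A B P R) (gQ : g • Q = Q)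
    (gR : g • R = R) (hne : Q ≠ R) : g = 1 := by
  obtain ⟨a, a1, a2⟩ := hQ
  have hR' : Adj G A B A (a⁻¹ • R) := by
    have := hR.smul a⁻¹
    rwa [← a1, inv_smul_smul] at this
  obtain ⟨b, hb⟩ := adj_left_iff.1 hR'
  have hb' : (b : G) • B = a⁻¹ • R := hb
  have e : ∀ z : X, g • (a • z) = a • z → (a⁻¹ * g * a) • z = z := fun z hz => by
    rw [mul_smul, mul_smul, hz, inv_smul_smul]
  have h1 : (a⁻¹ * g * a) ∈ stabilizer G A := e A (by rw [a1, hP])
  have := h.frob _ h1 b b.2 (e B (by rw [a2, gQ]))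
    (by rw [hb']; exact e _ (by rw [smul_inv_smul, gR]))
    (by rw [hb']; intro e'; exact hne (by rw [← a2, ← e', smul_inv_smul]))
  have h2 : g = a * (a⁻¹ * g * a) * a⁻¹ := by group
  rw [h2, this]; group

theorem stabilizer_smul (g : G) {x : G} (hx : x • P = P) : (g * x * g⁻¹) • (g • P) = g • P := by
  rw [mul_smul, mul_smul, inv_smul_smul, hx]

theorem orbit_two : 1 < Nat.card ↥(orbit ↥(stabilizer G A) B) := by
  obtain ⟨g, hg, hg1, hgB⟩ := h.nsr
  haveI : Nontrivial ↥(orbit ↥(stabilizer G A) B) := by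
    by_contra hn
    rw [not_nontrivial_iff_subsingleton] at hn
    refine hg1 (h.faith g hg fun a ha => ?_)
    have : (⟨a • B, ⟨⟨a, ha⟩, rfl⟩⟩ : ↥(orbit ↥(stabilizer G A) B)) = ⟨B, mem_orbit_self B⟩ :=
      Subsingleton.elim _ _
    have e : a • B = B := congrArg Subtype.val this
    rw [e, hgB]
  exact Finite.one_lt_card

/-- The Frobenius structure of the stabilizer of `A`. -/
theorem exists_frobenius : ∃ (C N : Subgroup ↥(stabilizer G A)),
    C = stabilizer ↥(stabilizer G A) B ∧ Cfsg.IsFrobeniusComplement C ∧ N.Normal ∧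
      Subgroup.IsComplement' N C ∧ Group.IsNilpotent N ∧ (N : Set ↥(stabilizer G A)) = Cfsg.frobeniusKernel C ∧
      ∀ g : ↥(stabilizer G A), g ∈ N ↔ (g : G) ∈ Kset G A B A := by
  classical
  haveI := Fintype.ofFinite ↥(orbit ↥(stabilizer G A) B)
  set b : ↥(orbit ↥(stabilizer G A) B) := ⟨B, mem_orbit_self B⟩ with hb
  obtain ⟨g₀, hg₀, hg₀1, hg₀B⟩ := h.nsr
  have hS := Cfsg.Agent.S4252.result (G := ↥(stabilizer G A)) (Ω := ↥(orbit ↥(stabilizer G A) B))
    (by rw [← Nat.card_eq_fintype_card]; exact h.orbit_two)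
    (fun x y => MulAction.exists_smul_eq _ x y)
    ⟨⟨g₀, hg₀⟩, fun e => hg₀1 (congrArg Subtype.val e), b, Subtype.ext hg₀B⟩
    (fun g hg x y hx hy => by
      by_contra hne
      refine hg (Subtype.ext (h.fix_two g.2 (adj_left_iff.2 x.2) (adj_left_iff.2 y.2)
        (congrArg Subtype.val hx) (congrArg Subtype.val hy) fun e => hne (Subtype.ext e)))) b
  have hCb : stabilizer ↥(stabilizer G A) b = stabilizer ↥(stabilizer G A) B := by
    ext g
    rw [mem_stabilizer_iff, mem_stabilizer_iff, Subtype.ext_iff]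
    rfl
  rw [hCb] at hS
  obtain ⟨N, hN, hNn, hNc⟩ := Cfsg.Agent.S0035.result _ hS.1
  obtain ⟨N', hN', -, hN'nil⟩ := Cfsg.Agent.S0042.result _ hS.1
  have hNN : N = N' := SetLike.coe_injective (hN.trans hN'.symm)
  refine ⟨_, N, rfl, hS.1, hNn, hNc, hNN ▸ hN'nil, hN, fun g => ?_⟩
  rw [← SetLike.mem_coe, hN, hS.2]
  constructor
  · rintro (rfl | hg)
    · exact ⟨one_smul G A, Or.inl rfl⟩
    · exact ⟨g.2, Or.inr fun Q hQ e => hg ⟨Q, adj_left_iff.1 hQ⟩ (Subtype.ext e)⟩
  · rintro ⟨-, hg | hg⟩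
    · exact Or.inl (Subtype.ext hg)
    · exact Or.inr fun x e => hg x.1 (adj_left_iff.2 x.2) (congrArg Subtype.val e)

theorem coe_Kf (P : X) : (Kf G A B P : Set G) = Kset G A B P := by
  refine Set.Subset.antisymm ?_ Subgroup.subset_closure
  obtain ⟨a, rfl⟩ := h.exists_smul A P
  obtain ⟨C, N, -, -, -, -, -, -, hN⟩ := h.exists_frobenius
  let S : Subgroup G := (N.map (stabilizer G A).subtype).map (MulAut.conj a).toMonoidHom
  have hS : (S : Set G) = Kset G A B (a • A) := by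
    ext g
    constructor
    · rintro ⟨_, ⟨x, hx, rfl⟩, rfl⟩
      exact conj_mem_Kset ((hN x).1 hx)
    · intro hg
      have h1 : a⁻¹ * g * a ∈ Kset G A B A := by
        have := conj_mem_Kset (g := a⁻¹) hg
        rwa [inv_smul_smul, inv_inv] at this
      exact ⟨a⁻¹ * g * a, ⟨⟨_, h1.1⟩, (hN _).2 h1, rfl⟩, by simp [mul_assoc]⟩
  rw [← hS]
  exact (Subgroup.closure_le S).2 hS.ge

theorem mem_Kf {g : G} :
    g ∈ Kf G A B P ↔ g • P = P ∧ (g = 1 ∨ ∀ Q, Adj G A B P Q → g • Q ≠ Q) := by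
  rw [← SetLike.mem_coe, h.coe_Kf, mem_Kset_iff]

theorem Kf_fix {x : G} (hx : x ∈ Kf G A B P) : x • P = P := (h.mem_Kf.1 hx).1

theorem Kf_le : Kf G A B P ≤ stabilizer G P := fun _ hx => h.Kf_fix hx

theorem Kf_move {x : G} (hx : x ∈ Kf G A B P) (hQ : Adj G A B P Q) (hxQ : x • Q = Q) : x = 1 :=
  ((h.mem_Kf.1 hx).2).resolve_right fun e => e Q hQ hxQ

theorem Kf_conj {g x : G} (hx : x ∈ Kf G A B P) : g * x * g⁻¹ ∈ Kf G A B (g • P) := by
  rw [← SetLike.mem_coe, h.coe_Kf] at hx ⊢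
  exact conj_mem_Kset hx

theorem Kf_normal {g x : G} (hg : g • P = P) (hx : x ∈ Kf G A B P) : g * x * g⁻¹ ∈ Kf G A B P := by
  have := h.Kf_conj (g := g) hx
  rwa [hg] at this

theorem exists_nbr_of_notMem {g : G} (hg : g • P = P) (hgK : g ∉ Kf G A B P) :
    ∃ Q, Adj G A B P Q ∧ g • Q = Q := by
  by_contra hc
  push Not at hc
  exact hgK (h.mem_Kf.2 ⟨hg, Or.inr hc⟩)

/-- The centralizer in a point stabilizer of a nontrivial kernel element lies in the kernel. -/
theorem cent_le {g x : G} (hx : x ∈ Kf G A B P) (hx1 : x ≠ 1) (hg : g • P = P) (hc : g * x = x * g) :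
    g ∈ Kf G A B P := by
  by_contra hgK
  obtain ⟨Q, hQ, hgQ⟩ := h.exists_nbr_of_notMem hg hgK
  have hxQ : Adj G A B P (x • Q) := by
    have := hQ.smul x
    rwa [h.Kf_fix hx] at this
  refine hgK ?_
  rw [h.fix_two hg hQ hxQ hgQ (by rw [← mul_smul, hc, mul_smul, hgQ])
    fun e => hx1 (h.Kf_move hx hQ e.symm)]
  exact one_mem _

end Setup

variable (G A B)

/-- The valency. -/
noncomputable def kk : ℕ := Nat.card {y : X // Adj G A B A y}

/-- The number of points nonadjacent to `A`. -/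
noncomputable def ll : ℕ := Nat.card {y : X // Far G A B A y}

/-- The order of the stabilizer of an edge. -/
noncomputable def cc : ℕ := Nat.card ↥(stabilizer G A ⊓ stabilizer G B)

variable {G A B}

namespace Setup

variable (h : Setup G A B D)
include h

theorem kk_eq_orbit : kk G A B = Nat.card ↥(orbit ↥(stabilizer G A) B) :=
  Nat.card_congr (Equiv.subtypeEquivRight fun _ => adj_left_iff)

theorem one_lt_kk : 1 < kk G A B := h.kk_eq_orbit ▸ h.orbit_two

theorem card_stab_stab (Q : X) :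
    Nat.card ↥(stabilizer ↥(stabilizer G A) Q) = Nat.card ↥(stabilizer G A ⊓ stabilizer G Q) :=
  Nat.card_congr
    { toFun := fun g => ⟨g.1.1, g.1.2, g.2⟩
      invFun := fun g => ⟨⟨g.1, g.2.1⟩, g.2.2⟩
      left_inv := fun _ => rfl
      right_inv := fun _ => rfl }

theorem card_stab : Nat.card ↥(stabilizer G A) = kk G A B * cc G A B := by
  rw [h.kk_eq_orbit, cc, ← h.card_stab_stab B, ← Nat.card_prod]
  exact (Nat.card_congr (orbitProdStabilizerEquivGroup _ B)).symm

theorem card_far_stab : ll G A B * Nat.card ↥(stabilizer G A ⊓ stabilizer G D) = kk G A B * cc G A B := by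
  rw [← h.card_stab, ← h.card_stab_stab D, ll]
  have e : Nat.card {y : X // Far G A B A y} = Nat.card ↥(orbit ↥(stabilizer G A) D) := by
    refine Nat.card_congr (Equiv.subtypeEquivRight fun y => ⟨fun hy => ?_, ?_⟩)
    · obtain ⟨g, hg, e⟩ := h.far_orbit h.farD hy
      exact ⟨⟨g, hg⟩, e⟩
    · rintro ⟨g, rfl⟩
      have := (far_smul_iff (A := A) (B := B) (g : G)).2 h.farD
      rwa [show (g : G) • A = A from g.2] at this
  rw [e, ← Nat.card_prod]
  exact Nat.card_congr (orbitProdStabilizerEquivGroup _ D)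

theorem card_Kf_base : Nat.card ↥(Kf G A B A) = kk G A B ∧ (kk G A B).Coprime (cc G A B) ∧
    cc G A B ∣ kk G A B - 1 ∧ 2 ≤ cc G A B ∧ Group.IsNilpotent ↥(Kf G A B A) := by
  obtain ⟨C, N, hC, hF, hNn, hNc, hnil, hNk, hN⟩ := h.exists_frobenius
  have e1 : Nat.card C = cc G A B := by rw [hC]; exact h.card_stab_stab B
  have e2 : Kf G A B A = N.map (stabilizer G A).subtype := by
    ext g
    constructor
    · intro hg
      rw [← SetLike.mem_coe, h.coe_Kf] at hg
      exact ⟨⟨g, hg.1⟩, (hN _).2 hg, rfl⟩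
    · rintro ⟨x, hx, rfl⟩
      rw [← SetLike.mem_coe, h.coe_Kf]
      exact (hN x).1 hx
  have e3 : Nat.card ↥(Kf G A B A) = Nat.card N := by
    rw [e2]
    exact (Nat.card_congr (N.equivMapOfInjective _ (Subgroup.subtype_injective _)).toEquiv).symm
  have e4 : Nat.card N = kk G A B := by
    have h1 := hNc.card_mul_card
    rw [h.card_stab, e1] at h1
    exact Nat.eq_of_mul_eq_mul_right (Subgroup.one_lt_card_iff_ne_bot C |>.2 hF.1 |>.le) (by rw [← e1] at h1; exact h1)
  have e5 : C.index = kk G A B := by rw [hNc.index_eq_card, e4]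
  refine ⟨e3.trans e4, ?_, ?_, ?_, ?_⟩
  · rw [← e1, ← e5]; exact (Frob.coprime_card_index hF).symm
  · rw [← e1, ← e5]; exact Frob.card_dvd_index_sub_one hF
  · rw [← e1]; exact (Subgroup.one_lt_card_iff_ne_bot C).2 hF.1
  · rw [e2]
    exact Group.nilpotent_of_mulEquiv (N.equivMapOfInjective _ (Subgroup.subtype_injective _))

theorem card_Kf (P : X) : Nat.card ↥(Kf G A B P) = kk G A B := by
  obtain ⟨a, rfl⟩ := h.exists_smul A P
  rw [← h.card_Kf_base.1]
  refine Nat.card_congr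
    { toFun := fun g => ⟨a⁻¹ * g.1 * a, ?_⟩
      invFun := fun g => ⟨a * g.1 * a⁻¹, h.Kf_conj g.2⟩
      left_inv := fun g => Subtype.ext (by simp [mul_assoc])
      right_inv := fun g => Subtype.ext (by simp [mul_assoc]) }
  have := h.Kf_conj (g := a⁻¹) g.2
  rwa [inv_smul_smul, inv_inv] at this

theorem pow_kk {x : G} (hx : x ∈ Kf G A B P) : x ^ kk G A B = 1 := by
  rw [← h.card_Kf P, ← orderOf_dvd_iff_pow_eq_one]
  exact Subgroup.orderOf_dvd_natCard _ hx

theorem cop : (kk G A B).Coprime (cc G A B) := h.card_Kf_base.2.1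

/-- In a point stabilizer the kernel is the set of elements killed by the valency. -/
theorem mem_Kf_iff_pow {g : G} (hg : g • P = P) : g ∈ Kf G A B P ↔ g ^ kk G A B = 1 := by
  refine ⟨h.pow_kk, fun e => ?_⟩
  by_contra hgK
  obtain ⟨Q, ⟨a, a1, a2⟩, hgQ⟩ := h.exists_nbr_of_notMem hg hgK
  have hm : a⁻¹ * g * a ∈ stabilizer G A ⊓ stabilizer G B := by
    constructor <;> show (a⁻¹ * g * a) • _ = _
    · rw [mul_smul, mul_smul, a1, hg, ← a1, inv_smul_smul]
    · rw [mul_smul, mul_smul, a2, hgQ, ← a2, inv_smul_smul]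
  have h1 : orderOf (a⁻¹ * g * a) ∣ cc G A B := Subgroup.orderOf_dvd_natCard _ hm
  have h2 : orderOf (a⁻¹ * g * a) = orderOf g := by
    have := (MulAut.conj a⁻¹).orderOf_eq g
    simpa using this
  rw [h2] at h1
  have h4 := Nat.eq_one_of_dvd_coprimes h.cop (orderOf_dvd_of_pow_eq_one e) h1
  exact hgK (by rw [orderOf_eq_one_iff.1 h4]; exact one_mem _)

/-- A kernel element of one of two points fixed by it is a kernel element of the other. -/
theorem Kf_change {x : G} (hx : x ∈ Kf G A B P) (hQ : x • Q = Q) : x ∈ Kf G A B Q :=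
  (h.mem_Kf_iff_pow hQ).2 (h.pow_kk hx)

/-- The kernel is regular on the neighbours. -/
theorem exists_K_to (hQ : Adj G A B P Q) (hR : Adj G A B P R) : ∃ x ∈ Kf G A B P, x • Q = R := by
  classical
  haveI := Fintype.ofFinite {y : X // Adj G A B P y}
  haveI := Fintype.ofFinite ↥(Kf G A B P)
  let f : ↥(Kf G A B P) → {y : X // Adj G A B P y} := fun x => ⟨(x : G) • Q, by
    have := hQ.smul (x : G)
    rwa [h.Kf_fix x.2] at this⟩
  have hinj : Function.Injective f := by
    intro x y e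
    have e' : (x : G) • Q = (y : G) • Q := congrArg Subtype.val e
    have := h.Kf_move (mul_mem (inv_mem y.2) x.2) hQ (by rw [mul_smul, e', inv_smul_smul])
    exact Subtype.ext (inv_mul_eq_one.1 this).symm
  have hcard : Nat.card {y : X // Adj G A B P y} = kk G A B := by
    obtain ⟨a, rfl⟩ := h.exists_smul A P
    exact (Nat.card_congr ((MulAction.toPerm a).subtypeEquiv fun y => (adj_smul_iff a).symm)).symm
  have hb := (Fintype.bijective_iff_injective_and_card f).2
    ⟨hinj, by rw [← Nat.card_eq_fintype_card, ← Nat.card_eq_fintype_card, hcard, h.card_Kf]⟩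
  obtain ⟨x, hx⟩ := hb.2 ⟨R, hR⟩
  exact ⟨x, x.2, congrArg Subtype.val hx⟩

end Setup

/-- The hypotheses of the theorem give a setting. -/
theorem exists_setup (heven : Even (Nat.card G)) (hprim : IsPreprimitive G X)
    (h3 : Nat.card (orbitRel.Quotient ↥(stabilizer G A) X) = 3) (hBA : B ≠ A)
    (hfaith : ∀ g ∈ stabilizer G A, (∀ h ∈ stabilizer G A, g • (h • B) = h • B) → g = 1)
    (hfix : ∃ g ∈ stabilizer G A, g ≠ 1 ∧ g • B = B)
    (hfrob : ∀ g ∈ stabilizer G A, ∀ h ∈ stabilizer G A,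
      g • B = B → g • (h • B) = h • B → h • B ≠ B → g = 1) :
    ∃ D : X, Setup G A B D := by
  classical
  haveI := Fintype.ofFinite (orbitRel.Quotient ↥(stabilizer G A) X)
  obtain ⟨q, hq⟩ : ∃ q : orbitRel.Quotient ↥(stabilizer G A) X, q ≠ ⟦A⟧ ∧ q ≠ ⟦B⟧ := by
    by_contra hc
    push Not at hc
    have hsub : (Finset.univ : Finset (orbitRel.Quotient ↥(stabilizer G A) X)) ⊆ {⟦A⟧, ⟦B⟧} := fun q _ => by
      by_cases e : q = ⟦A⟧
      · simp [e]
      · simp [hc q e]
    have := (Finset.card_le_card hsub).trans Finset.card_le_two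
    rw [Finset.card_univ, ← Nat.card_eq_fintype_card, h3] at this
    omega
  obtain ⟨D, rfl⟩ := Quotient.exists_rep q
  refine ⟨D, heven, hprim, h3, hBA, hfaith, hfix, hfrob, fun e => hq.1 (by rw [e]), fun a => hq.2 ?_⟩
  exact Quotient.sound (adj_left_iff.1 a)

end Cfsg.Agent.Perm.RankThreeFrob
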