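import Cfsg.Agent.Lib.Perm.RankThreeFrob.EvenBase
import Cfsg.Agent.Lib.Grp.Primitive
import Cfsg.Agent.S0144
import Cfsg.Agent.S0494

/-!
The groups of order 60 on ten points and of order 320 or 576 on sixteen points.
-/

set_option autoImplicit false
set_option linter.unusedSectionVars false
set_option linter.style.haveILetI false

namespace Cfsg.Agent.Perm.RankThreeFrob

open MulAction

universe u v

variable {G : Type u} [Group G] {X : Type v} [MulAction G X] [Finite G] [Finite X] [FaithfulSMul G X]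
  {A B D : X}

namespace Setup

variable (h : Setup G A B D)
include h

theorem regular_sixteen (hX : Nat.card X = 16) (hsol : Group.IsSolvable G) :
    ∃ N : Subgroup G, N.Normal ∧ Nat.card N = 16 ∧ ∀ x y : X, ∃! n : ↥N, (n : G) • x = y := by
  classical
  haveI := hsol
  haveI : Fintype (Subgroup G) := Fintype.ofFinite _
  haveI : Nontrivial G := by
    refine Finite.one_lt_card_iff_nontrivial.1 ?_
    have := h.card_G
    rw [hX] at this
    obtain ⟨-, -, -, -, -, -, -, hc2, -, -⟩ := h.params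
    have := h.one_lt_kk
    nlinarith
  obtain ⟨N, hN, hmin⟩ := Finset.exists_min_image
    (Finset.univ.filter fun N : Subgroup G => N.Normal ∧ N ≠ ⊥) (fun N => Nat.card N)
    ⟨⊤, by simp only [Finset.mem_filter, Finset.mem_univ, true_and]; exact ⟨inferInstance, top_ne_bot⟩⟩
  obtain ⟨hNn, hNne⟩ := (Finset.mem_filter.1 hN).2
  haveI := hNn
  have hmin' : ∀ K : Subgroup G, K.Normal → K ≤ N → K = ⊥ ∨ K = N := fun K hK hKN => by
    by_cases e : K = ⊥
    · exact Or.inl e
    · exact Or.inr (Subgroup.eq_of_le_of_card_ge hKN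
        (hmin K (by simp only [Finset.mem_filter, Finset.mem_univ, true_and]; exact ⟨hK, e⟩)))
  have key := fun x : X => Cfsg.Agent.Grp.solvable_primitive h.prim N hNne hmin' x
  have hex : ∀ x y : X, ∃ n : ↥N, (n : G) • x = y := fun x y => by
    haveI := (key x).2.2.1
    exact MulAction.exists_smul_eq ↥N x y
  have huniq : ∀ (x : X) (n m : ↥N), (n : G) • x = (m : G) • x → n = m := fun x n m e => by
    have h1 : (m : G)⁻¹ * n ∈ N ⊓ stabilizer G x :=
      ⟨show (m : G)⁻¹ * n ∈ N from mul_mem (inv_mem m.2) n.2, by show ((m : G)⁻¹ * n) • x = x; rw [mul_smul, e, inv_smul_smul]⟩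
    rw [(key x).1, Subgroup.mem_bot] at h1
    exact Subtype.ext (inv_mul_eq_one.1 h1).symm
  refine ⟨N, hNn, ?_, fun x y => ?_⟩
  · rw [← hX]
    exact Nat.card_congr (Equiv.ofBijective (fun n : ↥N => (n : G) • A)
      ⟨fun n m e => huniq A n m e, fun y => hex A y⟩)
  · obtain ⟨n, hn⟩ := hex x y
    exact ⟨n, hn, fun m hm => huniq x m n (hm.trans hn.symm)⟩

theorem sixty_simple (hX : Nat.card X = 10) (hG : Nat.card G = 60) : IsSimpleGroup G := by
  classical
  haveI : Nontrivial G := Finite.one_lt_card_iff_nontrivial.1 (by omega)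
  haveI : Fact (Nat.Prime 5) := ⟨Nat.prime_five⟩
  haveI : Fintype G := Fintype.ofFinite G
  -- the parameters
  obtain ⟨e, f, hf1, hlam, hk, hmu, hld, hc2, hd, hl⟩ := h.params
  have hkc : kk G A B * cc G A B = 6 := by
    have := h.card_G
    rw [hX, hG] at this
    omega
  obtain ⟨-, hcop, hdiv, -, -⟩ := h.card_Kf_base
  have hk3 : kk G A B = 3 ∧ cc G A B = 2 := by
    have h1 := h.one_lt_kk
    have h2 : kk G A B * 2 ≤ 6 := hkc ▸ Nat.mul_le_mul_left _ hc2
    have : kk G A B ≤ 3 := by omega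
    interval_cases hkk : kk G A B
    · rw [show cc G A B = 3 by omega] at hdiv
      norm_num at hdiv
    · exact ⟨rfl, by omega⟩
  have hd1 : dd G A D = 1 := by
    have hv := h.card_X
    rw [hX, hk3.1] at hv
    rw [show ll G A B = 6 by omega, hkc] at hld
    omega
  have hKonly : ∀ {P y : X} {x : G}, x ∈ Kf G A B P → x ≠ 1 → x • y = y → y = P := by
    intro P y x hx hx1 hy
    by_contra hne
    obtain ⟨g, gA, gy⟩ := h.far_trans (h.far_of_fix hx hx1 hy hne) h.farD
    have hmem : g * x * g⁻¹ ∈ stabilizer G A ⊓ stabilizer G D := by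
      constructor
      · show (g * x * g⁻¹) • A = A
        rw [← gA, mul_smul, mul_smul, inv_smul_smul, h.Kf_fix hx]
      · show (g * x * g⁻¹) • D = D
        rw [← gy, mul_smul, mul_smul, inv_smul_smul, hy]
    rw [Subgroup.eq_bot_of_card_eq _ hd1, Subgroup.mem_bot] at hmem
    exact hx1 (by rw [show x = g⁻¹ * (g * x * g⁻¹) * g by group, hmem]; group)
  refine ⟨fun N hN => ?_⟩
  by_contra hne
  push Not at hne
  obtain ⟨hb, ht⟩ := hne
  haveI := hN
  have h10 : ∀ M : Subgroup G, M.Normal → M ≠ ⊥ → 10 ∣ Nat.card M := fun M hM hM1 => by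
    haveI := hM
    haveI : IsPretransitive ↥M X := ⟨fun P Q => by
      obtain ⟨g, hg, e⟩ := h.normal_transitive M hM1 P Q
      exact ⟨⟨g, hg⟩, e⟩⟩
    rw [← hX, ← Nat.card_congr (orbitProdStabilizerEquivGroup ↥M A), Nat.card_prod, MulAction.orbit_eq_univ,
      Nat.card_congr (Equiv.Set.univ X)]
    exact dvd_mul_right _ _
  have hN10 := h10 N hN hb
  have hN5 : 5 ∣ Nat.card N := Dvd.dvd.trans (by norm_num) hN10
  have hNd : Nat.card N ∣ 60 := hG ▸ N.card_subgroup_dvd_card
  have hN60 : Nat.card N ≠ 60 := fun e => ht (Subgroup.eq_top_of_card_eq N (e.trans hG.symm))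
  have hN3 : Nat.card N = 10 ∨ Nat.card N = 20 ∨ Nat.card N = 30 := by
    have := Nat.le_of_dvd (by norm_num) hNd
    obtain ⟨r, hr⟩ := hN10
    have : r ≤ 6 := by omega
    have hpos : 0 < Nat.card N := Nat.card_pos
    interval_cases r <;> rw [hr] at hNd hN60 hpos ⊢ <;> first | omega | (norm_num at hNd)
  have hsy : Nat.card (Sylow 5 ↥N) ≠ 1 := by
    intro e1
    obtain ⟨P⟩ : Nonempty (Sylow 5 ↥N) := inferInstance
    haveI : Subsingleton (Sylow 5 ↥N) := (Nat.card_eq_one_iff_unique.1 e1).1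
    haveI : (P : Subgroup ↥N).Characteristic := Sylow.characteristic_of_subsingleton P
    have hPn : ((P : Subgroup ↥N).map N.subtype).Normal := inferInstance
    have hPne : (P : Subgroup ↥N).map N.subtype ≠ ⊥ := fun e => by
      have := (Subgroup.map_eq_bot_iff_of_injective _ (Subgroup.subtype_injective N)).1 e
      exact P.ne_bot_of_dvd_card hN5 this
    have h2 := h10 _ hPn hPne
    rw [← Nat.card_congr ((P : Subgroup ↥N).equivMapOfInjective _ (Subgroup.subtype_injective N)).toEquiv,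
      P.card_eq_multiplicity] at h2
    have := Nat.prime_two.dvd_of_dvd_pow (Dvd.dvd.trans (by norm_num : 2 ∣ 10) h2)
    norm_num at this
  have hmod : Nat.card (Sylow 5 ↥N) % 5 = 1 := card_sylow_modEq_one 5 ↥N
  obtain ⟨P⟩ : Nonempty (Sylow 5 ↥N) := inferInstance
  have hdvdN : Nat.card (Sylow 5 ↥N) ∣ Nat.card ↥N := by
    rw [P.card_eq_index_normalizer]; exact Subgroup.index_dvd_card _
  have hn6 : Nat.card N = 30 ∧ Nat.card (Sylow 5 ↥N) = 6 := by
    have := Nat.le_of_dvd Nat.card_pos hdvdN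
    rcases hN3 with e | e | e <;> rw [e] at hdvdN this
    · exfalso; interval_cases Nat.card (Sylow 5 ↥N) <;> omega
    · exfalso; interval_cases Nat.card (Sylow 5 ↥N) <;> omega
    · refine ⟨e, ?_⟩; interval_cases Nat.card (Sylow 5 ↥N) <;> omega
  obtain ⟨hN30, hs6⟩ := hn6
  -- elements of order five and of order three
  have hidx : N.index = 2 := by
    have := N.card_mul_index
    rw [hG, hN30] at this; omega
  have hKN : ∀ {P : X} {x : G}, x ∈ Kf G A B P → x ∈ N := fun {P x} hx => by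
    have h3 := h.pow_kk hx
    rw [hk3.1, pow_succ] at h3
    have h2 : x ^ 2 ∈ N := hidx ▸ Subgroup.pow_index_mem N x
    rw [show x = (x ^ 2)⁻¹ by rw [eq_inv_iff_mul_eq_one, ← pow_succ', pow_succ]; exact h3]
    exact inv_mem h2
  have hP5 : ∀ Q : Sylow 5 ↥N, Nat.card (Q : Subgroup ↥N) = 5 := fun Q => by
    rw [Q.card_eq_multiplicity, hN30]
    have : (30 : ℕ).factorization 5 = 1 := by
      rw [show (30 : ℕ) = 6 * 5 from rfl, Nat.factorization_mul (by norm_num) (by norm_num), Finsupp.add_apply,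
        Nat.factorization_eq_zero_of_not_dvd (by norm_num), Nat.prime_five.factorization_self]
    rw [this, pow_one]
  let α := (Σ Q : Sylow 5 ↥N, {x : ↥(Q : Subgroup ↥N) // x ≠ 1}) ⊕ (Σ P : X, {x : ↥(Kf G A B P) // x ≠ 1})
  let φ : α → G := Sum.elim (fun s => ((s.2.1 : ↥N) : G)) fun s => ((s.2.1 : ↥(Kf G A B s.1)) : G)
  have hord5 : ∀ (Q : Sylow 5 ↥N) (x : ↥(Q : Subgroup ↥N)), x ≠ 1 → orderOf ((x : ↥N) : G) = 5 := fun Q x hx => by
    rw [Subgroup.orderOf_coe, Subgroup.orderOf_coe]
    have := orderOf_dvd_natCard x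
    rw [hP5 Q] at this
    exact ((Nat.dvd_prime Nat.prime_five).1 this).resolve_left (fun e => hx (orderOf_eq_one_iff.1 e))
  have hord3 : ∀ (P : X) (x : ↥(Kf G A B P)), orderOf (x : G) ∣ 3 := fun P x =>
    hk3.1 ▸ orderOf_dvd_of_pow_eq_one (h.pow_kk x.2)
  have hφ : Function.Injective φ := by
    rintro (⟨Q, x, hx⟩ | ⟨P', x, hx⟩) (⟨Q', y, hy⟩ | ⟨P'', y, hy⟩) e
    · have e' : (x : ↥N) = (y : ↥N) := Subtype.ext e
      have hQ : Q = Q' := by
        apply Sylow.ext
        have hsame : ∀ (R : Sylow 5 ↥N) (r : ↥(R : Subgroup ↥N)), r ≠ 1 →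
            (R : Subgroup ↥N) = Subgroup.zpowers (r : ↥N) := fun R r hr => by
          refine (Subgroup.eq_of_le_of_card_ge (Subgroup.zpowers_le.2 r.2) ?_).symm
          rw [hP5 R, Nat.card_zpowers, ← Subgroup.orderOf_coe (a := (r : ↥N)), hord5 R r hr]
        rw [hsame Q x hx, hsame Q' y hy, e']
      subst hQ
      exact congrArg Sum.inl (Sigma.ext rfl (heq_of_eq (Subtype.ext (Subtype.ext e'))))
    · exfalso
      have h1 := hord5 Q x hx
      have h2 := hord3 P'' y
      rw [show ((x : ↥N) : G) = (y : G) from e] at h1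
      rw [h1] at h2; norm_num at h2
    · exfalso
      have h1 := hord5 Q' y hy
      have h2 := hord3 P' x
      rw [show ((y : ↥N) : G) = (x : G) from e.symm] at h1
      rw [h1] at h2; norm_num at h2
    · have hP : P' = P'' := hKonly y.2 (fun e' => hy (Subtype.ext e')) (by
        rw [← show (x : G) = (y : G) from e]; exact h.Kf_fix x.2)
      subst hP
      exact congrArg Sum.inr (Sigma.ext rfl (heq_of_eq (Subtype.ext (Subtype.ext e))))
  have hφN : ∀ a, φ a ∈ N := by
    rintro (⟨Q, x, hx⟩ | ⟨P', x, hx⟩)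
    · exact (x : ↥N).2
    · exact hKN x.2
  have hle := Nat.card_le_card_of_injective (fun a => (⟨φ a, hφN a⟩ : ↥N))
    fun a b e => hφ (congrArg Subtype.val e)
  haveI := Fintype.ofFinite X
  haveI := Fintype.ofFinite (Sylow 5 ↥N)
  have hc1 : ∀ (L : Type u) [Group L] [Finite L], Nat.card {x : L // x ≠ 1} = Nat.card L - 1 := fun L _ _ => by
    haveI := Fintype.ofFinite L
    rw [Nat.card_eq_fintype_card, Nat.card_eq_fintype_card, Fintype.card_subtype_compl, Fintype.card_subtype_eq]
  rw [Nat.card_sum, Nat.card_sigma, Nat.card_sigma, hN30] at hle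
  simp only [hc1, hP5, h.card_Kf, hk3.1, Finset.sum_const, Finset.card_univ, smul_eq_mul] at hle
  rw [← Nat.card_eq_fintype_card, ← Nat.card_eq_fintype_card, hs6, hX] at hle
  omega

end Setup

end Cfsg.Agent.Perm.RankThreeFrob
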